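import Mathlib
import Cfsg.Agent.H1.Basic

set_option autoImplicit false

namespace Cfsg.Agent.H7

open Subgroup

section ClassNum

variable {X : Type*} [Group X] [Finite X]

open Classical in
/-- counting commuting pairs in `A × B` by the first coordinate -/
theorem sum_card_filter_commute [Fintype X] (A B : Finset X) :
    ∑ a ∈ A, (B.filter (fun b => Commute a b)).card =
      ∑ b ∈ B, (A.filter (fun a => Commute b a)).card := by
  simp only [Finset.card_filter]
  rw [Finset.sum_comm]
  refine Finset.sum_congr rfl fun b _ => Finset.sum_congr rfl fun a _ => ?_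
  by_cases h : Commute a b
  · simp [h, h.symm]
  · have h' : ¬ Commute b a := fun h' => h h'.symm
    simp [h, h']

open Classical in
theorem card_inf_centralizer_eq_filter [Fintype X] (B : Subgroup X) (a : X) :
    Nat.card (B ⊓ centralizer {a} : Subgroup X) =
      ((Finset.univ.filter (· ∈ B)).filter (fun b => Commute a b)).card := by
  rw [← Nat.card_eq_finsetCard]
  refine Nat.card_congr (Equiv.subtypeEquivRight fun b => ?_)
  simp only [mem_inf, mem_centralizer_singleton_iff, Finset.mem_filter, Finset.mem_univ, true_and]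
  exact and_congr_right fun _ => ⟨fun h => h.symm, fun h => h.symm⟩

open Classical in
theorem classNum_mul_card [Fintype X] :
    Nat.card (ConjClasses X) * Nat.card X = ∑ a : X, Nat.card (centralizer {a} : Subgroup X) := by
  rw [← card_comm_eq_card_conjClasses_mul_card]
  have e : {p : X × X // Commute p.1 p.2} ≃ Σ a : X, (centralizer {a} : Subgroup X) :=
    { toFun := fun p => ⟨p.1.1, p.1.2, mem_centralizer_singleton_iff.2 p.2.symm⟩
      invFun := fun q => ⟨(q.1, q.2.1), (mem_centralizer_singleton_iff.1 q.2.2).symm⟩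
      left_inv := fun _ => rfl
      right_inv := fun _ => rfl }
  rw [Nat.card_congr e, Nat.card_sigma]

open Classical in
theorem classNum_subgroup_mul_card [Fintype X] (Y : Subgroup X) :
    Nat.card (ConjClasses Y) * Nat.card Y =
      ∑ a ∈ Finset.univ.filter (· ∈ Y), Nat.card (Y ⊓ centralizer {a} : Subgroup X) := by
  rw [classNum_mul_card]
  rw [Finset.sum_subtype (p := (· ∈ Y)) (Finset.univ.filter (· ∈ Y)) (by simp)]
  refine Finset.sum_congr (by congr) fun a _ => ?_
  refine Nat.card_congr
    { toFun := fun b => ⟨b.1.1, b.1.2, mem_centralizer_singleton_iff.2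
        (congrArg Subtype.val (mem_centralizer_singleton_iff.1 b.2))⟩
      invFun := fun b => ⟨⟨b.1, b.2.1⟩, mem_centralizer_singleton_iff.2
        (Subtype.ext (mem_centralizer_singleton_iff.1 b.2.2))⟩
      left_inv := fun _ => rfl
      right_inv := fun _ => rfl }

theorem card_le_index_mul_card_inf (Y C : Subgroup X) :
    Nat.card C ≤ Y.index * Nat.card (Y ⊓ C : Subgroup X) := by
  have h1 := H1.card_mul_relIndex (inf_le_right : Y ⊓ C ≤ C)
  rw [inf_relIndex_right] at h1
  rw [← h1, mul_comm]
  refine Nat.mul_le_mul_right _ ?_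
  have := relIndex_le_of_le_right (H := Y) (le_top : C ≤ ⊤) (by simp [index_ne_zero_of_finite])
  simpa using this

theorem card_lt_index_mul_card_inf (Y C : Subgroup X) (h : ∃ g : X, ∀ y ∈ Y, ∀ c ∈ C, g ≠ c * y) :
    Nat.card C < Y.index * Nat.card (Y ⊓ C : Subgroup X) := by
  have h1 := H1.card_mul_relIndex (inf_le_right : Y ⊓ C ≤ C)
  rw [inf_relIndex_right] at h1
  rw [← h1, mul_comm]
  refine Nat.mul_lt_mul_of_pos_right ?_ Nat.card_pos
  obtain ⟨g, hg⟩ := h
  let f : C ⧸ Y.subgroupOf C → X ⧸ Y := Quotient.map' Subtype.val (fun a b hab => by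
    rw [QuotientGroup.leftRel_apply] at hab ⊢
    exact hab)
  have hf : Function.Injective f := by
    intro a b
    induction a using QuotientGroup.induction_on with | H a => ?_
    induction b using QuotientGroup.induction_on with | H b => ?_
    intro hab
    have : ((a : X) : X ⧸ Y) = ((b : X) : X ⧸ Y) := hab
    rw [QuotientGroup.eq] at this ⊢
    exact this
  have hns : ¬ Function.Surjective f := by
    intro hs
    obtain ⟨a, ha⟩ := hs (g : X ⧸ Y)
    induction a using QuotientGroup.induction_on with | H a => ?_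
    have : ((a : X) : X ⧸ Y) = (g : X ⧸ Y) := ha
    rw [QuotientGroup.eq] at this
    exact hg _ this a a.2 (by group)
  have := Fintype.ofFinite (C ⧸ Y.subgroupOf C)
  have := Fintype.ofFinite (X ⧸ Y)
  rw [relIndex, index, index, Nat.card_eq_fintype_card, Nat.card_eq_fintype_card]
  exact Fintype.card_lt_of_injective_not_surjective f hf hns

theorem classNum_subgroup_le (Y : Subgroup X) :
    Nat.card (ConjClasses Y) ≤ Y.index * Nat.card (ConjClasses X) := by
  classical
  have := Fintype.ofFinite X
  have h1 := classNum_subgroup_mul_card Y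
  have h2 := classNum_mul_card (X := X)
  have h3 : Nat.card (ConjClasses Y) * Nat.card Y ≤ Nat.card (ConjClasses X) * Nat.card X := by
    rw [h1, h2]
    calc _ ≤ ∑ a ∈ Finset.univ.filter (· ∈ Y), Nat.card (centralizer {a} : Subgroup X) :=
          Finset.sum_le_sum fun a _ => card_le_of_le inf_le_right
      _ ≤ _ := Finset.sum_le_sum_of_subset (Finset.filter_subset _ _)
  rw [← Y.card_mul_index] at h3
  have hpos : 0 < Nat.card Y := Nat.card_pos
  nlinarith

theorem classNum_aux_le [Fintype X] (Y : Subgroup X) :
    Nat.card (ConjClasses X) * Nat.card X ≤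
      Y.index * ∑ a ∈ (open Classical in Finset.univ.filter (· ∈ Y)),
        Nat.card (centralizer {a} : Subgroup X) := by
  classical
  rw [classNum_mul_card]
  calc _ ≤ ∑ a : X, Y.index * Nat.card (Y ⊓ centralizer {a} : Subgroup X) :=
        Finset.sum_le_sum fun a _ => card_le_index_mul_card_inf Y _
    _ = _ := by
        rw [← Finset.mul_sum]
        congr 1
        simp only [card_inf_centralizer_eq_filter]
        rw [sum_card_filter_commute]
        refine Finset.sum_congr (by congr) fun a _ => ?_
        have := card_inf_centralizer_eq_filter (⊤ : Subgroup X) a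
        rw [top_inf_eq] at this
        rw [this]
        congr 2
        simp

theorem classNum_le_index_mul (Y : Subgroup X) :
    Nat.card (ConjClasses X) ≤ Y.index * Nat.card (ConjClasses Y) := by
  classical
  have := Fintype.ofFinite X
  have h1 := classNum_subgroup_mul_card Y
  have h2 := classNum_aux_le Y
  have h3 : ∑ a ∈ Finset.univ.filter (· ∈ Y), Nat.card (centralizer {a} : Subgroup X) ≤
      Y.index * (Nat.card (ConjClasses Y) * Nat.card Y) := by
    rw [h1, Finset.mul_sum]
    exact Finset.sum_le_sum fun a _ => card_le_index_mul_card_inf Y _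
  have h4 := h2.trans (Nat.mul_le_mul_left _ (by convert h3))
  rw [← Y.card_mul_index] at h4
  have hpos : 0 < Nat.card Y * Y.index := Nat.mul_pos Nat.card_pos
    (Nat.pos_of_ne_zero index_ne_zero_of_finite)
  refine Nat.le_of_mul_le_mul_right ?_ hpos
  calc _ ≤ _ := h4
    _ = _ := by ring

theorem classNum_lt_index_mul (Y : Subgroup X) (hY : ¬ Y.Normal) :
    Nat.card (ConjClasses X) < Y.index * Nat.card (ConjClasses Y) := by
  classical
  have := Fintype.ofFinite X
  have h1 := classNum_subgroup_mul_card Y
  have h2 := classNum_aux_le Y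
  obtain ⟨y, hy, g, hg⟩ : ∃ y ∈ Y, ∃ g : X, g * y * g⁻¹ ∉ Y := by
    by_contra h
    push Not at h
    exact hY ⟨h⟩
  have h3 : ∑ a ∈ Finset.univ.filter (· ∈ Y), Nat.card (centralizer {a} : Subgroup X) <
      Y.index * (Nat.card (ConjClasses Y) * Nat.card Y) := by
    rw [h1, Finset.mul_sum]
    refine Finset.sum_lt_sum (fun a _ => card_le_index_mul_card_inf Y _) ⟨y, by simpa using hy, ?_⟩
    refine card_lt_index_mul_card_inf Y _ ⟨g⁻¹, fun z hz c hc h => hg ?_⟩
    have hg' : g = z⁻¹ * c⁻¹ := by rw [← mul_inv_rev, ← h, inv_inv]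
    have hc' : c⁻¹ * y * c = y := by
      rw [mem_centralizer_singleton_iff] at hc
      rw [mul_assoc, ← hc]; group
    rw [hg']
    have : z⁻¹ * c⁻¹ * y * (z⁻¹ * c⁻¹)⁻¹ = z⁻¹ * (c⁻¹ * y * c) * z := by group
    rw [this, hc']
    exact mul_mem (mul_mem (inv_mem hz) hy) hz
  have hi : 0 < Y.index := Nat.pos_of_ne_zero index_ne_zero_of_finite
  have h4 := h2.trans_lt (Nat.mul_lt_mul_of_pos_left (by convert h3) hi)
  rw [← Y.card_mul_index] at h4
  refine Nat.lt_of_mul_lt_mul_right (a := Nat.card Y * Y.index) ?_
  calc _ < _ := h4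
    _ = _ := by ring

theorem card_centralizer_le_quot (N : Subgroup X) [N.Normal] (x : X) :
    Nat.card (centralizer {x} : Subgroup X) ≤
      Nat.card (centralizer {(x : X ⧸ N)} : Subgroup (X ⧸ N)) *
        Nat.card (N ⊓ centralizer {x} : Subgroup X) := by
  have h1 := H1.card_mul_relIndex (inf_le_right : N ⊓ centralizer {x} ≤ centralizer {x})
  rw [inf_relIndex_right] at h1
  rw [← h1, mul_comm]
  refine Nat.mul_le_mul_right _ ?_
  have h2 : N.relIndex (centralizer {x}) =
      Nat.card ((centralizer {x} : Subgroup X).map (QuotientGroup.mk' N)) := by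
    conv_lhs => rw [← QuotientGroup.ker_mk' N]
    exact relIndex_ker _ _
  rw [h2]
  refine card_le_of_le ?_
  rintro _ ⟨c, hc, rfl⟩
  rw [SetLike.mem_coe, mem_centralizer_singleton_iff] at hc
  rw [mem_centralizer_singleton_iff, QuotientGroup.mk'_apply, ← QuotientGroup.mk_mul, hc, QuotientGroup.mk_mul]

theorem classNum_le_mul_quot (N : Subgroup X) [N.Normal] :
    Nat.card (ConjClasses X) ≤ Nat.card (ConjClasses N) * Nat.card (ConjClasses (X ⧸ N)) := by
  classical
  have := Fintype.ofFinite X
  have := Fintype.ofFinite (X ⧸ N)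
  have h1 := classNum_subgroup_mul_card N
  have h2 := classNum_mul_card (X := X)
  have h3 := classNum_mul_card (X := X ⧸ N)
  have key : ∀ q : X ⧸ N, ∑ x ∈ Finset.univ.filter (fun x : X => (x : X ⧸ N) = q),
      Nat.card (N ⊓ centralizer {x} : Subgroup X) ≤ Nat.card (ConjClasses N) * Nat.card N := by
    intro q
    rw [h1]
    simp only [card_inf_centralizer_eq_filter]
    rw [sum_card_filter_commute]
    refine Finset.sum_le_sum fun n hn => ?_
    by_cases hne : ((Finset.univ.filter (fun x : X => (x : X ⧸ N) = q)).filter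
        (fun a => Commute n a)).Nonempty
    · obtain ⟨a, ha⟩ := hne
      simp only [Finset.mem_filter, Finset.mem_univ, true_and] at ha
      refine Finset.card_le_card_of_injOn (fun b => a⁻¹ * b) ?_ ?_
      · intro b hb
        simp only [Finset.coe_filter, Finset.mem_filter, Finset.mem_univ, true_and,
          Set.mem_setOf_eq] at hb ⊢
        exact ⟨QuotientGroup.eq.1 (ha.1.trans hb.1.symm), ha.2.inv_right.mul_right hb.2⟩
      · intro b _ c _ h
        simpa using h
    · rw [Finset.not_nonempty_iff_eq_empty] at hne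
      rw [hne]; simp
  have h4 : Nat.card (ConjClasses X) * Nat.card X ≤
      (Nat.card (ConjClasses (X ⧸ N)) * Nat.card (X ⧸ N)) *
        (Nat.card (ConjClasses N) * Nat.card N) := by
    rw [h2, h3, Finset.sum_mul,
      ← Finset.sum_fiberwise (s := Finset.univ) (g := fun x : X => (x : X ⧸ N))]
    refine Finset.sum_le_sum fun q _ => ?_
    calc _ ≤ ∑ x ∈ Finset.univ.filter (fun x : X => (x : X ⧸ N) = q),
          Nat.card (centralizer {q} : Subgroup (X ⧸ N)) *
            Nat.card (N ⊓ centralizer {x} : Subgroup X) := by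
          refine Finset.sum_le_sum fun x hx => ?_
          simp only [Finset.mem_filter, Finset.mem_univ, true_and] at hx
          rw [← hx]
          exact card_centralizer_le_quot N x
      _ ≤ _ := by
          rw [← Finset.mul_sum]
          exact Nat.mul_le_mul_left _ (key q)
  rw [card_eq_card_quotient_mul_card_subgroup N] at h4
  have hpos : 0 < Nat.card (X ⧸ N) * Nat.card N := Nat.mul_pos Nat.card_pos Nat.card_pos
  refine Nat.le_of_mul_le_mul_right ?_ hpos
  calc _ ≤ _ := h4
    _ = _ := by ring

end ClassNum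

end Cfsg.Agent.H7
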