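import Mathlib

/-! Gaschütz's theorem through corestriction of crossed homomorphisms. -/

set_option autoImplicit false

namespace Cfsg.Agent.H7

open Subgroup
open scoped IsMulCommutative

variable {G : Type*} [Group G]

/-- There is a crossed homomorphism from `H` to `A` that is the `m`-th power map on `A`. -/
def HasCrossedPow (A : Subgroup G) [A.Normal] (H : Subgroup G) (m : ℤ) : Prop :=
  ∃ θ : G → A, (∀ x ∈ H, ∀ y ∈ H, θ (x * y) = MulAut.conjNormal x (θ y) * θ x) ∧
    ∀ a : A, θ a = a ^ m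

theorem hasCrossedPow_of_complement (A H K : Subgroup G) [hA : A.Normal] (h1 : K ⊓ A = ⊥)
    (h2 : K ⊔ A = H) : HasCrossedPow A H 1 := by
  classical
  have ex : ∀ g : G, ∃ a : A, g ∈ H → (a : G)⁻¹ * g ∈ K := by
    intro g
    by_cases hg : g ∈ H
    · rw [← h2, sup_comm, ← SetLike.mem_coe, normal_mul] at hg
      obtain ⟨a, ha, k, hk, rfl⟩ := hg
      exact ⟨⟨a, ha⟩, fun _ => by simpa using hk⟩
    · exact ⟨1, fun h => absurd h hg⟩
  have un : ∀ (g : G) (a b : A), (a : G)⁻¹ * g ∈ K → (b : G)⁻¹ * g ∈ K → a = b := by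
    intro g a b h3 h4
    have : (a : G)⁻¹ * b ∈ K ⊓ A := ⟨by simpa using K.mul_mem h3 (K.inv_mem h4),
      A.mul_mem (A.inv_mem a.2) b.2⟩
    rw [h1, mem_bot] at this
    exact Subtype.ext (inv_mul_eq_one.1 this)
  choose θ hθ using ex
  have hAH : A ≤ H := h2 ▸ le_sup_right
  refine ⟨θ, fun x hx y hy => ?_, fun a => ?_⟩
  · refine un (x * y) _ _ (hθ _ (H.mul_mem hx hy)) ?_
    have := K.mul_mem (hθ x hx) (hθ y hy)
    convert this using 1
    simp only [coe_mul, MulAut.conjNormal_apply]; group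
  · rw [zpow_one]
    exact un a _ _ (hθ a (hAH a.2)) (by simp)

theorem exists_complement_of_hasCrossedPow (A : Subgroup G) [hA : A.Normal]
    (h : HasCrossedPow A ⊤ 1) : ∃ K : Subgroup G, K.IsComplement' A := by
  obtain ⟨θ, h1, h2⟩ := h
  have h0 : θ 1 = 1 := by simpa using h2 1
  let K : Subgroup G :=
    { carrier := {g | θ g = 1}
      one_mem' := h0
      mul_mem' := fun {a b} ha hb => by
        change θ (a * b) = 1
        rw [h1 a trivial b trivial, show θ a = 1 from ha, show θ b = 1 from hb]; simp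
      inv_mem' := fun {a} ha => by
        have := h1 a⁻¹ trivial a trivial
        rw [inv_mul_cancel, h0, show θ a = 1 from ha] at this
        simpa using this.symm }
  refine ⟨K, isComplement'_of_disjoint_and_mul_eq_univ ?_ ?_⟩
  · rw [disjoint_def]
    intro x hx hxA
    have := h2 ⟨x, hxA⟩
    rw [zpow_one, show θ x = 1 from hx] at this
    exact (congrArg Subtype.val this).symm
  · rw [Set.eq_univ_iff_forall]
    intro g
    refine ⟨(θ g : G)⁻¹ * g, ?_, g⁻¹ * θ g * g, by simpa using hA.conj_mem _ (θ g).2 g⁻¹, by group⟩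
    change θ _ = 1
    rw [h1 _ trivial _ trivial]
    have := h2 (θ g)⁻¹
    rw [zpow_one, coe_inv] at this
    rw [this]
    ext; simp

variable (A : Subgroup G) [hA : A.Normal] [hc : IsMulCommutative A]

theorem HasCrossedPow.add {H : Subgroup G} {m n : ℤ} (h1 : HasCrossedPow A H m)
    (h2 : HasCrossedPow A H n) : HasCrossedPow A H (m + n) := by
  obtain ⟨θ, a1, a2⟩ := h1
  obtain ⟨η, b1, b2⟩ := h2
  refine ⟨fun g => θ g * η g, fun x hx y hy => ?_, fun a => ?_⟩
  · simp only [a1 x hx y hy, b1 x hx y hy, map_mul]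
    exact mul_mul_mul_comm _ _ _ _
  · simp only [a2, b2, zpow_add]

theorem HasCrossedPow.mul {H : Subgroup G} {m : ℤ} (h1 : HasCrossedPow A H m) (k : ℤ) :
    HasCrossedPow A H (m * k) := by
  obtain ⟨θ, a1, a2⟩ := h1
  refine ⟨fun g => θ g ^ k, fun x hx y hy => ?_, fun a => ?_⟩
  · simp only [a1 x hx y hy, map_zpow, mul_zpow]
  · simp only [a2, zpow_mul]

omit hc in
theorem hasCrossedPow_card (H : Subgroup G) : HasCrossedPow A H (Nat.card A) :=
  ⟨fun _ => 1, fun _ _ _ _ => by simp, fun a => by simp⟩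

/-- Corestriction. -/
theorem HasCrossedPow.cores {H : Subgroup G} [H.FiniteIndex] (hAH : A ≤ H) {m : ℤ}
    (h : HasCrossedPow A H m) : HasCrossedPow A ⊤ (m * H.index) := by
  classical
  obtain ⟨φ, a1, a2⟩ := h
  have : Fintype (G ⧸ H) := Fintype.ofFinite _
  have hmem : ∀ (g : G) (q : G ⧸ H), (g • q).out⁻¹ * g * q.out ∈ H := by
    intro g q
    rw [mul_assoc, ← QuotientGroup.eq, QuotientGroup.out_eq', ← smul_eq_mul,
      MulAction.Quotient.mk_smul_out]
  refine ⟨fun g => ∏ q : G ⧸ H, MulAut.conjNormal (g • q).out (φ ((g • q).out⁻¹ * g * q.out)),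
    fun x _ y _ => ?_, fun a => ?_⟩
  · beta_reduce
    rw [map_prod, ← Equiv.prod_comp (MulAction.toPerm y)
      (fun q : G ⧸ H => MulAut.conjNormal (x • q).out (φ ((x • q).out⁻¹ * x * q.out))),
      ← Finset.prod_mul_distrib]
    refine Finset.prod_congr rfl fun q _ => ?_
    simp only [MulAction.toPerm_apply, mul_smul]
    have e : (x • y • q).out⁻¹ * (x * y) * q.out =
        ((x • y • q).out⁻¹ * x * (y • q).out) * ((y • q).out⁻¹ * y * q.out) := by group
    rw [e, a1 _ (hmem x (y • q)) _ (hmem y q), map_mul]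
    congr 1
    ext
    simp only [MulAut.conjNormal_apply]; group
  · have hq : ∀ q : G ⧸ H, (a : G) • q = q := by
      intro q
      rw [← QuotientGroup.out_eq' q, MulAction.Quotient.smul_mk, QuotientGroup.eq, smul_eq_mul]
      apply hAH
      have := hA.conj_mem _ (A.inv_mem a.2) q.out⁻¹
      simpa [mul_assoc] using this
    have : ∀ q : G ⧸ H, MulAut.conjNormal ((a : G) • q).out
        (φ (((a : G) • q).out⁻¹ * a * q.out)) = a ^ m := by
      intro q
      rw [hq]
      have h1 : q.out⁻¹ * a * q.out = ((MulAut.conjNormal q.out⁻¹ a : A) : G) := by simp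
      rw [h1, a2, map_zpow, ← MulAut.mul_apply, ← map_mul]; simp
    simp only [this, Finset.prod_const, Finset.card_univ]
    rw [zpow_mul, zpow_natCast, index, Nat.card_eq_fintype_card]

/-- **Gaschütz's theorem**: an abelian normal subgroup `A ≤ H` with `|A|` prime to `|G : H|` that
has a complement in `H` has one in `G`. -/
theorem gaschutz [Finite G] {H K : Subgroup G} (h1 : K ⊓ A = ⊥) (h2 : K ⊔ A = H)
    (hcop : (Nat.card A).Coprime H.index) : ∃ L : Subgroup G, L.IsComplement' A := by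
  apply exists_complement_of_hasCrossedPow
  have h3 := (hasCrossedPow_of_complement A H K h1 h2).cores A (h2 ▸ le_sup_right)
  have h4 := hasCrossedPow_card A ⊤
  have h5 := (h4.mul A (Nat.gcdA (Nat.card A) H.index)).add A
    (h3.mul A (Nat.gcdB (Nat.card A) H.index))
  rwa [one_mul, ← Nat.gcd_eq_gcd_ab, hcop.gcd_eq_one, Nat.cast_one] at h5

/-- Gaschütz's theorem, local form over all primes. -/
theorem gaschutz_of_forall_prime [Finite G]
    (h : ∀ p : ℕ, p.Prime → p ∣ A.index →
      ∃ H K : Subgroup G, K ⊓ A = ⊥ ∧ K ⊔ A = H ∧ ¬ p ∣ H.index) :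
    ∃ L : Subgroup G, L.IsComplement' A := by
  classical
  apply exists_complement_of_hasCrossedPow
  have hex : ∃ m : ℕ, 0 < m ∧ HasCrossedPow A ⊤ m := by
    refine ⟨A.index, Nat.pos_of_ne_zero FiniteIndex.index_ne_zero, ?_⟩
    simpa using (hasCrossedPow_of_complement A A ⊥ (by simp) (by simp)).cores A le_rfl
  have hmin := Nat.find_spec hex
  have hdvd : ∀ n : ℕ, HasCrossedPow A ⊤ n → Nat.find hex ∣ n := by
    intro n hn
    have h5 := (hmin.2.mul A (Nat.gcdA (Nat.find hex) n)).add A (hn.mul A (Nat.gcdB (Nat.find hex) n))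
    rw [← Nat.gcd_eq_gcd_ab] at h5
    have h6 := Nat.find_min' hex ⟨Nat.gcd_pos_of_pos_left n hmin.1, h5⟩
    have h7 := Nat.le_of_dvd hmin.1 (Nat.gcd_dvd_left (Nat.find hex) n)
    exact (le_antisymm h7 h6) ▸ Nat.gcd_dvd_right _ _
  have h1 : Nat.find hex = 1 := by
    by_contra hne
    obtain ⟨p, hp, hpd⟩ := Nat.exists_prime_and_dvd hne
    have h2 : p ∣ A.index := hpd.trans (hdvd _ (by
      simpa using (hasCrossedPow_of_complement A A ⊥ (by simp) (by simp)).cores A le_rfl))
    obtain ⟨H, K, h3, h4, h5⟩ := h p hp h2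
    exact h5 (hpd.trans (hdvd _ (by
      simpa using (hasCrossedPow_of_complement A H K h3 h4).cores A (h4 ▸ le_sup_right))))
  have := hmin.2
  rwa [h1, Nat.cast_one] at this

end Cfsg.Agent.H7
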