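import Cfsg.Agent.H8.Tate
import Cfsg.Agent.H2.Components
import Cfsg.Agent.H7.Gaschutz
import Cfsg.Agent.H7.Frattini
import Cfsg.Agent.H4.Schur1
import Cfsg.Agent.H6.ZAction

/-! Groups whose Sylow `p`-subgroup is two-generated. -/

namespace Cfsg.Agent.H7

open Subgroup
open scoped commutatorElement IsMulCommutative Pointwise

variable {G : Type*} [Group G]

theorem hasNPC_of_le_normalizer_of_le_frattini [Finite G] {p : ℕ} [hp : Fact p.Prime]
    (P : Sylow p G) (K : Subgroup G) (hK : (P : Subgroup G) ≤ normalizer (K : Set G))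
    (h : K.subgroupOf P ≤ frattini (P : Subgroup G)) : HasNormalPComplement p K := by
  let H := normalizer (K : Set G)
  let Q : Sylow p H := P.subtype hK
  let e : (Q : Subgroup H) ≃* (P : Subgroup G) := Subgroup.subgroupOfEquivOfLe hK
  have h1 : HasNormalPComplement p (K.subgroupOf H) := by
    apply H8.hasNPC_of_normal_of_le_frattini Q
    intro x hx
    have h1 : e x ∈ frattini (P : Subgroup G) := h hx
    have := frattini_le_comap_frattini_of_surjective (φ := e.symm.toMonoidHom) e.symm.surjective h1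
    simpa using this
  exact H8.hasNPC_of_mulEquiv h1 (subgroupOfEquivOfLe le_normalizer)

theorem exists_sup_zpowers_of_not_le_frattini [Finite G] {p : ℕ} [hp : Fact p.Prime]
    (hgen : (frattini G).index = p ^ 2) (A : Subgroup G) (hA : ¬ A ≤ frattini G) :
    ∃ x : G, A ⊔ zpowers x = ⊤ := by
  have h1 : (A ⊔ frattini G).index ∣ p ^ 2 := hgen ▸ index_dvd_of_le le_sup_right
  obtain ⟨k, hk, hk2⟩ := (Nat.dvd_prime_pow hp.out).1 h1
  have hk3 : k ≠ 2 := by
    rintro rfl
    apply hA
    have := relIndex_mul_index (le_sup_right : frattini G ≤ A ⊔ frattini G)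
    rw [hk2, hgen] at this
    have h2 : (frattini G).relIndex (A ⊔ frattini G) = 1 :=
      Nat.eq_of_mul_eq_mul_right (pow_pos hp.out.pos 2) (by rw [this, one_mul])
    exact le_sup_left.trans (relIndex_eq_one.1 h2)
  have hk4 : k = 0 ∨ k = 1 := by omega
  rcases hk4 with rfl | rfl
  · refine ⟨1, frattini_nongenerating ?_⟩
    rw [pow_zero, index_eq_one] at hk2
    simpa using hk2
  · rw [pow_one] at hk2
    have hc : IsCoatom (A ⊔ frattini G) := by
      refine ⟨fun h => ?_, fun B hB => ?_⟩
      · rw [h, index_top] at hk2; exact hp.out.one_lt.ne hk2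
      · have h3 : B.index ∣ p := hk2 ▸ index_dvd_of_le hB.le
        rcases (Nat.dvd_prime hp.out).1 h3 with h4 | h4
        · exact index_eq_one.1 h4
        · exfalso
          have := relIndex_mul_index hB.le
          rw [hk2, h4] at this
          have h2 : (A ⊔ frattini G).relIndex B = 1 :=
            Nat.eq_of_mul_eq_mul_right hp.out.pos (by rw [this, one_mul])
          exact hB.not_ge (relIndex_eq_one.1 h2)
    obtain ⟨x, hx⟩ : ∃ x, x ∉ A ⊔ frattini G := by
      by_contra h
      push Not at h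
      exact hc.1 (eq_top_iff.2 fun x _ => h x)
    refine ⟨x, frattini_nongenerating ?_⟩
    rw [← sup_zpowers_eq_top_of_isCoatom hc hx]
    exact sup_right_comm _ _ _

/-- ambient version -/
theorem exists_inf_sup_zpowers [Finite G] {p : ℕ} [hp : Fact p.Prime] {P : Subgroup G}
    (hgen : (frattini P).index = p ^ 2) (K : Subgroup G)
    (hA : ¬ K.subgroupOf P ≤ frattini P) : ∃ x ∈ P, (K ⊓ P) ⊔ zpowers x = P := by
  obtain ⟨x, hx⟩ := exists_sup_zpowers_of_not_le_frattini hgen _ hA
  refine ⟨x, x.2, ?_⟩
  have := congrArg (Subgroup.map P.subtype) hx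
  rwa [Subgroup.map_sup, subgroupOf_map_subtype, MonoidHom.map_zpowers, ← MonoidHom.range_eq_map,
    range_subtype] at this

theorem commutator_le_of_inf_sup_zpowers {P K : Subgroup G} (hK : P ≤ normalizer (K : Set G))
    {x : G} (hx : x ∈ P) (h : (K ⊓ P) ⊔ zpowers x = P) : ⁅P, P⁆ ≤ K := by
  haveI : (K.subgroupOf P).Normal := normal_subgroupOf_of_le_normalizer hK
  have h1 : K.subgroupOf P ⊔ zpowers (⟨x, hx⟩ : P) = ⊤ := by
    apply map_injective P.subtype_injective
    rw [Subgroup.map_sup, subgroupOf_map_subtype, MonoidHom.map_zpowers, ← MonoidHom.range_eq_map,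
      range_subtype]
    exact h
  have h2 := Subgroup.Normal.commutator_le_of_self_sup_commutative_eq_top h1 inferInstance
  rw [← map_subtype_commutator]
  exact map_le_iff_le_comap.2 h2

/-- abelian Sylow subgroup: central `p`-elements of the derived subgroup are trivial -/
theorem eq_one_of_mem_center_of_mem_commutator [Finite G] {p : ℕ} [hp : Fact p.Prime]
    (P : Sylow p G) (hP : IsMulCommutative (P : Subgroup G)) {z : G} (hz : z ∈ center G)
    (hz' : z ∈ commutator G) {k : ℕ} (hk : z ^ p ^ k = 1) : z = 1 := by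
  have h1 := H4.pow_index_mem_commutator (P : Subgroup G) hz hz'
  rw [commutator_eq_bot_iff_le_centralizer.2 (le_centralizer _), mem_bot] at h1
  have h2 : orderOf z ∣ Nat.gcd (p ^ k) (P : Subgroup G).index :=
    Nat.dvd_gcd (orderOf_dvd_of_pow_eq_one hk) (orderOf_dvd_of_pow_eq_one h1)
  have h3 : (p ^ k).Coprime (P : Subgroup G).index :=
    ((Nat.Prime.coprime_iff_not_dvd hp.out).2 P.not_dvd_index).pow_left k
  rw [h3] at h2
  exact orderOf_eq_one_iff.1 (Nat.dvd_one.1 h2)

end Cfsg.Agent.H7
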