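import Cfsg.Agent.H7.HallPetrescu
import Cfsg.Agent.H7.Frattini
import Cfsg.Prelude.Def_PLocal

/-! Regular `p`-groups. -/

set_option autoImplicit false

namespace Cfsg.Agent.H7

open Subgroup
open scoped commutatorElement

variable {G : Type*} [Group G] {p : ℕ}

theorem pow_mem_powerClosure {H : Subgroup G} {n : ℕ} {x : G} (hx : x ∈ H) :
    x ^ p ^ n ∈ powerClosure p n H :=
  subset_closure ⟨x, hx, rfl⟩

theorem powerClosure_le (H : Subgroup G) (n : ℕ) : powerClosure p n H ≤ H := by
  rw [powerClosure, closure_le]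
  rintro _ ⟨x, hx, rfl⟩
  exact H.pow_mem hx _

theorem powerClosure_mono {H K : Subgroup G} (h : H ≤ K) (n : ℕ) :
    powerClosure p n H ≤ powerClosure p n K :=
  closure_mono fun _ ⟨x, hx, e⟩ => ⟨x, h hx, e⟩

theorem powerClosure_le_iff {H K : Subgroup G} {n : ℕ} :
    powerClosure p n H ≤ K ↔ ∀ x ∈ H, x ^ p ^ n ∈ K := by
  rw [powerClosure, closure_le]
  exact ⟨fun h x hx => h ⟨x, hx, rfl⟩, by rintro h _ ⟨x, hx, rfl⟩; exact h x hx⟩

theorem map_powerClosure {G' : Type*} [Group G'] (f : G →* G') (H : Subgroup G) (n : ℕ) :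
    (powerClosure p n H).map f = powerClosure p n (H.map f) := by
  rw [powerClosure, powerClosure, MonoidHom.map_closure]
  congr 1
  ext y
  constructor
  · rintro ⟨_, ⟨x, hx, rfl⟩, rfl⟩
    exact ⟨f x, mem_map_of_mem f hx, map_pow f x _⟩
  · rintro ⟨_, ⟨x, hx, rfl⟩, rfl⟩
    exact ⟨_, ⟨x, hx, rfl⟩, map_pow f x _⟩

instance powerClosure_normal (H : Subgroup G) [hH : H.Normal] (n : ℕ) :
    (powerClosure p n H).Normal := by
  refine ⟨fun x hx g => ?_⟩
  have : (powerClosure p n H).map (MulAut.conj g).toMonoidHom ≤ powerClosure p n H := by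
    rw [map_powerClosure]
    apply powerClosure_mono
    rintro _ ⟨y, hy, rfl⟩
    exact hH.conj_mem y hy g
  exact this (mem_map_of_mem _ hx)

instance powerClosure_characteristic (H : Subgroup G) [hH : H.Characteristic] (n : ℕ) :
    (powerClosure p n H).Characteristic := by
  rw [characteristic_iff_map_eq]
  intro φ
  rw [map_powerClosure, characteristic_iff_map_eq.1 hH φ]

theorem prime_pow_dvd_choose (hp : p.Prime) (n k : ℕ) (hk0 : 0 < k) (hk : k < p) :
    p ^ n ∣ (p ^ n).choose k := by
  have h1 : p ^ n ∣ (p ^ n).choose k * k := by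
    obtain ⟨k, rfl⟩ : ∃ j, k = j + 1 := ⟨k - 1, by omega⟩
    obtain ⟨m, hm⟩ : ∃ m, p ^ n = m + 1 := ⟨p ^ n - 1, by have := pow_pos hp.pos n; omega⟩
    rw [hm, ← Nat.add_one_mul_choose_eq]
    exact Dvd.intro _ rfl
  exact (Nat.Coprime.pow_left n ((Nat.coprime_of_lt_prime hk0.ne' hk hp))).dvd_of_dvd_mul_right h1

/-- If every two-generator subgroup has class less than `p`, the `p`-group is regular. -/
theorem isRegular_of_two_generator_class [hp : Fact p.Prime] (hG : IsPGroup p G)
    (h : ∀ a b : G, (closure ({a, b} : Set G)).lowerCentralSeries (p - 1) = ⊥) :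
    IsRegularPGroup p G := by
  refine ⟨hG, fun a b n => ?_⟩
  set K := closure ({a, b} : Set G) with hK
  have ha : a ∈ K := subset_closure (by simp)
  have hb : b ∈ K := subset_closure (by simp)
  have key := pow_mul_pow_mod K (powerClosure p n ⁅K, K⁆) ha hb (p ^ n) (by
    intro k h2 _ g hg
    by_cases hk : k < p
    · obtain ⟨c, hc⟩ := prime_pow_dvd_choose hp.out n k (by omega) hk
      rw [hc, pow_mul]
      refine pow_mem (pow_mem_powerClosure ?_) _
      exact K.lowerCentralSeries_antitone (show 1 ≤ k - 1 by omega) hg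
    · have : g ∈ K.lowerCentralSeries (p - 1) :=
        K.lowerCentralSeries_antitone (show p - 1 ≤ k - 1 by omega) hg
      rw [h a b, mem_bot] at this
      rw [this, one_pow]; exact one_mem _)
  exact ⟨_, inv_mem key, by group⟩

/-- A `p`-group of class less than `p` is regular. -/
theorem isRegular_of_class_lt [Fact p.Prime] (hG : IsPGroup p G)
    (h : (⊤ : Subgroup G).lowerCentralSeries (p - 1) = ⊥) : IsRegularPGroup p G :=
  isRegular_of_two_generator_class hG fun _ _ =>
    eq_bot_iff.2 ((Subgroup.lowerCentralSeries_mono (p - 1) le_top).trans h.le)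

theorem isRegular_of_injective {H : Type*} [Group H] (hG : IsRegularPGroup p G) (f : H →* G)
    (hf : Function.Injective f) : IsRegularPGroup p H := by
  refine ⟨hG.1.of_injective f hf, fun a b n => ?_⟩
  obtain ⟨c, hc, e⟩ := hG.2 (f a) (f b) n
  have : closure ({f a, f b} : Set G) = (closure ({a, b} : Set H)).map f := by
    rw [MonoidHom.map_closure, Set.image_pair]
  rw [this, ← Subgroup.map_commutator, ← map_powerClosure] at hc
  obtain ⟨d, hd, rfl⟩ := hc
  exact ⟨d, hd, hf (by simpa using e)⟩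

theorem isRegular_subgroup (hG : IsRegularPGroup p G) (H : Subgroup G) : IsRegularPGroup p H :=
  isRegular_of_injective hG H.subtype H.subtype_injective

theorem isRegular_of_surjective {H : Type*} [Group H] (hG : IsRegularPGroup p G) (f : G →* H)
    (hf : Function.Surjective f) : IsRegularPGroup p H := by
  refine ⟨hG.1.of_surjective f hf, fun a b n => ?_⟩
  obtain ⟨a, rfl⟩ := hf a
  obtain ⟨b, rfl⟩ := hf b
  obtain ⟨c, hc, e⟩ := hG.2 a b n
  have : closure ({f a, f b} : Set H) = (closure ({a, b} : Set G)).map f := by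
    rw [MonoidHom.map_closure, Set.image_pair]
  refine ⟨f c, ?_, by simpa using congrArg f e⟩
  rw [this, ← Subgroup.map_commutator, ← map_powerClosure]
  exact mem_map_of_mem f hc

theorem isRegular_quotient (hG : IsRegularPGroup p G) (N : Subgroup G) [N.Normal] :
    IsRegularPGroup p (G ⧸ N) :=
  isRegular_of_surjective hG (QuotientGroup.mk' N) (QuotientGroup.mk'_surjective N)

/-- The derived subgroup of `⟨u, v⟩` lies in any subgroup containing `⁅u, v⁆` and normalized by
`u` and `v`. -/
theorem commutator_closure_pair_le {u v : G} {W : Subgroup G} (hu : u ∈ normalizer (W : Set G))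
    (hv : v ∈ normalizer (W : Set G)) (h : ⁅u, v⁆ ∈ W) :
    ⁅closure ({u, v} : Set G), closure ({u, v} : Set G)⁆ ≤ W := by
  set K := closure ({u, v} : Set G) with hK
  have hKN : K ≤ normalizer (W : Set G) := by
    rw [hK, closure_le]; rintro x (rfl | rfl) <;> assumption
  have hn : (W.subgroupOf (normalizer (W : Set G))).Normal := normal_in_normalizer
  have h1 := commutator_closure_closure_le
    ({⟨u, hu⟩, ⟨v, hv⟩} : Set (normalizer (W : Set G))) {⟨u, hu⟩, ⟨v, hv⟩}
    (W.subgroupOf (normalizer (W : Set G))) (by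
      rintro s (rfl | rfl) t (rfl | rfl)
      · simp
      · exact h
      · rw [← commutatorElement_inv]; exact inv_mem h
      · simp)
  have h2 := Subgroup.map_mono (f := (normalizer (W : Set G)).subtype) h1
  rw [Subgroup.map_commutator, MonoidHom.map_closure, Set.image_pair] at h2
  exact h2.trans (by rw [subgroupOf_map_subtype]; exact inf_le_left)

section Main

variable [Finite G] [hp : Fact p.Prime]

private theorem reg_aux (hG : IsRegularPGroup p G) (k : ℕ) {u v : G}
    (ih : ∀ M : Subgroup G, M < closure ({u, v} : Set G) → ∀ a ∈ M, ∀ b ∈ M,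
      (a ^ p ^ k = b ^ p ^ k ↔ (a * b⁻¹) ^ p ^ k = 1))
    (huv : Commute (u ^ p ^ k) v) :
    ∀ x ∈ ⁅closure ({u, v} : Set G), closure ({u, v} : Set G)⁆, x ^ p ^ k = 1 := by
  set K := closure ({u, v} : Set G) with hK
  have hu : u ∈ K := subset_closure (by simp)
  have hv : v ∈ K := subset_closure (by simp)
  set M := zpowers u ⊔ ⁅K, K⁆ with hM
  have hMK : M ≤ K := sup_le (zpowers_le_of_mem hu) (commutator_le_self K)
  by_cases hMe : M = K
  · have := eq_of_sup_commutator_eq (hG.1.to_subgroup K).isNilpotent hMe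
    intro x hx
    rw [← this, commutator_self_eq_bot_iff.2 inferInstance, mem_bot] at hx
    rw [hx, one_pow]
  have hlt : M < K := lt_of_le_of_ne hMK hMe
  have hKM : ∀ g ∈ K, ∀ x ∈ M, g * x * g⁻¹ ∈ M := by
    intro g hg x hx
    have : g * x * g⁻¹ = ⁅g, x⁆ * x := by simp [commutatorElement_def]
    rw [this]
    exact M.mul_mem (mem_sup_right (commutator_mem_commutator hg (hMK hx))) hx
  let W : Subgroup G :=
    { carrier := {x | x ∈ M ∧ x ^ p ^ k = 1}
      one_mem' := ⟨one_mem _, one_pow _⟩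
      mul_mem' := fun {a b} ha hb => ⟨mul_mem ha.1 hb.1, by
        have := (ih M hlt a ha.1 b⁻¹ (inv_mem hb.1)).1 (by rw [inv_pow, ha.2, hb.2, inv_one])
        simpa using this⟩
      inv_mem' := fun {a} ha => ⟨inv_mem ha.1, by rw [inv_pow, ha.2, inv_one]⟩ }
  have hKW : K ≤ normalizer (W : Set G) := by
    rw [le_normalizer_iff]
    intro g hg x hx
    exact ⟨hKM g hg x hx.1, by rw [conj_pow, hx.2]; simp⟩
  have huM : u ∈ M := mem_sup_left (mem_zpowers u)
  have h1 : ⁅u, v⁆ ∈ W := by
    refine ⟨mem_sup_right (commutator_mem_commutator hu hv), ?_⟩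
    have := (ih M hlt u huM (v * u * v⁻¹) (hKM v hv u huM)).1 (by
      rw [conj_pow, ← huv.eq]; simp)
    rw [← this, commutatorElement_def]
    congr 1; group
  intro x hx
  exact (commutator_closure_pair_le (hKW hu) (hKW hv) h1 hx).2

private theorem reg_main (hG : IsRegularPGroup p G) (k : ℕ) (H : Subgroup G) :
    ∀ a ∈ H, ∀ b ∈ H, (a ^ p ^ k = b ^ p ^ k ↔ (a * b⁻¹) ^ p ^ k = 1) := by
  induction H using WellFoundedLT.induction with
  | _ H ih =>
  intro a ha b hb
  have key : ∀ u v : G, closure ({u, v} : Set G) = closure ({a, b⁻¹} : Set G) →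
      Commute (u ^ p ^ k) v → (a * b⁻¹) ^ p ^ k = a ^ p ^ k * (b ^ p ^ k)⁻¹ := by
    intro u v huv hc
    have hle : closure ({u, v} : Set G) ≤ H := by
      rw [huv, closure_le]; rintro x (rfl | rfl)
      · exact ha
      · exact H.inv_mem hb
    have h1 := reg_aux hG k (fun M hM => ih M (lt_of_lt_of_le hM hle)) hc
    obtain ⟨c, hc, e⟩ := hG.2 a b⁻¹ k
    rw [huv] at h1
    have : c ∈ (⊥ : Subgroup G) := powerClosure_le_iff.2 (fun x hx => h1 x hx) hc
    rw [e, mem_bot.1 this, mul_one, inv_pow]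
  constructor
  · intro h
    rw [key a b⁻¹ rfl (by rw [h]; exact ((Commute.refl b).pow_left _).inv_right), h, mul_inv_cancel]
  · intro h
    have := key (a * b⁻¹) b (by
      apply le_antisymm
      · rw [closure_le]; rintro x (rfl | rfl)
        · exact mul_mem (subset_closure (by simp)) (subset_closure (by simp))
        · exact inv_mem_iff.1 (subset_closure (by simp))
      · rw [closure_le]; rintro x (rfl | rfl)
        · have : x = (x * b⁻¹) * b := by group
          rw [this]
          exact mul_mem (subset_closure (by simp)) (subset_closure (by simp))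
        · exact inv_mem (subset_closure (by simp))) (by rw [h]; exact Commute.one_left _)
    rw [h] at this
    exact mul_inv_eq_one.1 this.symm

/-- In a regular `p`-group `a ^ p ^ k = b ^ p ^ k` iff `(a b⁻¹) ^ p ^ k = 1`. -/
theorem regular_pow_eq_pow_iff (hG : IsRegularPGroup p G) (a b : G) (k : ℕ) :
    a ^ p ^ k = b ^ p ^ k ↔ (a * b⁻¹) ^ p ^ k = 1 :=
  reg_main hG k ⊤ a trivial b trivial

theorem regular_pow_eq_pow_iff' (hG : IsRegularPGroup p G) (a b : G) (k : ℕ) :
    a ^ p ^ k = b ^ p ^ k ↔ (a⁻¹ * b) ^ p ^ k = 1 := by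
  have := regular_pow_eq_pow_iff hG a⁻¹ b⁻¹ k
  rwa [inv_pow, inv_pow, inv_inj, inv_inv] at this

theorem regular_commute_iff (hG : IsRegularPGroup p G) (a b : G) (k : ℕ) :
    a ^ p ^ k * b = b * a ^ p ^ k ↔ (a⁻¹ * b⁻¹ * a * b) ^ p ^ k = 1 := by
  have := regular_pow_eq_pow_iff' hG a (b⁻¹ * a * b) k
  rw [show a⁻¹ * (b⁻¹ * a * b) = a⁻¹ * b⁻¹ * a * b by group] at this
  rw [← this, show b⁻¹ * a * b = b⁻¹ * a * b⁻¹⁻¹ by simp, conj_pow, inv_inv]
  constructor
  · intro h; rw [mul_assoc, h]; simp
  · intro h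
    calc a ^ p ^ k * b = b * (b⁻¹ * a ^ p ^ k * b) := by group
      _ = b * a ^ p ^ k := by rw [← h]

/-- `Ω_k` of a regular `p`-group, as the subgroup of solutions of `x ^ p ^ k = 1`. -/
def regularOmega (hG : IsRegularPGroup p G) (k : ℕ) : Subgroup G where
  carrier := {x | x ^ p ^ k = 1}
  one_mem' := one_pow _
  mul_mem' := fun {a b} ha hb => by
    have := (regular_pow_eq_pow_iff hG a b⁻¹ k).1 (by
      rw [inv_pow, show a ^ p ^ k = 1 from ha, show b ^ p ^ k = 1 from hb, inv_one])
    simpa using this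
  inv_mem' := fun {a} ha => by
    change a⁻¹ ^ p ^ k = 1
    rw [inv_pow, show a ^ p ^ k = 1 from ha, inv_one]

theorem mem_regularOmega (hG : IsRegularPGroup p G) (k : ℕ) (x : G) :
    x ∈ regularOmega hG k ↔ x ^ p ^ k = 1 := Iff.rfl

instance regularOmega_characteristic (hG : IsRegularPGroup p G) (k : ℕ) :
    (regularOmega hG k).Characteristic := by
  rw [characteristic_iff_comap_eq]
  intro φ
  ext x
  rw [mem_comap, mem_regularOmega, mem_regularOmega, ← map_pow]
  exact MulEquiv.map_eq_one_iff φ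

end Main

end Cfsg.Agent.H7
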