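import Mathlib
import Cfsg.Agent.H5.Real2
import Cfsg.Agent.H8.Schmidt
import Cfsg.Agent.H9.ClassSize
import Cfsg.Agent.L.SimpleRed

/-! Reductions of S4159 and S4193 to the odd order theorem. -/

set_option autoImplicit false

namespace Cfsg.Agent.H7

open Subgroup Cfsg
open scoped commutatorElement

universe u

/-- The odd order theorem as a hypothesis. -/
def FTHyp : Prop :=
  ∀ (G : Type u) [Group G] [Finite G], Odd (Nat.card G) → Group.IsSolvable G

theorem isSolvable_of_sylow_two_normal (hFT : FTHyp.{u}) {G : Type u} [Group G] [Finite G]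
    (S : Sylow 2 G) (h : (S : Subgroup G).Normal) : Group.IsSolvable G := by
  haveI : Fact (Nat.Prime 2) := ⟨Nat.prime_two⟩
  haveI := S.isPGroup'.isNilpotent
  refine L.isSolvable_of_normal_of_quotient (S : Subgroup G) inferInstance (hFT _ ?_)
  rw [← Subgroup.index_eq_card, ← Nat.not_even_iff_odd, even_iff_two_dvd]
  exact S.not_dvd_index

theorem isSolvable_of_hasNPC_two (hFT : FTHyp.{u}) {G : Type u} [Group G] [Finite G]
    (h : HasNormalPComplement 2 G) : Group.IsSolvable G := by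
  haveI : Fact (Nat.Prime 2) := ⟨Nat.prime_two⟩
  obtain ⟨N, hN, h1, h2⟩ := H8.hasNPC_iff_exists.1 h
  haveI := (H8.isPGroup_quotient_iff_index.2 h2).isNilpotent
  exact L.isSolvable_of_normal_of_quotient N (hFT _ (Nat.coprime_two_right.1 h1)) inferInstance

theorem index_centralizer_dvd_of_card_dvd {H : Type*} [Group H] [Finite H] {x : H} {n : ℕ}
    (h : Nat.card H ∣ orderOf x * n) : (centralizer ({x} : Set H)).index ∣ n := by
  have h1 : orderOf x ∣ Nat.card (centralizer ({x} : Set H)) := by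
    rw [← Nat.card_zpowers]
    refine card_dvd_of_le ((zpowers_le).2 ?_)
    simp [mem_centralizer_iff]
  have h2 : orderOf x * (centralizer ({x} : Set H)).index ∣ orderOf x * n := by
    refine (Nat.mul_dvd_mul_right h1 _).trans ?_
    rwa [card_mul_index]
  exact Nat.dvd_of_mul_dvd_mul_left (orderOf_pos x) h2

theorem s4159_of_FT (hFT : FTHyp.{u}) {G : Type u} [Group G] [Finite G]
    (h : ∀ (H : Subgroup G) (x y : H), 1 < (Subgroup.centralizer ({x} : Set H)).index →
      1 < (Subgroup.centralizer ({y} : Set H)).index →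
      ¬ ((Subgroup.centralizer ({x} : Set H)).index).Coprime
        (Subgroup.centralizer ({y} : Set H)).index) : Group.IsSolvable G := by
  haveI : Fact (Nat.Prime 2) := ⟨Nat.prime_two⟩
  obtain ⟨S⟩ := (inferInstance : Nonempty (Sylow 2 G))
  refine isSolvable_of_sylow_two_normal hFT S (H5.sylow_two_normal_of_not_real ?_ S)
  intro x g hx hg
  by_contra hx1
  obtain ⟨a, -, ⟨k, hk⟩, ha⟩ := H5.exists_two_element_inverts hg
  have hnc : x * a ≠ a * x := by
    intro hc
    apply hx1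
    apply H5.eq_one_of_odd_of_eq_inv hx
    rw [← ha, ← hc]; group
  set H : Subgroup G := zpowers x ⊔ zpowers a with hH
  have hxH : x ∈ H := mem_sup_left (mem_zpowers x)
  have haH : a ∈ H := mem_sup_right (mem_zpowers a)
  have hcard : Nat.card H ∣ orderOf x * orderOf a := by
    rw [← Nat.card_zpowers x]
    refine H8.card_sup_zpowers_dvd _ (H5.mem_normalizer_zpowers_of_conj_mem ?_)
    rw [ha]; exact inv_mem (mem_zpowers x)
  have h1 : (centralizer ({(⟨x, hxH⟩ : H)} : Set H)).index ∣ orderOf a :=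
    index_centralizer_dvd_of_card_dvd (by rwa [Subgroup.orderOf_mk])
  have h2 : (centralizer ({(⟨a, haH⟩ : H)} : Set H)).index ∣ orderOf x :=
    index_centralizer_dvd_of_card_dvd (by rwa [Subgroup.orderOf_mk, mul_comm])
  have hgt : ∀ y z : H, (y : G) * z ≠ z * y → 1 < (centralizer ({y} : Set H)).index := by
    intro y z hyz
    have h0 : (centralizer ({y} : Set H)).index ≠ 0 := index_ne_zero_of_finite
    have h1 : (centralizer ({y} : Set H)).index ≠ 1 := by
      intro he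
      rw [H9.index_centralizer_eq_one_iff, mem_center_iff] at he
      exact hyz (congrArg Subtype.val (he z)).symm
    omega
  refine h H ⟨x, hxH⟩ ⟨a, haH⟩ (hgt _ ⟨a, haH⟩ hnc) (hgt _ ⟨x, hxH⟩ (Ne.symm hnc)) ?_
  refine Nat.Coprime.coprime_dvd_left h1 (Nat.Coprime.coprime_dvd_right h2 ?_)
  rw [hk]
  exact Nat.Coprime.pow_left _ (Nat.coprime_two_left.2 hx)

/-- In an Itô configuration for `p = 2` with central involutions there is a real element of
order `4` in `P`. -/
theorem itoData_exists_real {H : Type*} [Group H] [Finite H] {P : Sylow 2 H} {g : H} {q k : ℕ}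
    (hI : @H8.ItoData 2 H _ P g q k) (hinv : ∀ t : H, t ^ 2 = 1 → t ∈ center H) :
    ∃ x ∈ (P : Subgroup H), ∃ y ∈ (P : Subgroup H), y * x * y⁻¹ = x⁻¹ ∧ x ^ 2 ≠ 1 := by
  haveI : Fact (Nat.Prime 2) := ⟨Nat.prime_two⟩
  haveI := hI.normal
  have hP := hI.normal
  obtain ⟨x, hxP, hxg⟩ : ∃ x ∈ (P : Subgroup H), x * g ≠ g * x := by
    by_contra hc
    push Not at hc
    exact hI.not_mem (mem_centralizer_iff.2 hc)
  have hxZ : x ∉ center H := fun hc => hxg ((mem_center_iff.1 hc g).symm)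
  have hcc : ∀ {u v : H}, u ∈ (P : Subgroup H) → v ∈ (P : Subgroup H) → ∀ w : H,
      w * ⁅u, v⁆ = ⁅u, v⁆ * w := fun hu hv w =>
    mem_center_iff.1 (hI.commutatorElement_mem_center hu hv) w
  have hmulr : ∀ {u v w : H}, u ∈ (P : Subgroup H) → w ∈ (P : Subgroup H) →
      ⁅u, v * w⁆ = ⁅u, v⁆ * ⁅u, w⁆ := by
    intro u v w hu hw
    have : ⁅u, v * w⁆ = ⁅u, v⁆ * (v * ⁅u, w⁆) * v⁻¹ := by
      simp only [commutatorElement_def]; group
    rw [this, hcc hu hw v]; group
  have hmull : ∀ {u v w : H}, v ∈ (P : Subgroup H) → w ∈ (P : Subgroup H) →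
      ⁅u * v, w⁆ = ⁅v, w⁆ * ⁅u, w⁆ := by
    intro u v w hv hw
    have : ⁅u * v, w⁆ = (u * ⁅v, w⁆) * u⁻¹ * ⁅u, w⁆ := by
      simp only [commutatorElement_def]; group
    rw [this, hcc hv hw u]; group
  let B : Subgroup H :=
    { carrier := {z | ∃ y ∈ (P : Subgroup H), z = ⁅x, y⁆}
      mul_mem' := by
        rintro _ _ ⟨y, hy, rfl⟩ ⟨y', hy', rfl⟩
        exact ⟨y * y', mul_mem hy hy', (hmulr hxP hy').symm⟩
      one_mem' := ⟨1, one_mem _, by simp⟩
      inv_mem' := by
        rintro _ ⟨y, hy, rfl⟩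
        refine ⟨y⁻¹, inv_mem hy, ?_⟩
        rw [inv_eq_iff_mul_eq_one, ← hmulr hxP (inv_mem hy)]
        simp }
  have hconj : ∀ {u v : H}, u ∈ (P : Subgroup H) → v ∈ (P : Subgroup H) → ∀ w : H,
      ⁅w * u * w⁻¹, v⁆ = ⁅u, w⁻¹ * v * w⁆ := by
    intro u v hu hv w
    have hv' : w⁻¹ * v * w ∈ (P : Subgroup H) := hP.conj_mem' v hv w
    have : ⁅w * u * w⁻¹, v⁆ = (w * ⁅u, w⁻¹ * v * w⁆) * w⁻¹ := by
      simp only [commutatorElement_def]; group
    rw [this, hcc hu hv' w]; group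
  let X : Subgroup H :=
    { carrier := {u | u ∈ (P : Subgroup H) ∧ ∀ v ∈ (P : Subgroup H), ⁅u, v⁆ ∈ B}
      mul_mem' := by
        rintro u u' ⟨hu, hu2⟩ ⟨hu', hu2'⟩
        refine ⟨mul_mem hu hu', fun v hv => ?_⟩
        rw [hmull hu' hv]
        exact mul_mem (hu2' v hv) (hu2 v hv)
      one_mem' := ⟨one_mem _, fun v _ => by simp⟩
      inv_mem' := by
        rintro u ⟨hu, hu2⟩
        refine ⟨inv_mem hu, fun v hv => ?_⟩
        have : ⁅u⁻¹, v⁆ = ⁅u, v⁆⁻¹ := by
          rw [eq_inv_iff_mul_eq_one, ← hmull (inv_mem hu) hv]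
          simp
        rw [this]
        exact inv_mem (hu2 v hv) }
  haveI hXn : X.Normal := ⟨by
    rintro u ⟨hu, hu2⟩ w
    refine ⟨hP.conj_mem u hu w, fun v hv => ?_⟩
    rw [hconj hu hv w]
    exact hu2 _ (hP.conj_mem' v hv w)⟩
  have hXP : X = (P : Subgroup H) := by
    by_contra hne
    have hlt : X < (P : Subgroup H) := lt_of_le_of_ne (fun u hu => hu.1) hne
    exact hxZ (hI.le_center X hlt ⟨hxP, fun v hv => ⟨v, hv, rfl⟩⟩)
  have hB : ∀ {u v : H}, u ∈ (P : Subgroup H) → v ∈ (P : Subgroup H) → ⁅u, v⁆ ∈ B := by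
    intro u v hu hv
    have hu' : u ∈ X := hXP ▸ hu
    exact hu'.2 v hv
  have hsq : ∀ {u v : H}, u ∈ (P : Subgroup H) → v ∈ (P : Subgroup H) →
      (u * v) ^ 2 = ⁅u, v⁆⁻¹ * (u ^ 2 * v ^ 2) := by
    intro u v hu hv
    have h1 : (u * v) ^ 2 = (u * ⁅v, u⁆) * (u * v ^ 2) := by
      simp only [commutatorElement_def, sq]; group
    rw [h1, hcc hv hu u, commutatorElement_inv]
    simp only [sq]; group
  let K : Subgroup H :=
    { carrier := {u | u ∈ (P : Subgroup H) ∧ u ^ 2 ∈ B}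
      mul_mem' := by
        rintro u v ⟨hu, hu2⟩ ⟨hv, hv2⟩
        refine ⟨mul_mem hu hv, ?_⟩
        rw [hsq hu hv]
        exact mul_mem (inv_mem (hB hu hv)) (mul_mem hu2 hv2)
      one_mem' := ⟨one_mem _, by simp⟩
      inv_mem' := by
        rintro u ⟨hu, hu2⟩
        refine ⟨inv_mem hu, ?_⟩
        rw [inv_pow]
        exact inv_mem hu2 }
  have hPK : (P : Subgroup H) ≤ K := by
    rw [← hI.commutator_eq, commutator_le]
    intro u hu w _
    have hv : w * u⁻¹ * w⁻¹ ∈ (P : Subgroup H) := hP.conj_mem _ (inv_mem hu) w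
    have he : ⁅u, w⁆ = u * (w * u⁻¹ * w⁻¹) := by
      simp only [commutatorElement_def]; group
    rw [he]
    refine ⟨mul_mem hu hv, ?_⟩
    rw [hsq hu hv]
    refine mul_mem (inv_mem (hB hu hv)) ?_
    have h2 : (w * u⁻¹ * w⁻¹) ^ 2 = (w * (u⁻¹) ^ 2) * w⁻¹ := by
      simp only [sq]; group
    rw [h2, mem_center_iff.1 (hI.pow_mem_center (inv_mem hu)) w]
    have : u ^ 2 * (u⁻¹ ^ 2 * w * w⁻¹) = 1 := by group
    rw [this]
    exact one_mem _
  obtain ⟨y, hy, hxy⟩ := (hPK hxP).2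
  refine ⟨x, hxP, y, hy, ?_, fun h2 => hxZ (hinv x h2)⟩
  rw [commutatorElement_def] at hxy
  have : y * x⁻¹ * y⁻¹ = x := by
    calc y * x⁻¹ * y⁻¹ = x⁻¹ * (x * y * x⁻¹ * y⁻¹) := by group
      _ = x := by rw [← hxy, sq]; group
  calc y * x * y⁻¹ = (y * x⁻¹ * y⁻¹)⁻¹ := by group
    _ = x⁻¹ := by rw [this]

theorem s4193_of_FT (hFT : FTHyp.{u}) {G : Type u} [Group G] [Finite G] (a : ℕ)
    (h : ∀ x : G, IsConj x x⁻¹ → x ∉ Subgroup.center G →
      ((Subgroup.centralizer ({x} : Set G)).index).factorization 2 = a) (S : Sylow 2 G)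
    (hS : ∀ s : ↥(S : Subgroup G), IsConj s s⁻¹ → s ∈ Subgroup.center ↥(S : Subgroup G)) :
    Group.IsSolvable G ∧
      HasNormalPComplement 2 ↥(Subgroup.closure {g : G | ∃ k : ℕ, orderOf g = 2 ^ k}) := by
  haveI : Fact (Nat.Prime 2) := ⟨Nat.prime_two⟩
  -- real elements of 2-subgroups are centralized by a Sylow 2-subgroup
  have key : ∀ (Q : Subgroup G), IsPGroup 2 Q → ∀ x ∈ Q, ∀ y ∈ Q, y * x * y⁻¹ = x⁻¹ →
      ∃ T : Sylow 2 G, Q ≤ T ∧ (T : Subgroup G) ≤ centralizer ({x} : Set G) := by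
    intro Q hQ x hx y hy hxy
    obtain ⟨T, hT⟩ := hQ.exists_le_sylow
    obtain ⟨c, hc⟩ := MulAction.exists_smul_eq G T S
    have hmem : ∀ z : G, c * z * c⁻¹ ∈ (S : Subgroup G) ↔ z ∈ (T : Subgroup G) := by
      intro z
      rw [← hc, Sylow.coe_subgroup_smul, Subgroup.mem_pointwise_smul_iff_inv_smul_mem]
      simp [mul_assoc]
    refine ⟨T, hT, fun t ht => ?_⟩
    have h1 := hS ⟨c * x * c⁻¹, (hmem x).2 (hT hx)⟩
      (isConj_iff.2 ⟨⟨c * y * c⁻¹, (hmem y).2 (hT hy)⟩, Subtype.ext (by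
        simp only [Subgroup.coe_mul, Subgroup.coe_inv]
        calc c * y * c⁻¹ * (c * x * c⁻¹) * (c * y * c⁻¹)⁻¹ = c * (y * x * y⁻¹) * c⁻¹ := by group
          _ = (c * x * c⁻¹)⁻¹ := by rw [hxy]; group)⟩)
    have h2 := congrArg Subtype.val (mem_center_iff.1 h1 ⟨c * t * c⁻¹, (hmem t).2 ht⟩)
    simp only [Subgroup.coe_mul] at h2
    rw [mem_centralizer_singleton_iff]
    calc t * x = c⁻¹ * (c * t * c⁻¹ * (c * x * c⁻¹)) * c := by group
      _ = x * t := by rw [h2]; group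
  by_cases hinv : ∀ t : G, t ^ 2 = 1 → t ∈ center G
  · have hN : HasNormalPComplement 2 G := by
      by_contra hc
      obtain ⟨H, P, g, q, k, -, hI⟩ := H8.exists_subgroup_itoData hc
      obtain ⟨x, hx, y, hy, hxy, hx2⟩ := itoData_exists_real hI (fun t ht => by
        rw [mem_center_iff]
        intro w
        exact Subtype.ext (mem_center_iff.1 (hinv t (by exact_mod_cast congrArg Subtype.val ht)) w))
      obtain ⟨T, hT, hTx⟩ := key ((P : Subgroup H).map H.subtype) (P.isPGroup'.map _) x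
        (mem_map_of_mem _ hx) y (mem_map_of_mem _ hy) (by exact_mod_cast congrArg Subtype.val hxy)
      have h1 := mem_centralizer_singleton_iff.1 (hTx (hT (mem_map_of_mem _ hy)))
      apply hx2
      have h2 : y * x = x * y := Subtype.ext h1
      rw [h2, mul_inv_cancel_right] at hxy
      rw [sq]
      nth_rewrite 2 [hxy]
      exact mul_inv_cancel x
    exact ⟨isSolvable_of_hasNPC_two hFT hN, H8.hasNPC_subgroup hN _⟩
  · push Not at hinv
    obtain ⟨t, ht2, htZ⟩ := hinv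
    have hti : t⁻¹ = t := by
      rw [inv_eq_iff_mul_eq_one, ← sq, ht2]
    have htP : IsPGroup 2 (zpowers t) := by
      obtain ⟨k, -, hk⟩ := (Nat.dvd_prime_pow Nat.prime_two (m := 1)).1
        (by simpa using orderOf_dvd_of_pow_eq_one ht2)
      exact H8.isPGroup_zpowers_of_orderOf hk
    obtain ⟨T, -, hTt⟩ := key _ htP t (mem_zpowers t) 1 (one_mem _) (by simp [hti])
    have ha : a = 0 := by
      rw [← h t (by rw [hti]) htZ]
      exact Nat.factorization_eq_zero_of_not_dvd (H9.not_dvd_index_iff_exists_sylow_le.2 ⟨T, hTt⟩)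
    have hSn : (S : Subgroup G).Normal := by
      refine H5.sylow_two_normal_of_not_real (fun x g hx hg => ?_) S
      apply H5.eq_one_of_odd_of_eq_inv hx
      by_cases hxZ : x ∈ center G
      · rw [← hg, mem_center_iff.1 hxZ g]; group
      · refine H5.eq_inv_of_odd_index hg fun hd => ?_
        have h1 := h x (isConj_iff.2 ⟨g, hg⟩) hxZ
        rw [ha] at h1
        exact absurd h1 (Nat.Prime.factorization_pos_of_dvd Nat.prime_two
          index_ne_zero_of_finite hd).ne'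
    refine ⟨isSolvable_of_sylow_two_normal hFT S hSn, H8.hasNPC_of_isPGroup ?_⟩
    refine S.isPGroup'.to_le ((closure_le _).2 ?_)
    rintro z ⟨k, hk⟩
    refine H9.mem_sylow_of_mem_normalizer S hk ?_
    rw [normalizer_eq_top]
    exact mem_top z

end Cfsg.Agent.H7
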