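/-
Small consequences of the ZT theorem.
-/
import Cfsg.Agent.P2.Main
import Cfsg.Agent.H9.ZTB
import Cfsg.Agent.P1.ZStar
import Cfsg.Agent.FT.Final

set_option autoImplicit false

namespace Cfsg.Agent.H7.ZA

open Subgroup Cfsg Cfsg.Agent Cfsg.Agent.FT

universe u

variable {G : Type u} [Group G] [Finite G] {Q H : Subgroup G} {t : G}

theorem eq_Z_of_comm (h : P2.ZT Q H t) (hc : ∀ x ∈ Q, ∀ y ∈ Q, Commute x y) : Q = h.Z :=
  h.cases.resolve_right fun h' => h'.2.1 (commutator_eq_bot_iff_le_centralizer.mpr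
    fun x hx y hy => (hc y hy x hx).eq)

theorem sl2_of_eq_Z (h : P2.ZT Q H t) (hQ : Q = h.Z) :
    ∃ n, 2 ≤ n ∧ 𝐨(Q) = 2 ^ n ∧ 𝐨(H) = 2 ^ n - 1 ∧
      Nonempty (G ≃* Matrix.SpecialLinearGroup (Fin 2) (GaloisField 2 n)) ∧
      Nonempty (G ≃* Matrix.ProjectiveSpecialLinearGroup (Fin 2) (GaloisField 2 n)) := by
  rcases h.main with ⟨n, a1, a2, a3, -, a4⟩ | ⟨m, a1, a2, a3, -⟩
  · exact ⟨n, a1, a2, a3, a4⟩
  · have h1 := h.card_Z
    rw [← hQ, a2, a3] at h1
    have h2 : 1 < 2 ^ (2 * m + 1) := Nat.one_lt_two_pow (by omega)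
    rw [Nat.sub_add_cancel h2.le] at h1
    nlinarith

/-- A centralizer-closed TI-subgroup of even order in a group with trivial Fitting subgroup. -/
theorem exists_zt (hF : fittingSubgroup G = ⊥) (h : H9.CTI Q) (hn : Q ≠ ⊤) :
    ∃ (H : Subgroup G) (t : G), P2.ZT Q H t ∧ Q ⊔ H = 𝐍(Q) := by
  have := Fact.mk Nat.prime_two
  obtain ⟨⟨a, ha⟩, ha2⟩ := exists_prime_orderOf_dvd_card' (G := Q) 2 h.even.two_dvd
  rw [← orderOf_coe] at ha2
  have ha1 : a ≠ 1 := fun e => by simp [e] at ha2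
  have haa : a * a = 1 := by rw [← sq, ← ha2]; exact pow_orderOf_eq_one a
  have hnn : ¬ Q.Normal := fun hQ => by
    have := H5.isNilpotent_of_centralizer_le hn h.cent
    have h2 := L.le_fittingSubgroup hQ this ha
    rw [hF] at h2
    exact ha1 h2
  by_cases hb : ∃ b ∈ Q, b ≠ 1 ∧ b * b = 1 ∧ a ≠ b
  · obtain ⟨b, hb, b1, bb, hab⟩ := hb
    exact h.exists_ZT hnn ha ha1 haa hb b1 bb hab
  exfalso
  push Not at hb
  have hO : pPrimeCore 2 G = ⊥ := by
    by_contra hO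
    have hs : Group.IsSolvable (pPrimeCore 2 G) := feit_thompson _
      (Nat.coprime_two_right.mp (L.coprime_card_pPrimeCore 2))
    exact L.fittingSubgroup_inf_ne_bot _ hO (by rw [hF, bot_inf_eq])
  have hz : a ∈ center G := mem_center_iff.mpr fun g => by
    have := P1.brauer_suzuki ha2 (fun s hs hc => (hb s (h.mem_of_commute ha ha1 hc)
      (fun e => by simp [e] at hs) (by rw [← sq, ← hs]; exact pow_orderOf_eq_one s)).symm) g
    rw [hO, mem_bot, commutatorElement_eq_one_iff_mul_comm] at this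
    exact this.symm
  have h2 := L.center_le_fittingSubgroup hz
  rw [hF] at h2
  exact ha1 h2

end Cfsg.Agent.H7.ZA
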