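import Cfsg.Agent.H7.Ito
import Cfsg.Agent.H7.Frattini

/-! Products of conjugacy classes of coprime sizes. -/

set_option autoImplicit false

namespace Cfsg.Agent.H7

open Subgroup

variable {G : Type*} [Group G] [Finite G]

/-- class size -/
noncomputable abbrev cs {G : Type*} [Group G] (x : G) : ℕ := (centralizer ({x} : Set G)).index

/-- If the class sizes are coprime, the group is transitive on pairs of conjugates. -/
theorem exists_conj_pair {x w : G} (hc : (cs x).Coprime (cs w)) (g h : G) :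
    ∃ k : G, k * x * k⁻¹ = g * x * g⁻¹ ∧ k * w * k⁻¹ = h * w * h⁻¹ := by
  obtain ⟨c, hc', d, hd, e⟩ := H9.exists_mul_eq_of_coprime_index hc (g⁻¹ * h)
  rw [mem_centralizer_singleton_iff] at hc' hd
  refine ⟨g * c, ?_, ?_⟩
  · rw [mul_assoc g c x, hc']; group
  · have : h = g * c * d := by rw [mul_assoc, e]; group
    rw [this, mul_assoc (g * c) d w, hd]; group

theorem commute_conj_of_coprime {x w : G} (hc : (cs x).Coprime (cs w)) {g₀ h₀ : G}
    (h0 : Commute (g₀ * x * g₀⁻¹) (h₀ * w * h₀⁻¹)) (g h : G) :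
    Commute (g * x * g⁻¹) (h * w * h⁻¹) := by
  obtain ⟨k, h1, h2⟩ := exists_conj_pair hc g₀ h₀
  obtain ⟨l, h3, h4⟩ := exists_conj_pair hc g h
  rw [← h1, ← h2] at h0
  rw [← h3, ← h4]
  have h5 : Commute x w := by
    have := h0.map (MulAut.conj k⁻¹)
    simpa [mul_assoc] using this
  simpa [mul_assoc] using h5.map (MulAut.conj l)

/-- A `q`-element is conjugate into every subgroup of index prime to `q`. -/
theorem exists_conj_mem_of_not_dvd_index {q k : ℕ} [Fact q.Prime] {u : G}
    (hu : orderOf u = q ^ k) {C : Subgroup G} (hC : ¬ q ∣ C.index) : ∃ g : G, g * u * g⁻¹ ∈ C := by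
  obtain ⟨Q, hQ⟩ := H9.not_dvd_index_iff_exists_sylow_le.1 hC
  obtain ⟨g, -, hg⟩ := H1.exists_conj_le_sylow (H := ⊤) Q.isPGroup'
    (by rw [relIndex_top_right]; exact Q.not_dvd_index) le_top (H8.isPGroup_zpowers_of_orderOf hu)
  exact ⟨g, hQ (H1.map_conj_le_iff.1 hg u (mem_zpowers u))⟩

theorem commute_conj_of_primePow {q k : ℕ} [Fact q.Prime] {u w : G} (hu : orderOf u = q ^ k)
    (hw : ¬ q ∣ cs w) (hc : (cs u).Coprime (cs w)) (g h : G) :
    Commute (g * u * g⁻¹) (h * w * h⁻¹) := by
  obtain ⟨g₀, hg₀⟩ := exists_conj_mem_of_not_dvd_index hu hw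
  refine commute_conj_of_coprime hc (g₀ := g₀) (h₀ := 1) ?_ g h
  rw [mem_centralizer_singleton_iff] at hg₀
  rw [one_mul, inv_one, mul_one]
  exact hg₀

theorem le_of_normal_of_coprime_index {M C : Subgroup G} [M.Normal]
    (hc : (Nat.card M).Coprime C.index) : M ≤ C := by
  rw [← relIndex_eq_one]
  exact Nat.eq_one_of_dvd_coprimes hc (relIndex_dvd_card C M)
    (H9.relIndex_dvd_index_of_normal_right C M)

theorem cs_mul_dvd_of_coprime {x w : G} (hc : (cs x).Coprime (cs w)) :
    cs (x * w) ∣ cs x * cs w := by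
  rw [← H9.index_inf_of_coprime hc]
  refine index_dvd_of_le fun g hg => ?_
  obtain ⟨h1, h2⟩ := mem_inf.1 hg
  rw [mem_centralizer_singleton_iff] at h1 h2 ⊢
  exact (Commute.mul_right (h1 : Commute g x) (h2 : Commute g w)).eq

/-- The left stabilizer of a conjugacy class. -/
theorem exists_normal_classStab (w : G) : ∃ M : Subgroup G, M.Normal ∧ Nat.card M ∣ cs w ∧
    ∀ x : G, (cs x).Coprime (cs w) → (cs x).Coprime (cs (x * w)) →
      ∀ g : G, x⁻¹ * (g * x * g⁻¹) ∈ M := by
  let M : Subgroup G :=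
    { carrier := {m | ∀ z, IsConj w z ↔ IsConj w (m * z)}
      one_mem' := fun z => by rw [one_mul]
      mul_mem' := fun {a b} ha hb z => by rw [mul_assoc, ← ha, ← hb]
      inv_mem' := fun {a} ha z => by rw [ha (a⁻¹ * z), mul_inv_cancel_left] }
  have hconj : ∀ g z : G, IsConj w (g * z * g⁻¹) ↔ IsConj w z := fun g z =>
    ⟨fun h => h.trans (isConj_iff.2 ⟨g, rfl⟩).symm, fun h => h.trans (isConj_iff.2 ⟨g, rfl⟩)⟩
  refine ⟨M, ⟨fun m hm g z => ?_⟩, ?_, fun x h1 h2 g => ?_⟩
  · rw [← hconj g⁻¹ z, hm, ← hconj g]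
    congr! 1
    group
  · let _ : MulAction M {z // IsConj w z} :=
      { smul := fun m z => ⟨m * z, (m.2 z).1 z.2⟩
        one_smul := fun z => Subtype.ext (one_mul _)
        mul_smul := fun a b z => Subtype.ext (mul_assoc _ _ _) }
    have := card_dvd_of_free_action (A := M) (X := {z // IsConj w z}) fun a z h =>
      Subtype.ext (mul_eq_right.1 (congrArg Subtype.val h))
    rw [cs, H6.index_centralizer_eq_ncard]
    exact this
  · have hle : {z | IsConj (x * w) z}.ncard ≤ {z | IsConj w z}.ncard := by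
      rw [← H6.index_centralizer_eq_ncard, ← H6.index_centralizer_eq_ncard]
      exact Nat.le_of_dvd (Nat.pos_of_ne_zero index_ne_zero_of_finite)
        (h2.symm.dvd_of_dvd_mul_left (cs_mul_dvd_of_coprime h1))
    have key : ∀ g z : G, IsConj w z ↔ IsConj (x * w) (g * x * g⁻¹ * z) := by
      intro g
      have hsub : (fun z => g * x * g⁻¹ * z) '' {z | IsConj w z} ⊆ {z | IsConj (x * w) z} := by
        rintro _ ⟨z, hz, rfl⟩
        obtain ⟨h, rfl⟩ := isConj_iff.1 hz
        obtain ⟨k, e1, e2⟩ := exists_conj_pair h1 g h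
        refine isConj_iff.2 ⟨k, ?_⟩
        show _ = g * x * g⁻¹ * (h * w * h⁻¹)
        rw [← e1, ← e2]; group
      have heq := Set.eq_of_subset_of_ncard_le hsub (by
        rwa [Set.ncard_image_of_injective _ (mul_right_injective _)]) (Set.toFinite _)
      intro z
      refine ⟨fun hz => hsub ⟨z, hz, rfl⟩, fun hz => ?_⟩
      have : g * x * g⁻¹ * z ∈ (fun z => g * x * g⁻¹ * z) '' {z | IsConj w z} := by
        rw [heq]; exact hz
      obtain ⟨z', hz', e⟩ := this
      rwa [← mul_left_cancel e]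
    intro z
    rw [key g z, key 1 (x⁻¹ * (g * x * g⁻¹) * z)]
    congr! 1
    group

/-- A subgroup containing the complement of a proper subgroup is everything. -/
theorem eq_top_of_compl_subset {G : Type*} [Group G] {E A : Subgroup G} (hE : E ≠ ⊤)
    (h : ∀ g, g ∉ E → g ∈ A) : A = ⊤ := by
  obtain ⟨y, -, hy⟩ := SetLike.exists_of_lt (lt_top_iff_ne_top.2 hE)
  rw [eq_top_iff]
  intro g _
  by_cases hg : g ∈ E
  · have : g * y ∉ E := fun h' => hy ((mul_mem_cancel_left hg).1 h')
    exact (mul_mem_cancel_right (h y hy)).1 (h _ this)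
  · exact h g hg

/-- If `q` divides no `G`-class size of elements of a normal subgroup `K`, the `q`-elements of `K`
are central in `K`. -/
theorem commute_of_not_dvd_cs_normal {q k : ℕ} [Fact q.Prime] (K : Subgroup G) [K.Normal]
    (h : ∀ y ∈ K, ¬ q ∣ cs y) {u : G} (huK : u ∈ K) (hu : orderOf u = q ^ k) :
    ∀ y ∈ K, Commute y u := by
  intro y hy
  obtain ⟨Q, hQ⟩ := (H8.isPGroup_zpowers_of_orderOf (g := (⟨u, huK⟩ : K))
    (by rw [orderOf_mk, hu])).exists_le_sylow
  have := sylow_le_center_of_not_dvd_class (p := q) (G := K)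
    (fun x hx => h x x.2 (hx.trans (H9.index_centralizer_subgroup_dvd K x))) Q
    (hQ (mem_zpowers _))
  exact congrArg Subtype.val (mem_center_iff.1 this ⟨y, hy⟩)

/-- A Sylow subgroup central in a normal subgroup containing it is the only Sylow subgroup. -/
theorem sylow_eq_of_le_centralizer {q : ℕ} [Fact q.Prime] (K : Subgroup G) [K.Normal]
    (Q : Sylow q G) (hQK : (Q : Subgroup G) ≤ K)
    (hK : K ≤ centralizer ((Q : Subgroup G) : Set G)) (Q' : Sylow q G) : Q' = Q := by
  have h1 := Q.normalizer_sup_eq_top' hQK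
  have h2 : normalizer ((Q : Subgroup G) : Set G) = ⊤ := by
    rw [← h1]
    exact (sup_eq_left.2 (hK.trans (centralizer_le_normalizer _))).symm
  have := Q.unique_of_normal (normalizer_eq_top_iff.1 h2)
  exact Subsingleton.elim _ _

end Cfsg.Agent.H7
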