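/-
Abelian Sylow transfer; simple groups with abelian centralizers.
-/
import Cfsg.Agent.H7.ZTAux
import Cfsg.Agent.H7.FTCor
import Cfsg.Agent.H9.FixCount
import Cfsg.Agent.H4.SL2Cent
import Cfsg.Agent.H8.CentAux

set_option autoImplicit false
set_option linter.unusedSectionVars false

namespace Cfsg.Agent.H7.CA

open Subgroup Cfsg Cfsg.Agent Cfsg.Agent.FT

universe u

variable {G : Type u} [Group G] [Finite G]

theorem comm_iff {H : Subgroup G} : IsMulCommutative H ↔ ∀ x ∈ H, ∀ y ∈ H, Commute x y :=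
  ⟨fun h x hx y hy => congrArg Subtype.val (h.is_comm.comm ⟨x, hx⟩ ⟨y, hy⟩),
    fun h => ⟨⟨fun a b => Subtype.ext (h a a.2 b b.2)⟩⟩⟩

theorem mem_cent {x y : G} : y ∈ 𝐂[x] ↔ Commute x y := L.mem_cent_iff

open scoped IsMulCommutative in
/-- Transfer into an abelian Sylow subgroup. -/
theorem eq_one_of_transfer {p : ℕ} [Fact p.Prime] (P : Sylow p G) [hP : IsMulCommutative P]
    {x : G} (hx : x ∈ (P : Subgroup G)) (hc : x ∈ commutator G)
    (hN : ∀ n ∈ 𝐍((P : Subgroup G)), Commute x n) : x = 1 := by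
  have key : ∀ (k : ℕ) (g₀ : G), g₀⁻¹ * x ^ k * g₀ ∈ (P : Subgroup G) →
      g₀⁻¹ * x ^ k * g₀ = x ^ k := fun k g₀ h => by
    obtain ⟨n, hn, h⟩ := P.conj_eq_normalizer_conj_of_mem (x ^ k) g₀ (P.pow_mem hx k) h
    exact h.trans (Commute.inv_mul_cancel ((hN n hn).pow_left k).symm)
  have h1 := MonoidHom.transfer_eq_pow (MonoidHom.id P) x key
  have h2 : MonoidHom.transfer (MonoidHom.id P) x = 1 :=
    Abelianization.commutator_subset_ker _ hc
  have h3 : x ^ (P : Subgroup G).index = 1 := congrArg Subtype.val (h1.symm.trans h2)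
  obtain ⟨k, hk⟩ := P.isPGroup' ⟨x, hx⟩
  have h4 : x ^ p ^ k = 1 := congrArg Subtype.val hk
  rw [← orderOf_eq_one_iff]
  exact Nat.eq_one_of_dvd_coprimes (Nat.Coprime.pow_left k
    ((Nat.Prime.coprime_iff_not_dvd Fact.out).mpr P.not_dvd_index))
    (orderOf_dvd_of_pow_eq_one h4) (orderOf_dvd_of_pow_eq_one h3)

/-- All primary subgroups are abelian. -/
def ASyl (G : Type u) [Group G] : Prop :=
  ∀ (p : ℕ) (P : Subgroup G), p.Prime → IsPGroup p P → IsMulCommutative P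

theorem exists_pow_prime {x : G} (hx : x ≠ 1) : ∃ k : ℕ, (orderOf (x ^ k)).Prime := by
  have h1 : orderOf x ≠ 1 := fun e => hx (orderOf_eq_one_iff.mp e)
  obtain ⟨p, hp, hd⟩ := Nat.exists_prime_and_dvd h1
  exact ⟨orderOf x / p, by rw [orderOf_pow_orderOf_div (orderOf_pos x).ne' hd]; exact hp⟩

theorem ASyl.eq_one (h : ASyl G) {H : Subgroup G} {x : G} (hx : x ∈ ⁅H, H⁆)
    (hc : ∀ y ∈ H, Commute x y) : x = 1 := by
  by_contra h1
  obtain ⟨k, hk⟩ := exists_pow_prime h1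
  have := Fact.mk hk
  have hH : x ∈ H := (commutator_le_self H) hx
  let y : H := ⟨x ^ k, H.pow_mem hH k⟩
  have hy : orderOf y = orderOf (x ^ k) := (orderOf_coe y).symm
  obtain ⟨P, hP⟩ := (IsPGroup.of_card (p := orderOf (x ^ k)) (n := 1) (G := zpowers y)
    (by rw [Nat.card_zpowers, hy, pow_one])).exists_le_sylow
  have hcm : IsMulCommutative ((P : Subgroup H).map H.subtype) :=
    h _ _ hk (P.isPGroup'.map _)
  have : IsMulCommutative P := comm_iff.mpr fun a ha b hb => Subtype.ext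
    (comm_iff.mp hcm a (mem_map_of_mem _ ha) b (mem_map_of_mem _ hb))
  have h2 := eq_one_of_transfer P (hP (mem_zpowers y)) (by
    have h3 : x ^ k ∈ (commutator H).map H.subtype := by
      rw [map_subtype_commutator]; exact pow_mem hx k
    obtain ⟨z, hz, e⟩ := h3
    rwa [show y = z from Subtype.ext e.symm]) fun n _ => Subtype.ext ((hc n n.2).pow_left k)
  rw [h2, orderOf_one] at hy
  exact hk.one_lt.ne hy

/-- Centralizers of nontrivial elements are abelian. -/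
def CAG (G : Type u) [Group G] : Prop := ∀ x : G, x ≠ 1 → IsMulCommutative 𝐂[x]

theorem CAG.cent_eq (h : CAG G) {x y : G} (hx : x ≠ 1) (hy : y ≠ 1) (hc : Commute x y) :
    𝐂[x] = 𝐂[y] :=
  le_antisymm (fun z hz => mem_cent.mpr (comm_iff.mp (h x hx) y (mem_cent.mpr hc) z hz))
    fun z hz => mem_cent.mpr (comm_iff.mp (h y hy) x (mem_cent.mpr hc.symm) z hz)

theorem CAG.mem_norm (h : CAG G) {x y g : G} (hx : x ≠ 1) (hy : y ≠ 1) (hc : Commute x y)
    (hg : Commute x (g * y * g⁻¹)) : g ∈ 𝐍(𝐂[x]) := by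
  have h1 : g * y * g⁻¹ ≠ 1 := fun e => hy (by simpa using e)
  refine mem_normalizer_fintype fun z hz => ?_
  rw [h.cent_eq hx h1 hg]
  rw [h.cent_eq hx hy hc] at hz
  exact mem_cent.mpr ((mem_cent.mp hz).map (MulAut.conj g))

theorem not_solvable [IsSimpleGroup G] (hna : ¬ IsMulCommutative G) : ¬ Group.IsSolvable G :=
  fun h => hna ⟨⟨IsSimpleGroup.comm_iff_isSolvable.mpr h⟩⟩

theorem exists_invol (h : Even (Nat.card G)) : ∃ t : G, t ≠ 1 ∧ t * t = 1 := by
  have := Fact.mk Nat.prime_two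
  obtain ⟨a, ha⟩ := exists_prime_orderOf_dvd_card' (G := G) 2 h.two_dvd
  exact ⟨a, fun e => by simp [e] at ha, by rw [← sq, ← ha]; exact pow_orderOf_eq_one a⟩

theorem even_card [IsSimpleGroup G] (hna : ¬ IsMulCommutative G) : Even (Nat.card G) :=
  Nat.not_odd_iff_even.mp fun h => not_solvable hna (feit_thompson G h)

theorem cent_ne_top [IsSimpleGroup G] (hna : ¬ IsMulCommutative G) {x : G} (hx : x ≠ 1) :
    𝐂[x] ≠ ⊤ := fun e => by
  have h1 : x ∈ center G := mem_center_iff.mpr fun g =>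
    (mem_cent.mp (e ▸ mem_top g : g ∈ 𝐂[x])).symm
  rcases (inferInstance : (center G).Normal).eq_bot_or_eq_top with h2 | h2
  · exact hx (mem_bot.mp (h2 ▸ h1))
  · exact hna ⟨⟨fun a b => (mem_center_iff.mp (h2 ▸ mem_top b : b ∈ center G) a)⟩⟩

theorem fitting_eq_bot [IsSimpleGroup G] (hna : ¬ IsMulCommutative G) :
    fittingSubgroup G = ⊥ := by
  rcases (inferInstance : (fittingSubgroup G).Normal).eq_bot_or_eq_top with h2 | h2
  · exact h2
  · have h3 : Group.IsNilpotent (fittingSubgroup G) := inferInstance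
    rw [h2] at h3
    have : Group.IsNilpotent G := Group.nilpotent_of_mulEquiv (topEquiv (G := G))
    exact (not_solvable hna inferInstance).elim

theorem CAG.zt [IsSimpleGroup G] (hna : ¬ IsMulCommutative G) (h : CAG G) {s : G} (s1 : s ≠ 1)
    (ss : s * s = 1) : ∃ (H : Subgroup G) (t : G) (hz : P2.ZT 𝐂[s] H t),
      𝐂[s] ⊔ H = 𝐍(𝐂[s]) ∧ 𝐂[s] = hz.Z := by
  have hc : H9.CTI 𝐂[s] := by
    refine ⟨fun x hx x1 => (h.cent_eq s1 x1 (mem_cent.mp hx)).ge, fun x hx x1 g hg =>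
      h.mem_norm s1 x1 (mem_cent.mp hx) (mem_cent.mp hg), ?_⟩
    have h2 : orderOf s = 2 := orderOf_eq_prime (by rw [sq, ss]) s1
    exact even_iff_two_dvd.mpr (h2 ▸ Subgroup.orderOf_dvd_natCard _ (mem_cent.mpr (Commute.refl s)))
  obtain ⟨H, t, hz, e⟩ := ZA.exists_zt (fitting_eq_bot hna) hc (cent_ne_top hna s1)
  exact ⟨H, t, hz, e, ZA.eq_Z_of_comm hz (comm_iff.mp (h s s1))⟩

section SL2

open Matrix

variable {F : Type*} [Field F] [CharP F 2]

theorem sl2_cag [DecidableEq F] (x : SpecialLinearGroup (Fin 2) F) (hx : x ≠ 1) :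
    IsMulCommutative (centralizer ({x} : Set (SpecialLinearGroup (Fin 2) F))) :=
  H4.SL2.isMulCommutative_centralizer (by rw [L.center_SL2_eq_bot, mem_bot]; exact hx)

theorem sl2_sq {y : SpecialLinearGroup (Fin 2) F} (h : H4.SL2.tr y = 0) : y * y = 1 := by
  have h1 := H4.SL2.cayley y
  rw [h, zero_smul, add_zero, CharTwo.neg_eq, one_smul] at h1
  exact Subtype.ext h1

theorem sl2_inv (x : SpecialLinearGroup (Fin 2) F) :
    ∃ w : SpecialLinearGroup (Fin 2) F, w * w = 1 ∧ w * x * w = x⁻¹ := by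
  have h2 : (2 : F) = 0 := CharTwo.two_eq_zero
  suffices h : ∃ a b c : F, a * a - b * c = 1 ∧
      a * x 0 0 + b * x 1 0 + (c * x 0 1 + a * x 1 1) = 0 by
    obtain ⟨a, b, c, h1, h3⟩ := h
    refine ⟨L.mkSL2 a b c a h1, sl2_sq ?_, eq_inv_of_mul_eq_one_left ?_⟩
    · change a + a = 0
      linear_combination a * h2
    · rw [mul_assoc]
      refine sl2_sq ?_
      rw [← h3]
      change ((!![a, b; c, a] * x.1) 0 0 + (!![a, b; c, a] * x.1) 1 1 : F) = _
      simp [Matrix.mul_apply, Fin.sum_univ_two]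
  by_cases hb : x 0 1 = 0
  · by_cases hc : x 1 0 = 0
    · exact ⟨0, 1, -1, by ring, by rw [hb, hc]; ring⟩
    · exact ⟨1, -(x 0 0 + x 1 1) / x 1 0, 0, by ring, by field_simp; ring⟩
  · exact ⟨1, 0, -(x 0 0 + x 1 1) / x 0 1, by ring, by field_simp; ring⟩

end SL2

theorem cag_of_psl {n : ℕ}
    (e : G ≃* Matrix.ProjectiveSpecialLinearGroup (Fin 2) (GaloisField 2 n)) :
    CAG G ∧ ∀ x : G, ∃ w, w * w = 1 ∧ w * x * w = x⁻¹ := by
  classical
  let f := e.trans (L.psl2Equiv (GaloisField 2 n))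
  refine ⟨fun x hx => comm_iff.mpr fun a ha b hb => ?_, fun x => ?_⟩
  · have h1 := comm_iff.mp (sl2_cag (f x) (by simpa using hx)) (f a)
      (L.mem_cent_iff.mpr ((mem_cent.mp ha).map f)) (f b)
      (L.mem_cent_iff.mpr ((mem_cent.mp hb).map f))
    exact f.injective (by rw [map_mul, map_mul]; exact h1)
  · obtain ⟨w, h1, h2⟩ := sl2_inv (f x)
    exact ⟨f.symm w, f.injective (by simpa using h1), f.injective (by simpa using h2)⟩

theorem card_of_psl {n : ℕ} (hn : n ≠ 0)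
    (e : G ≃* Matrix.ProjectiveSpecialLinearGroup (Fin 2) (GaloisField 2 n)) :
    Nat.card G = 2 ^ n * (2 ^ n - 1) * (2 ^ n + 1) := by
  classical
  rw [Nat.card_congr (e.trans (L.psl2Equiv (GaloisField 2 n))).toEquiv, L.card_SL2,
    GaloisField.card 2 n hn]

end Cfsg.Agent.H7.CA
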