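/-
Hk (S4266): block and primitive structure of solvable linear groups.  Interface, see plans/Hk.md.
-/
import Cfsg.Agent.FT.B.Core

set_option autoImplicit false

namespace Cfsg.Agent.H7.Hk

open Subgroup Cfsg Cfsg.Agent Cfsg.Agent.FT Module
open scoped commutatorElement

universe u

/-- Bound for `|C : D|` when the extraspecial part has order `E ^ 2` modulo `D`. -/
def ell (E : ℕ) : ℕ :=
  if E ≤ 1 then 1 else if E = 2 then 24 else if E = 3 then 216 else if E = 4 then 1152 else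
  if E ≤ 7 then E ^ 5 else if E ≤ 9 then 18579456 else E ^ (2 * Nat.log 2 E + 3)

/-- `N` is the stabilizer of a block `W` of dimension `m`, `J` the kernel of `N` on `W`, `D / J` a
maximal abelian normal subgroup of `N / J` and `C / J` its centralizer. -/
structure Cfg {H : Type*} [Group H] (p n : ℕ) (N J D C : Subgroup H) (m e E : ℕ) : Prop where
  JD : J ≤ D
  DC : D ≤ C
  CN : C ≤ N
  nJ : N ≤ 𝐍(J)
  nD : N ≤ 𝐍(D)
  nC : N ≤ 𝐍(C)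
  core : J.normalCore = ⊥
  cen : ∀ x ∈ C, ∀ d ∈ D, ⁅x, d⁆ ∈ J
  cyc : ∃ d, D = zpowers d ⊔ J
  dimN : N.index * m ≤ n
  dim : C.relIndex N * e ≤ m
  E1 : 1 ≤ E
  Ee : E ≤ e
  det : ∀ x ∈ C, ∀ y ∈ C, ⁅x, y⁆ ∈ D → ⁅x, y⁆ ^ e ∈ J
  sc : e = m → ¬ p ∣ e → ∀ d ∈ D, d ^ (p - 1) ∈ J
  le : D.relIndex C ≤ ell E
  sq : E ^ 2 ∣ D.relIndex C
  two : E = 2 → ∃ X : Subgroup H, D ≤ X ∧ X ≤ C ∧ C ≤ 𝐍(X) ∧ D.relIndex X = 4 ∧
    (∀ x ∈ X, x ^ 2 ∈ D) ∧ (∀ c ∈ C, (∀ x ∈ X, ⁅c, x⁆ ∈ D) → c ∈ X) ∧ X.relIndex C ∣ 6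
  three : E = 3 → (∃ r, r ∣ 48 ∧ r ≤ 24 ∧ D.relIndex C = 9 * r) ∧ ∀ x ∈ C, ∀ y ∈ C,
    x ∉ D → y ∉ D → x ^ 2 ∈ D → y ^ 2 ∈ D → (x * y⁻¹) ^ 3 ∈ D

/-- Chapters K1 and K2. -/
def KStmt : Prop := ∀ (p : ℕ) [Fact p.Prime] (H V : Type u) [Group H] [Finite H]
  [Group.IsSolvable H] [AddCommGroup V] [Module (ZMod p) V] [Finite V] [Nontrivial V]
  (ρ : H →* End (ZMod p) V), Function.Injective ρ →
  (∀ W : Submodule (ZMod p) V, (∀ h, ∀ w ∈ W, ρ h w ∈ W) → W = ⊥ ∨ W = ⊤) →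
  ∃ (N J D C : Subgroup H) (m e E : ℕ), Cfg p (finrank (ZMod p) V) N J D C m e E

/-- Chapter K3 (Dixon's bound for solvable permutation groups). -/
def DixonStmt : Prop := ∀ (H : Type u) [Group H] [Finite H] [Group.IsSolvable H] (N : Subgroup H),
  N.normalCore.index ^ 3 * 24 ≤ 24 ^ N.index

end Cfsg.Agent.H7.Hk
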