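/-
Hk, chapter K1: blocks of an irreducible linear group and weight spaces.
-/
import Cfsg.Agent.H7.HkDefs
import Cfsg.Agent.H5.KNum1
import Cfsg.Agent.H9.Weights

set_option autoImplicit false

namespace Cfsg.Agent.H7.Hk

open Subgroup Cfsg Cfsg.Agent Cfsg.Agent.FT Module
open Cfsg.Agent.H9 (fixer mem_fixer rep_mul_apply rep_inv_apply rep_apply_inv)
open scoped commutatorElement TensorProduct

universe u

theorem card_lt_of_notMem {α β : Type*} [Finite β] (f : α → β) (h : Function.Injective f) {b : β}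
    (hb : ∀ a, f a ≠ b) : Nat.card α < Nat.card β := by
  haveI := Finite.of_injective f h
  let _ := Fintype.ofFinite α
  let _ := Fintype.ofFinite β
  rw [Nat.card_eq_fintype_card, Nat.card_eq_fintype_card]
  exact Fintype.card_lt_of_injective_of_notMem f h fun ⟨a, e⟩ => hb a e

theorem wt {Γ F W : Type*} [Group Γ] [Finite Γ] [Field F] [IsAlgClosed F] [AddCommGroup W]
    [Module F W] [FiniteDimensional F W] [Nontrivial W] (σ : Γ →* End F W) (D : Subgroup Γ)
    [hDn : D.Normal] (hD : D ≤ 𝐂(D)) (fpf : ∀ d ∈ D, ∀ w, w ≠ 0 → σ d w = w → d = 1) :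
    ∃ e, 1 ≤ e ∧ 𝐂(D).index * e ≤ finrank F W ∧
      (∀ X ≤ 𝐂(D), ⁅X, X⁆ ≤ D → (∀ x ∈ X, x ∈ 𝐂(X) → x ∈ D) → D.relIndex X ≤ e ^ 2) ∧
      (e = finrank F W → ∃ μ : D →* F, Function.Injective μ ∧ ∀ d : D, σ d = μ d • 1) := by
  classical
  have hmul : ∀ a b w, σ (a * b) w = σ a (σ b w) := fun a b w => by rw [map_mul]; rfl
  obtain ⟨μ0, w0, -, hw0, hμ0⟩ := H1.exists_weight_vector (fun d : D => σ d) (W := ⊤) top_ne_bot
    (fun _ _ _ => trivial) (fun a b v _ => by
      rw [← hmul, ← hmul, mem_centralizer_iff.1 (hD b.2) a a.2])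
  have hinj : ∀ a b : F, a • w0 = b • w0 → a = b := fun a b h => smul_left_injective F hw0 h
  let μ : D →* F :=
    { toFun := μ0
      map_one' := hinj _ _ (by rw [← hμ0]; simp)
      map_mul' := fun a b => hinj _ _ (by
        rw [← hμ0, Subgroup.coe_mul, hmul, hμ0, map_smul, hμ0, smul_smul, mul_comm]) }
  have hμ : ∀ d : D, σ d w0 = μ d • w0 := hμ0
  have hμinj : Function.Injective μ := by
    have h1 : Function.Injective μ.toHomUnits := by
      rw [injective_iff_map_eq_one]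
      intro d hd
      have h2 : μ d = 1 := by simpa using congrArg Units.val hd
      exact Subtype.ext (fpf d d.2 w0 hw0 (by rw [hμ, h2, one_smul]))
    intro a b hab
    exact h1 (Units.ext hab)
  let Wμ : Submodule F W :=
    { carrier := {w | ∀ d : D, σ d w = μ d • w}
      zero_mem' := fun d => by simp
      add_mem' := fun {a b} ha hb d => by rw [map_add, ha d, hb d, smul_add]
      smul_mem' := fun c {a} ha d => by rw [map_smul, ha d, smul_comm] }
  have hw0' : w0 ∈ Wμ := hμ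
  haveI : Nontrivial Wμ := ⟨⟨⟨w0, hw0'⟩, 0, fun h => hw0 (congrArg Subtype.val h)⟩⟩
  have hEW : ∀ x ∈ 𝐂(D), ∀ w ∈ Wμ, σ x w ∈ Wμ := fun x hx w hw d => by
    rw [← hmul, mem_centralizer_iff.1 hx d d.2, hmul, hw d, map_smul]
  refine ⟨finrank F Wμ, finrank_pos, ?_, fun X hXE hXX hZ => ?_, fun h => ?_⟩
  · let E := 𝐂(D)
    let _ := Fintype.ofFinite (Γ ⧸ E)
    let b := Module.finBasis F Wμ
    let χ : Γ ⧸ E → D →* F := fun q => μ.comp (MulAut.conjNormal (q.out)⁻¹).toMonoidHom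
    have hχ : Function.Injective χ := by
      intro q q' hq
      rw [← q.out_eq, ← q'.out_eq]
      refine QuotientGroup.eq.2 (mem_centralizer_iff.2 fun y hy => ?_)
      have h1 := congrArg Subtype.val (hμinj (DFunLike.congr_fun hq
        ⟨q.out * y * q.out⁻¹, hDn.conj_mem y hy _⟩))
      simp only [MulEquiv.toMonoidHom_eq_coe, MonoidHom.coe_coe, MulAut.conjNormal_apply,
        inv_inv] at h1
      calc y * (q.out⁻¹ * q'.out) = q.out⁻¹ * q'.out *
            (q'.out⁻¹ * (q.out * y * q.out⁻¹) * q'.out) := by group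
        _ = _ := by rw [← h1]; group
    have hli : LinearIndependent F fun z : (Γ ⧸ E) × Fin (finrank F Wμ) => σ z.1.out (b z.2) := by
      rw [Fintype.linearIndependent_iff]
      intro a ha z
      have h1 := H5.KN.eq_zero_of_weights (D := D) (fun d => σ d) χ hχ
        (fun q => σ q.out (∑ j, a (q, j) • b j : Wμ)) (fun q d => by
          have h2 := (∑ j, a (q, j) • b j : Wμ).2 (MulAut.conjNormal (q.out)⁻¹ d)
          change _ = μ (MulAut.conjNormal (q.out)⁻¹ d) • _
          rw [← map_smul, ← h2, ← hmul, ← hmul]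
          congr 2
          simp only [MulAut.conjNormal_apply]; group) (by
          rw [← ha, Fintype.sum_prod_type]
          refine Finset.sum_congr rfl fun q _ => ?_
          simp only [Submodule.coe_sum, Submodule.coe_smul, map_sum, map_smul]) z.1
      have h4 := congrArg (σ (z.1.out : Γ)⁻¹) h1
      rw [← hmul, inv_mul_cancel, map_one, map_zero] at h4
      exact Fintype.linearIndependent_iff.1 b.linearIndependent (fun j => a (z.1, j))
        (Subtype.ext h4) z.2
    have h5 := hli.fintype_card_le_finrank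
    rw [Fintype.card_prod, Fintype.card_fin, ← Nat.card_eq_fintype_card] at h5
    exact h5
  · let T : X → End F Wμ := fun x => (σ x).restrict (hEW x (hXE x.2))
    have hT : ∀ (x : X) (w : Wμ), (T x w : W) = σ x w := fun _ _ => rfl
    have hc : ∀ x y : X, ⁅(y : Γ), (x : Γ)⁆ ∈ D := fun x y =>
      hXX (commutator_mem_commutator y.2 x.2)
    let θ : X → X →* F := fun x =>
      { toFun := fun y => μ ⟨⁅(y : Γ), (x : Γ)⁆, hc x y⟩
        map_one' := by
          have : (⟨⁅((1 : X) : Γ), (x : Γ)⁆, hc x 1⟩ : D) = 1 := Subtype.ext (by simp)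
          rw [this, map_one]
        map_mul' := fun a b => by
          rw [← map_mul]
          congr 1
          apply Subtype.ext
          have h1 := mem_centralizer_iff.1 (hXE a.2) _ (hc x b)
          have h2 := mem_centralizer_iff.1 (hD (hc x a)) _ (hc x b)
          simp only [Subgroup.coe_mul]
          rw [← h2]
          calc ⁅(a : Γ) * b, (x : Γ)⁆ = (a * ⁅(b : Γ), (x : Γ)⁆) * (a : Γ)⁻¹ * ⁅(a : Γ), (x : Γ)⁆ := by
                simp only [commutatorElement_def]; group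
            _ = _ := by rw [← h1]; group }
    let _ := Fintype.ofFinite (X ⧸ D.subgroupOf X)
    have hθ : Function.Injective fun q : X ⧸ D.subgroupOf X => θ q.out := by
      intro q q' hq
      rw [← q.out_eq, ← q'.out_eq]
      refine QuotientGroup.eq.2 (hZ _ (q.out⁻¹ * q'.out).2 (mem_centralizer_iff.2 fun y hy => ?_))
      have h1 : ⁅y, (q.out : Γ)⁆ = ⁅y, (q'.out : Γ)⁆ :=
        congrArg Subtype.val (hμinj (DFunLike.congr_fun hq ⟨y, hy⟩))
      simp only [commutatorElement_def] at h1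
      change y * ((q.out : Γ)⁻¹ * q'.out) = ((q.out : Γ)⁻¹ * q'.out) * y
      have h2 : (q.out : Γ) * y⁻¹ * (q.out : Γ)⁻¹ = q'.out * y⁻¹ * (q'.out : Γ)⁻¹ := by
        have := congrArg (fun z => y⁻¹ * z) h1
        simpa [mul_assoc] using this
      calc y * ((q.out : Γ)⁻¹ * q'.out) =
            (q.out : Γ)⁻¹ * ((q.out : Γ) * y⁻¹ * (q.out : Γ)⁻¹)⁻¹ * q'.out := by group
        _ = _ := by rw [h2]; group
    have hli : LinearIndependent F fun q : X ⧸ D.subgroupOf X => T q.out := by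
      rw [Fintype.linearIndependent_iff]
      intro a ha q
      have h1 := H5.KN.eq_zero_of_weights (D := X)
        (fun y => (LinearMap.mulLeft F (T y)).comp (LinearMap.mulRight F (T y⁻¹)))
        (fun q => θ q.out) hθ (fun q => a q • T q.out) (fun q y => by
          rw [map_smul, smul_comm]
          congr 1
          ext w
          change (σ y (σ q.out (σ (y⁻¹ : X) w))) = μ ⟨⁅(y : Γ), (q.out : Γ)⁆, hc _ _⟩ • σ q.out w
          rw [← hEW _ (hXE q.out.2) w w.2, ← hmul, ← hmul, ← hmul]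
          congr 2
          simp only [commutatorElement_def, Subgroup.coe_inv]; group) ha q
      refine (smul_eq_zero.1 h1).resolve_right fun h2 => hw0 ?_
      have h3 : σ q.out w0 = 0 := by
        rw [← hT q.out ⟨w0, hw0'⟩, h2]; rfl
      have h4 := congrArg (σ (q.out : Γ)⁻¹) h3
      rwa [← hmul, inv_mul_cancel, map_one, map_zero] at h4
    have h5 := hli.fintype_card_le_finrank
    rw [Module.finrank_linearMap, ← Nat.card_eq_fintype_card, ← sq] at h5
    exact h5
  · have h1 := Submodule.eq_top_of_finrank_eq h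
    exact ⟨μ, hμinj, fun d => LinearMap.ext fun w => (h1.ge Submodule.mem_top : w ∈ Wμ) d⟩

/-- The data given by a maximal abelian normal subgroup `D` of a primitive linear group. -/
structure Wt {Γ : Type*} [Group Γ] (p : ℕ) (D : Subgroup Γ) (m e : ℕ) : Prop where
  normal : D.Normal
  comm : D ≤ 𝐂(D)
  max : ∀ A : Subgroup Γ, A.Normal → D ≤ A → A ≤ 𝐂(A) → A = D
  cyc : IsCyclic D
  card : 𝐨(D) < p ^ m
  cop : ∀ d ∈ D, d ^ p = 1 → d = 1
  e1 : 1 ≤ e
  dim : 𝐂(D).index * e ≤ m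
  sq : ∀ X ≤ 𝐂(D), ⁅X, X⁆ ≤ D → (∀ x ∈ X, x ∈ 𝐂(X) → x ∈ D) → D.relIndex X ≤ e ^ 2
  sc : e = m → ¬ p ∣ e → ∀ d ∈ D, d ^ (p - 1) = 1

theorem exists_wt {p : ℕ} [hp : Fact p.Prime] {Γ U : Type*} [Group Γ] [Finite Γ] [AddCommGroup U]
    [Module (ZMod p) U] [Finite U] [Nontrivial U] (σ : Γ →* End (ZMod p) U)
    (h : ∀ A : Subgroup Γ, A.Normal → A ≤ 𝐂(A) → ∀ d ∈ A, ∀ u, u ≠ 0 → σ d u = u → d = 1) :
    ∃ (D : Subgroup Γ) (e : ℕ), Wt p D (finrank (ZMod p) U) e := by
  obtain ⟨D, ⟨hDn, hD⟩, hmax⟩ := exists_maximal_of_wellFoundedGT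
    (fun A : Subgroup Γ => A.Normal ∧ A ≤ 𝐂(A)) ⟨⊥, inferInstance, bot_le⟩
  have fpf := h D hDn hD
  let F := AlgebraicClosure (ZMod p)
  let σ' : Γ →* End F (F ⊗[ZMod p] U) := (End.baseChangeHom (ZMod p) F U).toMonoidHom.comp σ
  have hfr : finrank F (F ⊗[ZMod p] U) = finrank (ZMod p) U := Module.finrank_baseChange
  haveI : Nontrivial (F ⊗[ZMod p] U) := by
    rw [← finrank_pos_iff (R := F), hfr]
    exact finrank_pos
  have fpf' : ∀ d ∈ D, ∀ w, w ≠ 0 → σ' d w = w → d = 1 := by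
    intro d hd w hw h
    by_contra hd1
    have h1 : IsUnit (σ d - 1) := by
      rw [LinearMap.isUnit_iff_ker_eq_bot, eq_bot_iff]
      intro u hu
      by_contra hu0
      exact hd1 (fpf d hd u hu0 (by simpa [sub_eq_zero] using hu))
    have h2 := h1.map (End.baseChangeHom (ZMod p) F U)
    rw [map_sub, map_one, LinearMap.isUnit_iff_ker_eq_bot, eq_bot_iff] at h2
    exact hw (h2 (show End.baseChangeHom (ZMod p) F U (σ d) w - w = 0 from sub_eq_zero.2 h))
  obtain ⟨e, e1, e2, e3, e5⟩ := wt σ' D hD fpf'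
  refine ⟨D, e, hDn, hD, fun A h1 h2 h3 => le_antisymm (hmax ⟨h1, h3⟩ h2) h2,
    (H5.KN.dim_bounds σ' D D hD fpf' hD (commutator_le_left _ _) fun _ h _ => h).1, ?_,
    fun d hd h1 => ?_, e1, hfr ▸ e2, e3, fun h1 h2 d hd => ?_⟩
  · obtain ⟨u, hu⟩ := exists_ne (0 : U)
    have h1 := Module.natCard_eq_pow_finrank (K := ZMod p) (V := U)
    rw [Nat.card_zmod] at h1
    rw [← h1]
    refine card_lt_of_notMem (fun d : D => σ d u)
      (fun a b e => inv_mul_eq_one.1 (Subtype.ext (fpf _ (a⁻¹ * b).2 u hu ?_)))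
      fun d hd => hu (H9.rep_eq_zero σ _ hd)
    rw [Subgroup.coe_mul, rep_mul_apply, ← show σ a u = σ b u from e, Subgroup.coe_inv,
      rep_inv_apply]
  · by_contra d1
    haveI : CharP (End (ZMod p) U) p := charP_of_injective_algebraMap
      (algebraMap (ZMod p) (End (ZMod p) U)).injective p
    have h2 : IsUnit (σ d - 1) := by
      rw [LinearMap.isUnit_iff_ker_eq_bot, eq_bot_iff]
      intro u hu
      by_contra hu0
      exact d1 (fpf d hd u hu0 (by simpa [sub_eq_zero] using hu))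
    have h3 := h2.pow p
    rw [sub_pow_char_of_commute p (Commute.one_right _), ← map_pow, h1, map_one, one_pow,
      sub_self] at h3
    exact not_isUnit_zero h3
  · obtain ⟨μ, hμ, h3⟩ := e5 (h1.trans hfr.symm)
    have h4 := LinearMap.trace_baseChange (σ d) F
    have h5 : (σ d).baseChange F = μ ⟨d, hd⟩ • 1 := h3 ⟨d, hd⟩
    rw [h5, map_smul, LinearMap.trace_one, hfr, ← h1, smul_eq_mul] at h4
    have h6 : (e : ZMod p) ≠ 0 := by rwa [Ne, ZMod.natCast_eq_zero_iff]
    have h7 : μ ⟨d, hd⟩ = algebraMap (ZMod p) F (LinearMap.trace _ _ (σ d) / e) := by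
      rw [map_div₀, ← h4, map_natCast, mul_div_cancel_right₀]
      rw [← map_natCast (algebraMap (ZMod p) F)]
      exact (map_ne_zero _).2 h6
    have h8 : LinearMap.trace _ _ (σ d) / e ≠ 0 := fun e0 =>
      (μ.toHomUnits ⟨d, hd⟩).ne_zero (h7.trans (by rw [e0, map_zero]))
    refine congrArg Subtype.val (hμ (show μ (⟨d, hd⟩ ^ (p - 1)) = μ 1 from ?_))
    rw [map_pow, h7, ← map_pow, ZMod.pow_card_sub_one_eq_one h8, map_one, map_one]

section Blocks

variable {k H V : Type*} [Field k] [Group H] [AddCommGroup V] [Module k V]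

/-- The stabilizer of a subspace. -/
def stab (ρ : H →* End k V) (W : Submodule k V) : Subgroup H where
  carrier := {h | ∀ v, v ∈ W ↔ ρ h v ∈ W}
  one_mem' := fun v => by simp
  mul_mem' := fun {a b} ha hb v => by rw [rep_mul_apply, ← ha, ← hb]
  inv_mem' := fun {a} ha v => by rw [ha (ρ a⁻¹ v), rep_apply_inv]

/-- The vectors of `W` fixed by `B`. -/
def fx (ρ : H →* End k V) (W : Submodule k V) (B : Subgroup H) : Submodule k V where
  carrier := {v | v ∈ W ∧ ∀ b ∈ B, ρ b v = v}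
  zero_mem' := ⟨W.zero_mem, by simp⟩
  add_mem' := fun ha hb => ⟨W.add_mem ha.1 hb.1, fun b h => by rw [map_add, ha.2 b h, hb.2 b h]⟩
  smul_mem' := fun c _ ha => ⟨W.smul_mem c ha.1, fun b h => by rw [map_smul, ha.2 b h]⟩

variable {ρ : H →* End k V} {W : Submodule k V}

theorem fx_conj {B : Subgroup H} {g : H} (hg : g ∈ stab ρ W) {v : V} (hv : v ∈ fx ρ W B) :
    ρ g v ∈ fx ρ W (B ^ᵍ g) :=
  ⟨(hg v).1 hv.1, fun _ hb => by
    obtain ⟨c, hc, rfl⟩ := mem_conj'.1 hb
    rw [rep_mul_apply, rep_mul_apply, rep_inv_apply, hv.2 c hc]⟩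

theorem fx_indep {A : Subgroup H} (hA : A ≤ stab ρ W) (hc : ⁅A, A⁆ ≤ fixer ρ W) {ι : Type*}
    (B : ι → Subgroup H) (hi : Function.Injective B) (hB : ∀ i, B i ≤ A ∧ fx ρ W (B i) ≠ ⊥)
    (hm : ∀ i B', B i ≤ B' → B' ≤ A → fx ρ W B' ≠ ⊥ → B' ≤ B i) (s : Finset ι) :
    ∀ v : ι → V, (∀ i, v i ∈ fx ρ W (B i)) → ∑ i ∈ s, v i = 0 → ∀ i ∈ s, v i = 0 := by
  classical
  induction s using Finset.induction_on with
  | empty => simp
  | insert j s hj ih =>
    intro v hv h0
    have key : ∀ i ∈ s, v i = 0 := fun i hi' => by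
      obtain ⟨b, b1, b2⟩ := SetLike.not_le_iff_exists.1 fun h : B j ≤ B i =>
        hj (hi (le_antisymm h (hm j _ h (hB i).1 (hB i).2)) ▸ hi')
      have bA := (hB j).1 b1
      have h1 := ih (fun l => ρ b (v l) - v l) (fun l => Submodule.sub_mem _ ⟨(hA bA _).1 (hv l).1,
        fun c hc' => ?_⟩ (hv l)) ?_ i hi'
      · by_contra h2
        refine b2 (hm i (B i ⊔ zpowers b) le_sup_left (sup_le (hB i).1 (zpowers_le.2 bA))
          ((Submodule.ne_bot_iff _).2 ⟨v i, ⟨(hv i).1, fun c hc => ?_⟩, h2⟩)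
          (mem_sup_right (mem_zpowers b)))
        exact (sup_le (fun c hc w hw => by rw [Submodule.mem_span_singleton] at hw; obtain ⟨a, rfl⟩ := hw; rw [map_smul, (hv i).2 c hc])
          (zpowers_le.2 fun w hw => by rw [Submodule.mem_span_singleton] at hw; obtain ⟨a, rfl⟩ := hw; rw [map_smul, sub_eq_zero.1 h1]) :
          B i ⊔ zpowers b ≤ fixer ρ (Submodule.span k {v i})) hc _ (Submodule.subset_span rfl)
      · have h3 := hc (commutator_mem_commutator (inv_mem bA) ((hB l).1 hc')) _ (hv l).1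
        have h4 : ρ c⁻¹ (v l) = v l := (hv l).2 _ (inv_mem hc')
        rw [commutatorElement_def, rep_mul_apply, h4, inv_inv, rep_mul_apply, rep_mul_apply] at h3
        rw [← rep_apply_inv ρ b (ρ c _), h3]
      · rw [Finset.sum_insert hj] at h0
        have h3 := congrArg (ρ b) h0
        rw [map_add, (hv j).2 b b1, map_sum, map_zero] at h3
        rw [Finset.sum_sub_distrib]
        linear_combination (norm := module) h3 - h0
    rw [Finset.sum_insert hj, Finset.sum_eq_zero key, add_zero] at h0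
    exact (Finset.forall_mem_insert _ _ _).2 ⟨h0, key⟩

theorem exists_block [Finite H] [FiniteDimensional k V] [Nontrivial V] (ρ : H →* End k V) :
    ∃ W : Submodule k V, W ≠ ⊥ ∧ (stab ρ W).index * finrank k W ≤ finrank k V ∧
      ∀ A : Subgroup H, A ≤ stab ρ W → stab ρ W ≤ 𝐍(A) → ⁅A, A⁆ ≤ fixer ρ W →
        ∀ a ∈ A, ∀ w ∈ W, w ≠ 0 → ρ a w = w → a ∈ fixer ρ W := by
  classical
  obtain ⟨W, ⟨W0, hW⟩, hmin⟩ := exists_minimal_of_wellFoundedLT
    (fun W : Submodule k V => W ≠ ⊥ ∧ (stab ρ W).index * finrank k W ≤ finrank k V)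
    ⟨⊤, top_ne_bot, by
      rw [show stab ρ ⊤ = ⊤ from (eq_top_iff' _).2 fun _ _ => by simp]; simp⟩
  refine ⟨W, W0, hW, fun A hA hn hc a ha w hw w0 e => ?_⟩
  obtain ⟨B, aB, ⟨BA, B0⟩, hB⟩ := exists_maximal_ge_of_wellFoundedGT
    (fun B : Subgroup H => B ≤ A ∧ fx ρ W B ≠ ⊥) (zpowers a) ⟨zpowers_le.2 ha,
      (Submodule.ne_bot_iff _).2 ⟨w, ⟨hw, fun b hb => H9.fix_of_mem_zpowers e hb⟩, w0⟩⟩
  let N := stab ρ W
  let Q := N ⧸ 𝐍(B).subgroupOf N
  let _ := Fintype.ofFinite Q
  have back : ∀ g ∈ N, ∀ B', fx ρ W B' ≠ ⊥ → fx ρ W (B' ^ᵍ g) ≠ ⊥ := fun g hg B' h => by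
    obtain ⟨v, hv, v0⟩ := (Submodule.ne_bot_iff _).1 h
    exact (Submodule.ne_bot_iff _).2 ⟨_, fx_conj hg hv, fun e => v0 (H9.rep_eq_zero ρ g e)⟩
  have ind := fx_indep hA hc (fun q : Q => B ^ᵍ (q.out : H))
    (fun q q' e => by
      rw [← q.out_eq, ← q'.out_eq]
      refine QuotientGroup.eq.2 (conj_eq_self_iff.1 ?_)
      change B ^ᵍ ((q.out : H)⁻¹ * q'.out) = B
      rw [← conj_conj, ← show B ^ᵍ (q.out : H) = B ^ᵍ (q'.out : H) from e, conj_conj_inv])
    (fun q => ⟨conj_le_of_mem_norm BA (hn q.out.2), back _ q.out.2 _ B0⟩)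
    (fun q B' h1 h2 h3 => le_conj_iff.2 (hB ⟨conj_le_of_mem_norm h2 (hn (inv_mem q.out.2)),
      back _ (inv_mem q.out.2) _ h3⟩ (conj_le_iff.1 h1))) Finset.univ
  let f : (Q → fx ρ W B) →ₗ[k] W := LinearMap.codRestrict W
    (∑ q : Q, (ρ q.out).comp ((fx ρ W B).subtype.comp (LinearMap.proj q))) fun v => by
      rw [LinearMap.sum_apply]
      exact W.sum_mem fun q _ => (q.out.2 _).1 (v q).2.1
  have hf : Function.Injective f := (injective_iff_map_eq_zero f).2 fun v hv => funext fun q =>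
    Subtype.ext (H9.rep_eq_zero ρ _ (ind (fun q => ρ q.out (v q)) (fun q => fx_conj q.out.2 (v q).2)
      (by simpa [f] using congrArg Subtype.val hv) q (Finset.mem_univ q)))
  have h1 := LinearMap.finrank_le_finrank_of_injective hf
  rw [Module.finrank_pi_fintype, Finset.sum_const, smul_eq_mul, Finset.card_univ,
    ← Nat.card_eq_fintype_card] at h1
  have h2 : 𝐍(B) ⊓ N ≤ stab ρ (fx ρ W B) := fun g hg v => ⟨fun hv => by
    have := fx_conj hg.2 hv
    rwa [conj_eq_of_mem_norm hg.1] at this, fun hv => by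
    have := fx_conj (inv_mem (show g ∈ N from hg.2)) hv
    rwa [conj_eq_of_mem_norm (inv_mem (show g ∈ 𝐍(B) from hg.1)), rep_inv_apply] at this⟩
  have h3 := Nat.le_of_dvd (Nat.pos_of_ne_zero index_ne_zero_of_finite) (index_dvd_of_le h2)
  rw [← relIndex_mul_index inf_le_right, inf_relIndex_right] at h3
  have h4 := hmin (y := fx ρ W B) ⟨B0, (Nat.mul_le_mul_right _ h3).trans (by
    rw [mul_comm _ N.index, mul_assoc]
    exact (Nat.mul_le_mul_left _ h1).trans hW)⟩ fun v hv => hv.1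
  exact fun v hv => (h4 hv).2 a (aB (mem_zpowers a))

end Blocks

theorem k1 {p : ℕ} [Fact p.Prime] {H V : Type u} [Group H] [Finite H] [AddCommGroup V]
    [Module (ZMod p) V] [Finite V] [Nontrivial V] (ρ : H →* End (ZMod p) V)
    (hf : Function.Injective ρ)
    (irr : ∀ W : Submodule (ZMod p) V, (∀ h, ∀ w ∈ W, ρ h w ∈ W) → W = ⊥ ∨ W = ⊤) :
    ∃ (N : Subgroup H) (Γ : Type u) (_ : Group Γ) (_ : Finite Γ) (π : N →* Γ) (D : Subgroup Γ)
      (m e : ℕ), Function.Surjective π ∧ (π.ker.map N.subtype).normalCore = ⊥ ∧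
      N.index * m ≤ finrank (ZMod p) V ∧ Wt p D m e := by
  obtain ⟨W, W0, hW, h⟩ := exists_block ρ
  let N := stab ρ W
  let τ : N →* End (ZMod p) W :=
    { toFun := fun g => (ρ g).restrict fun v hv => (g.2 v).1 hv
      map_one' := by ext w; simp
      map_mul' := fun a b => by ext w; exact rep_mul_apply ρ a b w }
  let π := τ.toHomUnits.rangeRestrict
  have hπ : ∀ g : N, π g = 1 ↔ (g : H) ∈ fixer ρ W := fun g =>
    ⟨fun e v hv => congrArg Subtype.val (LinearMap.congr_fun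
      (congrArg (fun x : τ.toHomUnits.range => (x.1 : End (ZMod p) W)) e) ⟨v, hv⟩),
    fun e => Subtype.ext (Units.ext (LinearMap.ext fun w => Subtype.ext (e w w.2)))⟩
  have hs : Function.Surjective π := MonoidHom.rangeRestrict_surjective _
  haveI : Nontrivial W := Submodule.nontrivial_iff_ne_bot.2 W0
  haveI : Finite τ.toHomUnits.range := Finite.of_surjective π hs
  obtain ⟨D, e, hD⟩ := exists_wt ((Units.coeHom _).comp τ.toHomUnits.range.subtype)
    fun A hA hc d hd u u0 e => by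
      obtain ⟨g, rfl⟩ := hs d
      refine (hπ g).2 (h ((A.comap π).map N.subtype) (map_subtype_le _)
        (fun x hx => mem_norm_of_conj_le ?_) (commutator_le.2 ?_) g (mem_map_of_mem _ hd) u u.2
        (fun e => u0 (Subtype.ext e)) (congrArg Subtype.val e))
      · intro y hy
        obtain ⟨_, ⟨a, ha, rfl⟩, rfl⟩ := mem_conj'.1 hy
        exact ⟨⟨x, hx⟩ * a * ⟨x, hx⟩⁻¹, (hA.comap π).conj_mem a ha _, rfl⟩
      · rintro _ ⟨a, ha, rfl⟩ _ ⟨b, hb, rfl⟩
        refine (hπ ⁅a, b⁆).1 ?_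
        rw [map_commutatorElement, commutatorElement_eq_one_iff_mul_comm]
        exact mem_cent.1 (hc hb) _ ha
  refine ⟨N, _, inferInstance, inferInstance, π, D, _, e, hs, eq_bot_iff.2 fun g hg => ?_, hW, hD⟩
  let U : Submodule (ZMod p) V :=
    { carrier := {v | ∀ x ∈ (π.ker.map N.subtype).normalCore, ρ x v = v}
      zero_mem' := by simp
      add_mem' := fun ha hb x hx => by rw [map_add, ha x hx, hb x hx]
      smul_mem' := fun c _ ha x hx => by rw [map_smul, ha x hx] }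
  have h1 : W ≤ U := fun w hw x hx => by
    obtain ⟨y, hy, rfl⟩ := normalCore_le _ hx
    exact (hπ y).1 hy w hw
  have h2 := (irr U fun a v hv x hx => by
    have := hv _ (Normal.conj_mem' inferInstance x hx a)
    rw [rep_mul_apply, rep_mul_apply] at this
    rw [← rep_apply_inv ρ a (ρ x _), this]).resolve_left fun e => W0 (eq_bot_iff.2 (e ▸ h1))
  exact hf (LinearMap.ext fun v => by
    rw [map_one]; exact (h2.ge Submodule.mem_top : v ∈ U) g hg)

end Cfsg.Agent.H7.Hk
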