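/-
Hk, chapter K2: groups acting on a symplectic section `Y / D`.
-/
import Cfsg.Agent.H7.Hk1
import Cfsg.Agent.FT.B.Act

set_option autoImplicit false

namespace Cfsg.Agent.H7.Hk

open Subgroup Cfsg Cfsg.Agent Cfsg.Agent.FT Module
open scoped commutatorElement

variable {Γ : Type*} [Group Γ]

theorem relIndex_le_of_map {K S : Subgroup Γ} {T : Type*} [Finite T] (f : S → T)
    (h : ∀ a b : S, f a = f b → (a : Γ)⁻¹ * b ∈ K) : K.relIndex S ≤ Nat.card T :=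
  Nat.card_le_card_of_injective (fun q : S ⧸ K.subgroupOf S => f q.out) fun q q' e => by
    rw [← q.out_eq, ← q'.out_eq]
    exact QuotientGroup.eq.2 (h _ _ e)

theorem relIndex_lt_of_map {K S : Subgroup Γ} {T : Type*} [Finite T] (f : S → T)
    (h : ∀ a b : S, f a = f b → (a : Γ)⁻¹ * b ∈ K) {t : T} (ht : ∀ a, f a ≠ t) :
    K.relIndex S < Nat.card T :=
  card_lt_of_notMem (fun q : S ⧸ K.subgroupOf S => f q.out) (fun q q' e => by
    rw [← q.out_eq, ← q'.out_eq]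
    exact QuotientGroup.eq.2 (h _ _ e)) fun _ => ht _

theorem relIndex_zpowers_dvd {A : Subgroup Γ} {a : Γ} {p : ℕ} (h : a ^ p ∈ A) :
    A.relIndex (zpowers a) ∣ p := by
  have hn : (A.subgroupOf (zpowers a)).Normal := inferInstance
  have hc : IsCyclic (zpowers a ⧸ A.subgroupOf (zpowers a)) :=
    isCyclic_of_surjective _ (QuotientGroup.mk'_surjective _)
  change Nat.card (zpowers a ⧸ A.subgroupOf (zpowers a)) ∣ p
  rw [← hc.exponent_eq_card, Monoid.exponent_dvd_iff_forall_pow_eq_one]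
  intro x
  obtain ⟨⟨_, k, rfl⟩, rfl⟩ := QuotientGroup.mk_surjective x
  rw [← QuotientGroup.mk_pow, QuotientGroup.eq_one_iff, mem_subgroupOf]
  change (a ^ k) ^ p ∈ A
  rw [← zpow_natCast, ← zpow_mul, mul_comm, zpow_mul, zpow_natCast]
  exact zpow_mem h k

theorem le_of_relIndex_prime {p : ℕ} (hp : p.Prime) {A B K : Subgroup Γ} (hBA : B ≤ A)
    (hi : B.relIndex A = p) (hK : B ≤ K) {a : Γ} (ha : a ∈ A) (haB : a ∉ B) (haK : a ∈ K) :
    A ≤ K := by
  have h2 := relIndex_mul_relIndex B (K ⊓ A) A (le_inf hK hBA) inf_le_right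
  rw [hi] at h2
  rcases (Nat.dvd_prime hp).1 (Dvd.intro _ h2) with h | h
  · exact absurd (relIndex_eq_one.1 h ⟨haK, ha⟩) haB
  · rw [h] at h2
    exact (relIndex_eq_one.1 (Nat.eq_of_mul_eq_mul_left hp.pos (h2.trans (mul_one p).symm))).trans
      inf_le_left

theorem exists_char (D : Type*) [Group D] [Finite D] [IsCyclic D] :
    ∃ μ : D →* ℂ, Function.Injective μ := by
  haveI : NeZero (Nat.card D) := ⟨Nat.card_pos.ne'⟩
  let e : D ≃* rootsOfUnity (Nat.card D) ℂ :=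
    mulEquivOfCyclicCardEq (Complex.card_rootsOfUnity _).symm
  exact ⟨(Units.coeHom ℂ).comp ((Subgroup.subtype _).comp e.toMonoidHom),
    Units.val_injective.comp (Subtype.val_injective.comp e.injective)⟩

theorem dual_le [Finite Γ] {D S Y : Subgroup Γ} [IsCyclic D] (hY : Y ≤ 𝐂(D)) (h : ⁅Y, S⁆ ≤ D) :
    𝐂(Y).relIndex S ≤ 𝐂(S).relIndex Y := by
  obtain ⟨μ, hμ⟩ := exists_char D
  have hc : ∀ (s : S) (y : Y), ⁅(y : Γ), (s : Γ)⁆ ∈ D := fun s y =>
    h (commutator_mem_commutator y.2 s.2)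
  let θ : S → Y →* ℂ := fun s =>
    { toFun := fun y => μ ⟨⁅(y : Γ), (s : Γ)⁆, hc s y⟩
      map_one' := by
        have : (⟨⁅((1 : Y) : Γ), (s : Γ)⁆, hc s 1⟩ : D) = 1 := Subtype.ext (by simp)
        rw [this, map_one]
      map_mul' := fun a b => by
        rw [mul_comm (μ _), ← map_mul]
        congr 1
        apply Subtype.ext
        have h1 := mem_centralizer_iff.1 (hY a.2) _ (hc s b)
        simp only [Subgroup.coe_mul]
        calc ⁅(a : Γ) * b, (s : Γ)⁆ = (a * ⁅(b : Γ), (s : Γ)⁆) * (a : Γ)⁻¹ * ⁅(a : Γ), (s : Γ)⁆ := by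
              simp only [commutatorElement_def]; group
          _ = _ := by rw [← h1]; group }
  have hθ : Function.Injective fun q : S ⧸ 𝐂(Y).subgroupOf S => θ q.out := by
    intro q q' hq
    rw [← q.out_eq, ← q'.out_eq]
    refine QuotientGroup.eq.2 (mem_centralizer_iff.2 fun y hy => ?_)
    have h1 : ⁅y, (q.out : Γ)⁆ = ⁅y, (q'.out : Γ)⁆ :=
      congrArg Subtype.val (hμ (DFunLike.congr_fun hq ⟨y, hy⟩))
    change y * ((q.out : Γ)⁻¹ * q'.out) = ((q.out : Γ)⁻¹ * q'.out) * y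
    calc y * ((q.out : Γ)⁻¹ * q'.out) =
          (q.out : Γ)⁻¹ * (y⁻¹ * ⁅y, (q.out : Γ)⁆)⁻¹ * q'.out := by
          simp only [commutatorElement_def]; group
      _ = _ := by rw [h1]; simp only [commutatorElement_def]; group
  let _ := Fintype.ofFinite (S ⧸ 𝐂(Y).subgroupOf S)
  let _ := Fintype.ofFinite (Y ⧸ 𝐂(S).subgroupOf Y)
  have hli : LinearIndependent ℂ fun (q : S ⧸ 𝐂(Y).subgroupOf S) (r : Y ⧸ 𝐂(S).subgroupOf Y) =>
      θ q.out r.out := by
    refine LinearIndependent.of_comp (LinearMap.funLeft ℂ ℂ QuotientGroup.mk) ?_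
    have h0 := (linearIndependent_monoidHom Y ℂ).comp _ hθ
    convert h0 using 1
    swap
    · rfl
    ext q y
    obtain ⟨c, hc'⟩ := QuotientGroup.mk_out_eq_mul (𝐂(S).subgroupOf Y) y
    change θ q.out (QuotientGroup.mk y : Y ⧸ 𝐂(S).subgroupOf Y).out = θ q.out y
    have h1 : θ q.out c = 1 := by
      rw [← map_one μ]
      exact congrArg μ (Subtype.ext (commutatorElement_eq_one_iff_mul_comm.2
        (mem_cent.1 c.2 _ q.out.2).symm))
    rw [hc', map_mul, h1, mul_one]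
  have h5 := hli.fintype_card_le_finrank
  rwa [Module.finrank_fintype_fun_eq_card, ← Nat.card_eq_fintype_card,
    ← Nat.card_eq_fintype_card] at h5

theorem dual [Finite Γ] {D S Y : Subgroup Γ} [IsCyclic D] (hS : S ≤ 𝐂(D)) (hY : Y ≤ 𝐂(D))
    (h : ⁅Y, S⁆ ≤ D) : 𝐂(Y).relIndex S = 𝐂(S).relIndex Y :=
  le_antisymm (dual_le hY h) (dual_le hS (commutator_comm Y S ▸ h))

/-- The elements fixing the coset of `x` modulo `D`. -/
def cm (D : Subgroup Γ) (x : Γ) : Subgroup Γ where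
  carrier := {s | s ∈ 𝐍(D) ∧ ⁅x, s⁆ ∈ D}
  one_mem' := ⟨one_mem _, by simp⟩
  mul_mem' := fun {a b} ha hb => ⟨mul_mem ha.1 hb.1, by
    have h := mul_mem ha.2 ((mem_normalizer_iff.1 ha.1 _).1 hb.2)
    convert h using 1
    simp only [commutatorElement_def]; group⟩
  inv_mem' := fun {a} ha => ⟨inv_mem ha.1, by
    have h := (mem_normalizer_iff.1 (inv_mem ha.1) _).1 (inv_mem ha.2)
    convert h using 1
    simp only [commutatorElement_def]; group⟩

theorem cm_comm {D : Subgroup Γ} {x s : Γ} (hx : x ∈ 𝐍(D)) (h : ⁅x, s⁆ ∈ D) : x ∈ cm D s :=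
  ⟨hx, commutatorElement_inv x s ▸ inv_mem h⟩

theorem comm_left {c y w : Γ} (h : Commute c y) (h' : Commute c w) : ⁅c * y, w⁆ = ⁅y, w⁆ := by
  have := ((h.mul_right h').mul_right h.inv_right).eq
  calc ⁅c * y, w⁆ = c * (y * w * y⁻¹) * c⁻¹ * w⁻¹ := by simp only [commutatorElement_def]; group
    _ = _ := by rw [this]; simp only [commutatorElement_def]; group

theorem conj_mem_cent1 {D : Subgroup Γ} {x s w : Γ} (hs : s ∈ cm D x) (hw : w ∈ 𝐂(D))
    (h : w ∈ 𝐂[x]) : s * w * s⁻¹ ∈ 𝐂[x] := by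
  have h1 : Commute (⁅x, s⁻¹⁆⁻¹ * x) w := Commute.mul_left
    (mem_cent.1 hw _ (inv_mem (inv_mem hs).2)) (mem_cent1.1 h)
  rw [mem_cent1]
  calc x * (s * w * s⁻¹) = s * ((⁅x, s⁻¹⁆⁻¹ * x) * w) * s⁻¹ := by
        simp only [commutatorElement_def]; group
    _ = _ := by rw [h1.eq]; simp only [commutatorElement_def]; group

/-- `Y / D` is a symplectic space over the field with `q` elements. -/
structure Sy (q : ℕ) (D Y : Subgroup Γ) : Prop where
  le : D ≤ Y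
  cen : Y ≤ 𝐂(D)
  comm : ⁅Y, Y⁆ ≤ D
  pow : ∀ y ∈ Y, y ^ q ∈ D
  z : ∀ y ∈ Y, y ∈ 𝐂(Y) → y ∈ D

variable [Finite Γ] {q : ℕ} {D Y : Subgroup Γ} [IsCyclic D]

theorem Sy.idx (hq : q.Prime) (h : Sy q D Y) {A : Subgroup Γ} (hA : A ≤ Y) {x : Γ} (hx : x ∈ Y)
    (hn : x ∉ 𝐂(A)) : 𝐂[x].relIndex A = q := by
  have hz := zpowers_le.2 hx
  rw [← cent_zpowers, dual (hA.trans h.cen) (hz.trans h.cen) ((commutator_mono hz hA).trans h.comm)]
  exact ((Nat.dvd_prime hq).1 (relIndex_zpowers_dvd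
    (cent_comm.1 (hA.trans h.cen) (h.pow x hx)))).resolve_left
    fun e => hn (relIndex_eq_one.1 e (mem_zpowers x))

theorem Sy.step (hq : q.Prime) (h : Sy q D Y) {x : Γ} (hx : x ∈ Y) (xD : x ∉ D) :
    ∃ Y1, Sy q D Y1 ∧ D.relIndex Y = q ^ 2 * D.relIndex Y1 ∧
      ∀ S Y0 : Subgroup Γ, S ≤ 𝐂(D) → S ≤ 𝐍(Y) → S ≤ 𝐍(Y0) → x ∈ Y0 →
        ∃ S1 ≤ S, S1 ≤ 𝐍(Y1) ∧ (centMod Y D).relIndex S ≤
          (D.relIndex Y0 - 1) * (q * D.relIndex Y1) * (centMod Y1 D).relIndex S1 := by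
  have hxY : x ∉ 𝐂(Y) := fun e => xD (h.z x hx e)
  obtain ⟨y, hy, hyx⟩ := SetLike.not_le_iff_exists.1 (mem_cent_iff_cent1.not.1 hxY)
  let A := 𝐂[x] ⊓ Y
  let Y1 := 𝐂[y] ⊓ A
  have xA : x ∈ A := ⟨mem_cent1.2 rfl, hx⟩
  have i1 : A.relIndex Y = q := (inf_relIndex_right _ _).trans (h.idx hq le_rfl hx hxY)
  have i2 : Y1.relIndex A = q := (inf_relIndex_right _ _).trans (h.idx hq inf_le_right hy
    fun e => hyx (cent_le_cent1 xA e))
  have DC := cent_comm.1 h.cen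
  have DY1 : D ≤ Y1 := le_inf (DC.trans (cent_le_cent1 hy))
    (le_inf (DC.trans (cent_le_cent1 hx)) h.le)
  have Y1Y : Y1 ≤ Y := inf_le_right.trans inf_le_right
  have gen : ∀ K, Y1 ≤ K → x ∈ K → y ∈ K → Y ≤ K := fun K h1 h2 h3 =>
    le_of_relIndex_prime hq inf_le_right i1 (le_of_relIndex_prime hq inf_le_right i2 h1 xA
      (fun e => hyx (mem_cent1_comm.1 e.1)) h2) hy (fun e => hyx e.1) h3
  have i3 : D.relIndex A = q * D.relIndex Y1 := by
    rw [← relIndex_mul_relIndex D Y1 A DY1 inf_le_right, i2, mul_comm]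
  have YN := h.cen.trans (cent_le_norm D)
  refine ⟨Y1, ⟨DY1, Y1Y.trans h.cen, (commutator_mono Y1Y Y1Y).trans h.comm,
    fun w hw => h.pow w (Y1Y hw), fun w hw e => h.z w (Y1Y hw) (mem_cent_iff_cent1.2 (gen _
      (mem_cent_iff_cent1.1 e) (mem_cent1_comm.1 hw.2.1) (mem_cent1_comm.1 hw.1)))⟩, ?_,
    fun S Y0 hS hSY hS0 x0 => ?_⟩
  · rw [← relIndex_mul_relIndex D A Y (DY1.trans inf_le_right) inf_le_right, i1, i3]; ring
  have SN := hS.trans (cent_le_norm D)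
  let S0 := cm D x ⊓ S
  let S1 := cm D y ⊓ S0
  have S1S : S1 ≤ S := inf_le_right.trans inf_le_right
  have j1 : (cm D x).relIndex S < D.relIndex Y0 := relIndex_lt_of_map
    (fun s : S => (QuotientGroup.mk ⟨s * x⁻¹ * (s : Γ)⁻¹,
      (mem_normalizer_iff.1 (hS0 s.2) _).1 (inv_mem x0)⟩ : Y0 ⧸ D.subgroupOf Y0))
    (fun a b e => ⟨SN (a⁻¹ * b).2, (mem_normalizer_iff.1 (SN a.2) _).2 (by
      convert mem_subgroupOf.1 (QuotientGroup.eq.1 e) using 1
      simp only [commutatorElement_def, Subgroup.coe_mul, Subgroup.coe_inv]; group)⟩)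
    (t := QuotientGroup.mk 1) fun a e => xD ((mem_normalizer_iff.1 (SN a.2) _).2 (by
      convert mem_subgroupOf.1 (QuotientGroup.eq.1 e) using 1
      simp only [Subgroup.coe_mul, Subgroup.coe_inv, Subgroup.coe_one]; group))
  have j2 : (cm D y).relIndex S0 ≤ D.relIndex A := relIndex_le_of_map
    (fun s : S0 => (QuotientGroup.mk ⟨⁅y, (s : Γ)⁆, mem_inf.2 ⟨by
      have c1 := mem_cent.1 (h.cen hy)
      have c2 := mem_cent.1 (hS s.2.2)
      have c3 := h.comm (commutator_mem_commutator hx hy)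
      have c4 : ⁅⁅x, y⁆ * y, ⁅x, (s : Γ)⁆ * s⁆ = ⁅y, (s : Γ)⁆ := by
        rw [comm_left (c1 _ c3) (Commute.mul_right (mem_cent.1 (h.cen (h.le s.2.1.2)) _ c3)
          (c2 _ c3)), ← commutatorElement_inv, comm_left (c2 _ s.2.1.2) (c1 _ s.2.1.2),
          commutatorElement_inv]
      rw [mem_cent1, ← mul_inv_eq_iff_eq_mul]
      refine Eq.trans ?_ c4
      simp only [commutatorElement_def]; group, by
      have := mul_mem hy ((mem_normalizer_iff.1 (hSY s.2.2) _).1 (inv_mem hy))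
      simpa only [commutatorElement_def, mul_assoc] using this⟩⟩ : A ⧸ D.subgroupOf A))
    fun a b e => ⟨SN (a⁻¹ * b).2.2, (mem_normalizer_iff.1 (SN a.2.2) _).2 (by
      convert mem_subgroupOf.1 (QuotientGroup.eq.1 e) using 1
      simp only [commutatorElement_def, Subgroup.coe_mul, Subgroup.coe_inv]; group)⟩
  refine ⟨S1, S1S, fun s hs => mem_norm_of_conj_le fun v hv => ?_, ?_⟩
  · obtain ⟨w, hw, rfl⟩ := mem_conj'.1 hv
    exact ⟨conj_mem_cent1 hs.1 (h.cen (Y1Y hw)) hw.1, conj_mem_cent1 hs.2.1 (h.cen (Y1Y hw)) hw.2.1,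
      (mem_normalizer_iff.1 (hSY (S1S hs)) _).1 (Y1Y hw)⟩
  · have k : centMod Y1 D ⊓ S1 ≤ centMod Y D := fun s hs => mem_centMod.2 ⟨SN (S1S hs.2),
      fun u hu => commutatorElement_inv s u ▸ inv_mem (gen (cm D s)
        (fun w hw => cm_comm (YN (Y1Y hw)) ((mem_centMod.1 hs.1).2 w hw))
        (cm_comm (YN hx) hs.2.2.1.2) (cm_comm (YN hy) hs.2.1.2) hu).2⟩
    refine (relIndex_le_of_le_left k FiniteIndex.index_ne_zero).trans ?_
    rw [← relIndex_mul_relIndex _ S1 S inf_le_right S1S,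
      ← relIndex_mul_relIndex S1 S0 S inf_le_right inf_le_right, inf_relIndex_right,
      inf_relIndex_right, inf_relIndex_right, mul_comm, mul_comm (relIndex _ S0), ← i3]
    exact Nat.mul_le_mul_right _ (Nat.mul_le_mul (Nat.le_sub_one_of_lt j1) j2)

/-- The order of the symplectic group. -/
def sp (q : ℕ) : ℕ → ℕ
  | 0 => 1
  | n + 1 => (q ^ (2 * (n + 1)) - 1) * (q * q ^ (2 * n)) * sp q n

theorem sp_le (q n : ℕ) : sp q n ≤ q ^ (2 * n * n + n) := by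
  induction n with
  | zero => simp [sp]
  | succ n ih =>
    calc _ ≤ q ^ (2 * (n + 1)) * (q * q ^ (2 * n)) * q ^ (2 * n * n + n) :=
          Nat.mul_le_mul (Nat.mul_le_mul_right _ (Nat.sub_le _ _)) ih
      _ = _ := by ring

theorem Sy.sy (hq : q.Prime) (h : Sy q D Y) : ∃ n, D.relIndex Y = q ^ (2 * n) ∧
    ∀ S : Subgroup Γ, S ≤ 𝐂(D) → S ≤ 𝐍(Y) → (centMod Y D).relIndex S ≤ sp q n := by
  induction hk : D.relIndex Y using Nat.strong_induction_on generalizing Y with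
  | _ k ih =>
  by_cases hY : Y ≤ D
  · refine ⟨0, hk ▸ relIndex_eq_one.2 hY, fun S h1 h2 => (relIndex_eq_one.2 ?_).le⟩
    exact le_centMod_iff.2 ⟨h1.trans (cent_le_norm D), (commutator_mono hY le_rfl).trans
      ((comm_eq_bot_iff.2 (cent_comm.1 h1)).le.trans bot_le)⟩
  obtain ⟨x, hx, xD⟩ := SetLike.not_le_iff_exists.1 hY
  obtain ⟨Y1, h1, h2, h3⟩ := h.step hq hx xD
  obtain ⟨n, h4, h5⟩ := ih _ (by
    rw [← hk, h2]
    exact lt_mul_of_one_lt_left (Nat.pos_of_ne_zero FiniteIndex.index_ne_zero)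
      (Nat.one_lt_pow two_ne_zero hq.one_lt)) h1 rfl
  have h6 : D.relIndex Y = q ^ (2 * (n + 1)) := by rw [h2, h4]; ring
  refine ⟨n + 1, hk ▸ h6, fun S a b => ?_⟩
  obtain ⟨S1, c, d, e⟩ := h3 S Y a b b hx
  rw [h6, h4] at e
  exact e.trans (Nat.mul_le_mul_left _ (h5 S1 (c.trans a) d))

end Cfsg.Agent.H7.Hk
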