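/-
Hk, chapter K2: the centralizer of a cyclic maximal abelian normal subgroup.
-/
import Cfsg.Agent.H7.Hk2
import Cfsg.Agent.H2.Hk2
import Cfsg.Agent.L.MinNormal

set_option autoImplicit false

namespace Cfsg.Agent.H7.Hk

open Subgroup Cfsg Cfsg.Agent Cfsg.Agent.FT Module
open Cfsg.Agent.H2.Hk (el)
open scoped commutatorElement

theorem el_le_gen {E : ℕ} (h : 1 ≤ E) : el E ≤ E ^ (2 * Nat.log 2 E + 3) := by
  rcases lt_or_ge E 10 with h1 | h1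
  · interval_cases E <;> decide +kernel
  · rw [el, if_neg (by omega), if_neg (by omega), if_neg (by omega), if_neg (by omega),
      if_neg (by omega), if_neg (by omega)]

theorem num {q n E r : ℕ} (hq : q.Prime) (hn : 1 ≤ n) (hE : 1 ≤ E) (h : r ≤ sp q n)
    (h2 : q = 2 → n = 2 → r ≤ 144) (h3 : q = 2 → n = 3 → r ≤ 290304) :
    r * q ^ (2 * n) * el E ≤ el (q ^ n * E) := by
  have a1 : 2 ^ n ≤ q ^ n := Nat.pow_le_pow_left hq.two_le n
  have a2 : q ≤ q ^ n := Nat.le_self_pow (by omega) q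
  have a3 : q ^ n ≤ q ^ n * E := Nat.le_mul_of_pos_right _ hE
  have a4 : 2 * E ≤ q ^ n * E := Nat.mul_le_mul_right _ (hq.two_le.trans a2)
  rcases lt_or_ge (q ^ n * E) 10 with h1 | h1
  · have b1 : n < 4 := by
      by_contra hc
      have := Nat.pow_le_pow_right (by norm_num : 0 < 2) (not_lt.1 hc)
      omega
    have b2 : q < 10 := by omega
    have b3 : E < 5 := by omega
    clear a1 a2 a3 a4
    interval_cases q <;> first | (exfalso; norm_num at hq; done) | skip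
    all_goals interval_cases n <;> interval_cases E <;> simp [sp, el] at * <;> omega
  · have b1 : n ≤ Nat.log 2 (q ^ n * E) := Nat.le_log_of_pow_le (by norm_num) (a1.trans a3)
    have b2 : Nat.log 2 E ≤ Nat.log 2 (q ^ n * E) := Nat.log_mono_right (by omega)
    rw [el.eq_1 (q ^ n * E), if_neg (by omega), if_neg (by omega), if_neg (by omega),
      if_neg (by omega), if_neg (by omega), if_neg (by omega), mul_pow]
    refine Nat.mul_le_mul ?_ ((el_le_gen hE).trans (Nat.pow_le_pow_right hE (by omega)))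
    calc _ ≤ q ^ (2 * n * n + n) * q ^ (2 * n) := Nat.mul_le_mul_right _ (h.trans (sp_le q n))
      _ = (q ^ n) ^ (2 * n + 3) := by ring
      _ ≤ _ := Nat.pow_le_pow_right (pow_pos hq.pos n) (by omega)

variable {Γ : Type*} [Group Γ]

/-- Irreducible solvable groups on `2 ^ 4`. -/
def Irr4 (Γ : Type*) [Group Γ] : Prop := ∀ {D Y S : Subgroup Γ}, D ≤ Y → S ≤ 𝐍(Y) → S ≤ 𝐍(D) →
  ⁅Y, Y⁆ ≤ D → (∀ y ∈ Y, y ^ 2 ∈ D) → D.relIndex Y = 16 →
  (∀ U : Subgroup Γ, D ≤ U → U ≤ Y → S ≤ 𝐍(U) → U = D ∨ U = Y) → (centMod Y D).relIndex S ≤ 144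

theorem lnn {A B : Subgroup Γ} [B.Normal] : A ≤ 𝐍(B) := le_normalizer_of_normal

variable [Finite Γ] {q : ℕ} {D Y : Subgroup Γ}

theorem Sy.cent_idx [IsCyclic D] (h : Sy q D Y) {A : Subgroup Γ} (hA : A ≤ Y) :
    𝐂(A).relIndex Y = D.relIndex A := by
  rw [dual h.cen (hA.trans h.cen) ((commutator_mono hA le_rfl).trans h.comm),
    ← inf_relIndex_right, ← inf_relIndex_right D]
  congr 1
  exact le_antisymm (fun a ha => ⟨h.z a (hA ha.2) ha.1, ha.2⟩)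
    (inf_le_inf_right _ (cent_comm.1 h.cen))

theorem Sy.sy4 [IsCyclic D] (h4 : Irr4 Γ) (h : Sy 2 D Y) (h16 : D.relIndex Y = 16)
    {S : Subgroup Γ} (hS : S ≤ 𝐂(D)) (hSY : S ≤ 𝐍(Y)) : (centMod Y D).relIndex S ≤ 144 := by
  by_cases irr : ∀ U : Subgroup Γ, D ≤ U → U ≤ Y → S ≤ 𝐍(U) → U = D ∨ U = Y
  · exact h4 h.le hSY (hS.trans (cent_le_norm D)) h.comm h.pow h16 irr
  push Not at irr
  obtain ⟨U, DU, UY, hU, UD, UY'⟩ := irr
  obtain ⟨Y0, a1, a2, a3, a4⟩ : ∃ Y0 ≤ Y, S ≤ 𝐍(Y0) ∧ ¬ Y0 ≤ D ∧ D.relIndex Y0 ≤ 4 := by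
    by_cases hc : D.relIndex U ≤ 4
    · exact ⟨U, UY, hU, fun e => UD (le_antisymm e DU), hc⟩
    have b1 := relIndex_mul_relIndex D U Y DU UY
    have b2 : U.relIndex Y ≠ 1 := fun e => UY' (le_antisymm UY (relIndex_eq_one.1 e))
    have b3 := relIndex_mul_relIndex D (𝐂(U) ⊓ Y) Y
      (le_inf (cent_comm.1 (UY.trans h.cen)) h.le) inf_le_right
    rw [inf_relIndex_right, h.cent_idx UY, h16] at b3
    rw [h16] at b1
    have b4 : D.relIndex U = 8 := by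
      have := Nat.le_of_dvd (by norm_num) (Dvd.intro _ b1)
      generalize D.relIndex U = a at *
      interval_cases a <;> omega
    rw [b4] at b3
    exact ⟨_, inf_le_right, H1.le_normalizer_inf (H1.le_normalizer_centralizer hU) hSY,
      fun e => by rw [relIndex_eq_one.2 e] at b3; omega, by omega⟩
  obtain ⟨x, hx, xD⟩ := SetLike.not_le_iff_exists.1 a3
  obtain ⟨Y1, h1, h2, h3⟩ := h.step Nat.prime_two (a1 hx) xD
  obtain ⟨S1, c, d, e⟩ := h3 S Y0 hS hSY a2 hx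
  obtain ⟨n, h5, h6⟩ := h1.sy Nat.prime_two
  have h7 : D.relIndex Y1 = 2 ^ 2 := by omega
  obtain rfl : n = 1 := by
    have := Nat.pow_right_injective le_rfl (h5.symm.trans h7)
    omega
  rw [h7] at e
  exact e.trans ((Nat.mul_le_mul (Nat.mul_le_mul_right _ (Nat.sub_le_sub_right a4 1))
    (h6 S1 (c.trans hS) d)).trans (by decide))

theorem Sy.sy6 [IsCyclic D] (h4 : Irr4 Γ) (h : Sy 2 D Y) (h64 : D.relIndex Y = 64)
    {S : Subgroup Γ} (hS : S ≤ 𝐂(D)) (hSY : S ≤ 𝐍(Y)) : (centMod Y D).relIndex S ≤ 290304 := by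
  obtain ⟨x, hx, xD⟩ := SetLike.not_le_iff_exists.1 fun e : Y ≤ D => by
    rw [relIndex_eq_one.2 e] at h64; omega
  obtain ⟨Y1, h1, h2, h3⟩ := h.step Nat.prime_two hx xD
  obtain ⟨S1, c, d, e⟩ := h3 S Y hS hSY hSY hx
  have h7 : D.relIndex Y1 = 16 := by omega
  have := h1.sy4 h4 h7 (c.trans hS) d
  rw [h7, h64] at e
  omega

theorem exists_sy [Group.IsSolvable Γ] [hD : D.Normal]
    (hm : ∀ A : Subgroup Γ, A.Normal → D ≤ A → A ≤ 𝐂(A) → A = D) {C : Subgroup Γ} [C.Normal]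
    (DC : D ≤ C) (hC : C ≤ 𝐂(D)) (hn : ¬ C ≤ D) :
    ∃ q Y, q.Prime ∧ Y.Normal ∧ Y ≤ C ∧ ¬ Y ≤ D ∧ Sy q D Y := by
  let π := QuotientGroup.mk' D
  have hk : π.ker = D := QuotientGroup.ker_mk' D
  haveI : (C.map π).Normal := Normal.map inferInstance π (QuotientGroup.mk'_surjective D)
  obtain ⟨M, q, hM, hMC, hq, hE⟩ := L.exists_isMinNormal_isElementaryAbelian_le (C.map π)
    fun e => hn (hk ▸ (Subgroup.map_eq_bot_iff _).1 e)
  haveI := hM.1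
  have h1 : M.comap π ≤ C := (comap_mono hMC).trans (by rw [comap_map_eq, hk, sup_of_le_left DC])
  have h2 : D ≤ M.comap π := hk.ge.trans (ker_le_comap π M)
  refine ⟨q, M.comap π, hq, inferInstance, h1, fun e => hM.2.1 ?_, h2, h1.trans hC,
    commutator_le.2 fun a ha b hb => ?_, fun y hy => ?_, fun y hy e => ?_⟩
  · rw [← map_comap_eq_self_of_surjective (QuotientGroup.mk'_surjective D) M,
      Subgroup.map_eq_bot_iff]
    exact e.trans hk.ge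
  · rw [← hk, MonoidHom.mem_ker, map_commutatorElement, commutatorElement_eq_one_iff_mul_comm]
    exact congrArg Subtype.val (hE.1.is_comm.comm (⟨_, ha⟩ : M) ⟨_, hb⟩)
  · rw [← hk, MonoidHom.mem_ker, map_pow]
    exact hE.2 _ hy
  · exact (hm 𝐙(M.comap π) inferInstance (le_inf h2 (cent_comm.1 (h1.trans hC)))
      (inf_le_right.trans (cent_anti inf_le_left))).le ⟨hy, e⟩

theorem recur [Group.IsSolvable Γ] [hD : D.Normal] [IsCyclic D] (h4 : Irr4 Γ)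
    (hm : ∀ A : Subgroup Γ, A.Normal → D ≤ A → A ≤ 𝐂(A) → A = D) (C : Subgroup Γ) :
    C.Normal → D ≤ C → C ≤ 𝐂(D) → ∃ (X : Subgroup Γ) (E : ℕ), X.Normal ∧ D ≤ X ∧ X ≤ C ∧
      ⁅X, X⁆ ≤ D ∧ (∀ x ∈ X, x ∈ 𝐂(X) → x ∈ D) ∧ D.relIndex X = E ^ 2 ∧ D.relIndex C ≤ el E ∧
      ∀ c ∈ C, (∀ x ∈ X, ⁅c, x⁆ ∈ D) → c ∈ X := by
  induction C using WellFoundedLT.induction with
  | _ C ih =>
  intro _ DC hC
  by_cases hn : C ≤ D
  · exact ⟨D, 1, hD, le_rfl, DC, commutator_le_left _ _, fun _ h _ => h, relIndex_self _,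
      (relIndex_eq_one.2 hn).le, fun c hc _ => hn hc⟩
  obtain ⟨q, Y, hq, hY, YC, YD, h⟩ := exists_sy hm DC hC hn
  let C2 := 𝐂(Y) ⊓ C
  have DC2 : D ≤ C2 := le_inf (cent_comm.1 h.cen) DC
  obtain ⟨X, E, hX, DX, XC, XX, XZ, iX, iC, hc⟩ := ih C2 (lt_of_le_of_ne inf_le_right fun e =>
    YD fun y hy => h.z y hy (e.ge (YC hy)).1) inferInstance DC2 (inf_le_right.trans hC)
  obtain ⟨n, i1, i2⟩ := h.sy hq
  have XY : X ≤ 𝐂(Y) := XC.trans inf_le_left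
  have i3 : ∀ K : Subgroup Γ, K.Normal → D ≤ K → K ≤ 𝐂(Y) →
      K.relIndex (Y ⊔ K) = q ^ (2 * n) := fun K _ a b => by
    rw [relIndex_sup_right, ← i1, ← inf_relIndex_right, ← inf_relIndex_right D]
    congr 1
    exact le_antisymm (fun y hy => ⟨h.z y hy.2 (b hy.1), hy.2⟩) (inf_le_inf_right _ a)
  let M := centMod Y D ⊓ C
  have YM : Y ⊔ C2 ≤ M := le_inf (le_centMod_iff.2 ⟨lnn, by
    rw [← le_centMod_iff.trans (and_iff_right lnn)]
    exact sup_le (le_centMod_iff.2 ⟨lnn, h.comm⟩) (le_centMod_iff.2 ⟨lnn,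
      (comm_eq_bot_iff.2 (cent_comm.1 inf_le_left)).le.trans bot_le⟩)⟩) (sup_le YC inf_le_right)
  have i4 : C2.relIndex M ≤ q ^ (2 * n) := by
    have a := dual_le (S := M) h.cen (le_centMod_iff.1 inf_le_left).2
    rw [← i1]
    refine le_trans (relIndex_le_of_le_left ?_ FiniteIndex.index_ne_zero) ((inf_relIndex_right
      _ _).le.trans (a.trans (relIndex_le_of_le_left ?_ FiniteIndex.index_ne_zero)))
    · exact inf_le_inf_left _ inf_le_right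
    · exact cent_comm.1 (inf_le_right.trans hC)
  have MY : M ≤ Y ⊔ C2 := by
    have a := relIndex_mul_relIndex C2 _ M le_sup_right YM
    rw [i3 C2 inferInstance DC2 inf_le_left] at a
    refine relIndex_eq_one.1 (le_antisymm (Nat.le_of_mul_le_mul_left (a.le.trans
      (i4.trans (mul_one _).ge)) (pow_pos hq.pos _)) (Nat.pos_of_ne_zero FiniteIndex.index_ne_zero))
  have hn0 : 1 ≤ n := Nat.pos_of_ne_zero fun e => YD (relIndex_eq_one.1 (by rw [i1, e]; rfl))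
  have hE : 1 ≤ E := Nat.pos_of_ne_zero fun e =>
    FiniteIndex.index_ne_zero (iX.trans (by rw [e]; rfl))
  have cYX : ⁅Y, X⁆ ≤ D := (comm_eq_bot_iff.2 (cent_comm.1 XY)).le.trans bot_le
  have cs : ∀ {A B K : Subgroup Γ}, ⁅K, A⁆ ≤ D → ⁅K, B⁆ ≤ D → ⁅K, A ⊔ B⁆ ≤ D := fun a b =>
    (le_centMod_iff.1 (sup_le (le_centMod_iff.2 ⟨lnn, a⟩) (le_centMod_iff.2 ⟨lnn, b⟩))).2
  refine ⟨Y ⊔ X, q ^ n * E, inferInstance, DX.trans le_sup_right,
    sup_le YC (XC.trans inf_le_right), cs ?_ ?_, fun x hx e => ?_, ?_, ?_, fun c c1 c2 => ?_⟩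
  · rw [commutator_comm]
    exact cs h.comm cYX
  · rw [commutator_comm]
    exact cs (commutator_comm Y X ▸ cYX) XX
  · obtain ⟨a, ha, b, hb, rfl⟩ := (mem_sup_of_norm lnn).1 hx
    rw [cent_sup] at e
    exact mul_mem (h.z a ha ((mul_mem_cancel_right (XY hb)).1 e.1))
      (XZ b hb ((mul_mem_cancel_left (cent_comm.1 XY ha)).1 e.2))
  · rw [← relIndex_mul_relIndex D X _ DX le_sup_right, iX, i3 X hX DX XY]; ring
  · refine le_trans ?_ (num hq hn0 hE (i2 C hC lnn) (fun a b => ?_) fun a b => ?_)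
    · rw [← relIndex_mul_relIndex D C2 C DC2 inf_le_right, ← relIndex_mul_relIndex C2 M C
        (le_sup_right.trans YM) inf_le_right, inf_relIndex_right, mul_comm, mul_comm (relIndex C2 M)]
      exact Nat.mul_le_mul (Nat.mul_le_mul_left _ i4) iC
    · subst a b; exact h.sy4 h4 i1 hC lnn
    · subst a b; exact h.sy6 h4 i1 hC lnn
  · obtain ⟨a, ha, b, hb, rfl⟩ := (mem_sup_of_norm lnn).1 (MY ⟨mem_centMod.2 ⟨lnn (mem_top c),
      fun u hu => (cm_comm (lnn (mem_top c)) (c2 u (mem_sup_left hu))).2⟩, c1⟩)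
    refine mul_mem (mem_sup_left ha) (mem_sup_right (hc b hb fun x hx => ?_))
    have h1 := (mul_mem_cancel_left (cm_comm (lnn ha) (cYX (commutator_mem_commutator ha hx)))).1
      (cm_comm (lnn (mem_top _)) (c2 x (mem_sup_right hx)))
    exact (cm_comm (lnn hx) h1.2).2

theorem pr_of [Group.IsSolvable Γ] (h4 : Irr4 Γ)
    (h6 : ∀ {D Y S : Subgroup Γ}, D ≤ Y → S ≤ 𝐍(Y) → S ≤ 𝐍(D) → Y ≤ 𝐍(D) → D.relIndex Y = 4 →
      (centMod Y D).relIndex S ∣ 6) {p m e : ℕ} (h : Wt p D m e) :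
    ∃ E, 1 ≤ E ∧ E ≤ e ∧ D.relIndex 𝐂(D) ≤ el E ∧ (E = 2 → ∃ X : Subgroup Γ, D ≤ X ∧ X ≤ 𝐂(D) ∧
      𝐂(D) ≤ 𝐍(X) ∧ D.relIndex X = 4 ∧ (∀ c ∈ 𝐂(D), (∀ x ∈ X, ⁅c, x⁆ ∈ D) → c ∈ X) ∧
      X.relIndex 𝐂(D) ∣ 6) := by
  haveI := h.normal
  haveI := h.cyc
  obtain ⟨X, E, hX, DX, XC, XX, XZ, iX, iC, hc⟩ := recur h4 h.max 𝐂(D) inferInstance h.comm le_rfl
  refine ⟨E, Nat.pos_of_ne_zero fun e => FiniteIndex.index_ne_zero (iX.trans (by rw [e]; rfl)),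
    (Nat.pow_le_pow_iff_left two_ne_zero).1 (iX ▸ h.sq X XC XX XZ), iC, ?_⟩
  rintro rfl
  refine ⟨X, DX, XC, lnn, iX, hc, dvd_trans ?_ (h6 (S := 𝐂(D)) DX lnn lnn lnn iX)⟩
  rw [← inf_relIndex_right (centMod X D)]
  exact relIndex_dvd_of_le_left _ fun c c1 => hc c c1.2 fun x hx =>
    (cm_comm (lnn hx) ((mem_centMod.1 c1.1).2 x hx)).2

end Cfsg.Agent.H7.Hk
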