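import Cfsg.Agent.H7.ClassAux
import Cfsg.Agent.H7.Comm

/-! Ito's counting lemma on class sizes, and Mann's lemma on small classes. -/

set_option autoImplicit false

namespace Cfsg.Agent.H7

open Subgroup
open scoped commutatorElement

variable {G : Type*} [Group G]

/-- The elements whose class size is prime to `p` are the conjugates of the elements of `C(P)`. -/
theorem exists_conj_mem_centralizer_sylow [Finite G] {p : ℕ} [Fact p.Prime] (P : Sylow p G)
    {x : G} (h : ¬ p ∣ (centralizer ({x} : Set G)).index) :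
    ∃ g : G, g⁻¹ * x * g ∈ centralizer ((P : Subgroup G) : Set G) := by
  obtain ⟨Q, hQ⟩ := H9.not_dvd_index_iff_exists_sylow_le.1 h
  obtain ⟨g, rfl⟩ := MulAction.exists_smul_eq G P Q
  refine ⟨g, fun y hy => ?_⟩
  have h1 : g * y * g⁻¹ ∈ ((g • P : Sylow p G) : Subgroup G) := by
    rw [Sylow.coe_subgroup_smul]
    exact smul_mem_pointwise_smul _ _ _ hy
  have h2 := mem_centralizer_singleton_iff.1 (hQ h1)
  calc y * (g⁻¹ * x * g) = g⁻¹ * (g * y * g⁻¹ * x) * g := by group
    _ = _ := by rw [h2]; group

/-- The union of the conjugates of `C`, normalized by `N`, has at most `|G : N| |C|` elements. -/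
theorem ncard_conj_mem_le [Finite G] {C N : Subgroup G} (h : N ≤ normalizer (C : Set G)) :
    {x : G | ∃ g : G, g⁻¹ * x * g ∈ C}.ncard ≤ N.index * Nat.card C := by
  let f : (G ⧸ N) × C → G := fun z => z.1.out * z.2 * z.1.out⁻¹
  have : {x : G | ∃ g : G, g⁻¹ * x * g ∈ C} ⊆ Set.range f := by
    rintro x ⟨g, hg⟩
    obtain ⟨n, hn⟩ := QuotientGroup.mk_out_eq_mul N g
    refine ⟨⟨(g : G ⧸ N), ⟨(n : G)⁻¹ * (g⁻¹ * x * g) * (n : G)⁻¹⁻¹,
      (mem_normalizer_iff.1 (h (N.inv_mem n.2)) _).1 hg⟩⟩, ?_⟩
    simp only [f, hn]; group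
  refine (Set.ncard_le_ncard this (Set.toFinite _)).trans ?_
  rw [← Set.image_univ]
  refine (Set.ncard_image_le (Set.toFinite _)).trans ?_
  rw [Set.ncard_univ, Nat.card_prod]; rfl

theorem ncard_not_dvd_class_mul_le [Finite G] {p : ℕ} [Fact p.Prime] (P : Sylow p G) :
    {x : G | ¬ p ∣ (centralizer ({x} : Set G)).index}.ncard *
      (centralizer ((P : Subgroup G) : Set G)).relIndex (normalizer ((P : Subgroup G) : Set G)) ≤
        Nat.card G := by
  have h1 := ncard_conj_mem_le (H1.normalizer_le_normalizer_centralizer (P : Subgroup G))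
  have h2 : {x : G | ¬ p ∣ (centralizer ({x} : Set G)).index}.ncard ≤ _ :=
    (Set.ncard_le_ncard (fun x hx => exists_conj_mem_centralizer_sylow P hx)
      (Set.toFinite _)).trans h1
  refine (Nat.mul_le_mul_right _ h2).trans (le_of_eq ?_)
  rw [mul_assoc, H1.card_mul_relIndex (centralizer_le_normalizer _), mul_comm, card_mul_index]

/-- **Ito**: if no class size is divisible by both `p` and `q`, then `N(P) = C(P)` or
`N(Q) = C(Q)`. -/
theorem normalizer_le_centralizer_or [Finite G] {p q : ℕ} [Fact p.Prime] [Fact q.Prime]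
    (h : ∀ x : G, ¬ p ∣ (centralizer ({x} : Set G)).index ∨
      ¬ q ∣ (centralizer ({x} : Set G)).index) (P : Sylow p G) (Q : Sylow q G) :
    normalizer ((P : Subgroup G) : Set G) ≤ centralizer ((P : Subgroup G) : Set G) ∨
      normalizer ((Q : Subgroup G) : Set G) ≤ centralizer ((Q : Subgroup G) : Set G) := by
  by_contra hc
  push Not at hc
  have h1 := ncard_not_dvd_class_mul_le P
  have h2 := ncard_not_dvd_class_mul_le Q
  have two : ∀ C N : Subgroup G, ¬ N ≤ C → 2 ≤ C.relIndex N := by
    intro C N hn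
    have a1 : C.relIndex N ≠ 1 := fun e => hn (relIndex_eq_one.1 e)
    have a0 : C.relIndex N ≠ 0 := FiniteIndex.index_ne_zero
    omega
  have h3 := two _ _ hc.1
  have h4 := two _ _ hc.2
  set U := {x : G | ¬ p ∣ (centralizer ({x} : Set G)).index}
  set V := {x : G | ¬ q ∣ (centralizer ({x} : Set G)).index}
  have h5 : U ∪ V = Set.univ := Set.eq_univ_of_forall h
  have h6 := Set.ncard_union_add_ncard_inter U V
  have h7 : 0 < (U ∩ V).ncard := by
    rw [Set.ncard_pos]
    have : (centralizer ({1} : Set G)).index = 1 := H9.index_centralizer_eq_one_iff.2 (one_mem _)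
    exact ⟨1, by simp [U, this, (Fact.out : p.Prime).ne_one],
      by simp [V, this, (Fact.out : q.Prime).ne_one]⟩
  rw [h5, Set.ncard_univ] at h6
  nlinarith

/-- Mann-Isaacs lemma: for `K` abelian normal, `x` non-central and `t ∈ K`, the commutator
`⁅t, x⁆` has a larger centralizer than `x`. -/
theorem card_centralizer_lt_of_commutator [Finite G] (K : Subgroup G) [hK : K.Normal]
    (hab : IsMulCommutative K) {x t : G} (hx : x ∉ center G) (ht : t ∈ K) :
    Nat.card (centralizer ({x} : Set G)) < Nat.card (centralizer ({⁅t, x⁆} : Set G)) := by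
  have hcomm : ∀ a ∈ K, ∀ b ∈ K, a * b = b * a := fun a ha b hb =>
    congrArg Subtype.val (mul_comm' (⟨a, ha⟩ : K) ⟨b, hb⟩)
  have hmem : ∀ k ∈ K, ⁅k, x⁆ ∈ K := fun k hk => by
    rw [commutatorElement_def, mul_assoc, mul_assoc, ← mul_assoc x]
    exact K.mul_mem hk (hK.conj_mem _ (K.inv_mem hk) x)
  set C := centralizer ({x} : Set G) with hC
  by_cases hy : ⁅t, x⁆ = 1
  · rw [hy]
    refine H1.card_lt_of_lt (lt_of_le_of_ne (fun g _ => by
      rw [mem_centralizer_singleton_iff]; simp) fun e => hx ?_)
    rw [mem_center_iff]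
    intro g
    exact mem_centralizer_singleton_iff.1 (show g ∈ C by rw [e, mem_centralizer_singleton_iff]; simp)
  let θ : K →* K :=
    { toFun := fun k => ⟨⁅(k : G), x⁆, hmem k k.2⟩
      map_one' := by ext; simp
      map_mul' := fun a b => by
        ext
        simp only [coe_mul]
        rw [commutatorElement_mul_left_eq_conj_mul, hcomm _ a.2 _ (hmem b b.2),
          mul_inv_cancel_right, hcomm _ (hmem b b.2) _ (hmem a a.2)] }
  have hker : θ.ker = C.subgroupOf K := by
    ext k
    rw [MonoidHom.mem_ker, mem_subgroupOf, mem_centralizer_singleton_iff,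
      ← commutatorElement_eq_one_iff_mul_comm, Subtype.ext_iff]
    rfl
  set H := C ⊔ K with hH
  set y := ⁅t, x⁆ with hy'
  -- `|H| = |C| * |range θ|`
  have h1 : Nat.card H = Nat.card C * Nat.card θ.range := by
    have e1 := H1.card_sup_mul_card_inf (A := C) (N := K) (by rw [normalizer_eq_top]; exact le_top)
    have e2 := H1.card_inf_mul_relIndex C K
    have e3 : C.relIndex K = Nat.card θ.range := by rw [relIndex, ← hker, index_ker]
    rw [← e2, e3] at e1
    have : 0 < Nat.card (C ⊓ K : Subgroup G) := Nat.card_pos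
    apply Nat.eq_of_mul_eq_mul_right this
    rw [e1]; ring
  -- the `H`-class of `y` lies in `range θ \ {1}`
  have h2 : (centralizer ({y} : Set G)).relIndex H < Nat.card θ.range := by
    have hyH : y ∈ H := mem_sup_right (hmem t ht)
    have e1 : (centralizer ({y} : Set G)).relIndex H =
        (centralizer ({(⟨y, hyH⟩ : H)} : Set H)).index := by
      rw [H9.centralizer_coe_subgroupOf]; rfl
    rw [e1, H6.index_centralizer_eq_ncard]
    have e2 : Nat.card θ.range = ((θ.range.map K.subtype : Subgroup G) : Set G).ncard := by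
      rw [← card_map_of_injective K.subtype_injective]; rfl
    rw [e2, ← Set.ncard_image_of_injective _ H.subtype_injective]
    apply Set.ncard_lt_ncard _ (Set.toFinite _)
    constructor
    · rintro _ ⟨z, hz, rfl⟩
      obtain ⟨g, rfl⟩ := isConj_iff.1 hz
      obtain ⟨c, hc, k, hk, hg⟩ := (H1.mem_sup_iff_of_le_normalizer (A := C) (N := K)
        (by rw [normalizer_eq_top]; exact le_top)).1 g.2
      refine ⟨θ ⟨c * t * c⁻¹, hK.conj_mem t ht c⟩, ⟨_, rfl⟩, ?_⟩
      change ⁅c * t * c⁻¹, x⁆ = (g : G) * y * (g : G)⁻¹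
      have hcx : c * x * c⁻¹ = x := by rw [mem_centralizer_singleton_iff.1 hc]; simp
      calc ⁅c * t * c⁻¹, x⁆ = c * y * c⁻¹ := by rw [hy', conjugate_commutatorElement, hcx]
        _ = c * (k * y * k⁻¹) * c⁻¹ := by rw [hcomm k hk y (hmem t ht)]; simp
        _ = _ := by rw [← hg]; group
    · intro hsub
      obtain ⟨z, hz, hz1⟩ := hsub (one_mem (θ.range.map K.subtype))
      have : z = 1 := Subtype.ext hz1
      rw [this] at hz
      exact hy (congrArg Subtype.val (isConj_one_left.1 hz))
  have h3 := H1.card_inf_mul_relIndex (centralizer ({y} : Set G)) H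
  have h4 : Nat.card (centralizer ({y} : Set G) ⊓ H : Subgroup G) ≤
      Nat.card (centralizer ({y} : Set G)) := card_le_of_le inf_le_left
  by_contra hle
  push Not at hle
  have h5 : 0 < Nat.card C := Nat.card_pos
  nlinarith

/-- Mann's theorem (Isaacs' form): with a self-centralizing abelian normal subgroup, the subgroup
generated by elements in classes of the two smallest sizes has class at most three. -/
theorem lowerCentralSeries_three_eq_bot [Finite G] (A : Subgroup G) [A.Normal]
    (hA : IsMulCommutative A) (hCA : centralizer (A : Set G) = A) (S : Set G)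
    (hS : ∀ x ∈ S, ∀ y : G, (centralizer ({y} : Set G)).index <
      (centralizer ({x} : Set G)).index → y ∈ center G) :
    (closure S).lowerCentralSeries 3 = ⊥ := by
  have h1 : ⁅closure S, A⁆ ≤ center G := by
    apply commutator_closure_left_le
    intro s hs t ht
    rw [← commutatorElement_inv, inv_mem_iff]
    by_cases hc : s ∈ center G
    · rw [commutatorElement_eq_one_iff_mul_comm.2 (mem_center_iff.1 hc t)]; exact one_mem _
    · apply hS s hs
      have h2 := card_centralizer_lt_of_commutator A hA hc ht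
      have e1 := (centralizer ({s} : Set G)).card_mul_index
      have e2 := (centralizer ({⁅t, s⁆} : Set G)).card_mul_index
      have e3 : 0 < (centralizer ({⁅t, s⁆} : Set G)).index :=
        Nat.pos_of_ne_zero FiniteIndex.index_ne_zero
      by_contra hle
      push Not at hle
      nlinarith
  have h2 : ⁅⁅closure S, A⁆, closure S⁆ = ⊥ := by
    rw [commutator_eq_bot_iff_le_centralizer]
    exact h1.trans (center_le_centralizer _)
  have h3 : ⁅closure S, closure S⁆ ≤ A := by
    rw [← hCA, ← commutator_eq_bot_iff_le_centralizer]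
    exact commutator_commutator_eq_bot_of_rotate h2 (by rwa [commutator_comm A])
  have h4 : ⁅⁅closure S, closure S⁆, closure S⁆ ≤ center G :=
    (commutator_mono h3 le_rfl).trans (by rwa [commutator_comm])
  change ⁅⁅⁅closure S, closure S⁆, closure S⁆, closure S⁆ = ⊥
  rw [commutator_eq_bot_iff_le_centralizer]
  exact h4.trans (center_le_centralizer _)

end Cfsg.Agent.H7
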