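import Cfsg.Agent.H7.Comm

/-! The Lie ring associated with the lower central series of a group. -/

set_option autoImplicit false

namespace Cfsg.Agent.H7.AssocLie

open Subgroup
open scoped commutatorElement DirectSum

/-- lower central series, `γ G 0 = ⊤` -/
abbrev γ (G : Type*) [Group G] (i : ℕ) : Subgroup G := (⊤ : Subgroup G).lowerCentralSeries i

variable {G : Type*} [Group G]

theorem γ_anti {i j : ℕ} (h : i ≤ j) : γ G j ≤ γ G i := Subgroup.lowerCentralSeries_antitone ⊤ h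

theorem comm_mem {i j : ℕ} {u v : G} (hu : u ∈ γ G i) (hv : v ∈ γ G j) :
    ⁅u, v⁆ ∈ γ G (i + j + 1) := commutator_top_lcs_le i j (commutator_mem_commutator hu hv)

theorem comm_mem' {i j n : ℕ} {u v : G} (hu : u ∈ γ G i) (hv : v ∈ γ G j) (h : n ≤ i + j + 1) :
    ⁅u, v⁆ ∈ γ G n := γ_anti h (comm_mem hu hv)

theorem mem_zero (x : G) : x ∈ γ G 0 := mem_top x

/-- the factor `γ i / γ (i+1)` -/
def GrQ (G : Type*) [Group G] (i : ℕ) := γ G i ⧸ (γ G (i + 1)).subgroupOf (γ G i)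

instance instCommGroupGrQ (i : ℕ) : CommGroup (GrQ G i) :=
  { (inferInstance : Group (γ G i ⧸ (γ G (i + 1)).subgroupOf (γ G i))) with
    mul_comm := fun a b => by
      obtain ⟨a, rfl⟩ := QuotientGroup.mk_surjective a
      obtain ⟨b, rfl⟩ := QuotientGroup.mk_surjective b
      have h : ⁅(a : G), (b : G)⁆ ∈ γ G (i + 1) := comm_mem' a.2 b.2 (by omega)
      exact (commutatorElement_mem_iff_commute ((γ G (i + 1)).subgroupOf (γ G i)) a b).1 h }

/-- the associated Lie ring -/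
def AL (G : Type*) [Group G] := ⨁ i : ℕ, Additive (GrQ G i)

instance instAddCommGroupAL : AddCommGroup (AL G) :=
  inferInstanceAs (AddCommGroup (⨁ i : ℕ, Additive (GrQ G i)))

open Classical in
/-- the class of `x` in degree `i` -/
noncomputable def cls (i : ℕ) (x : G) : AL G :=
  if h : x ∈ γ G i then
    DirectSum.of (fun i => Additive (GrQ G i)) i (Additive.ofMul (QuotientGroup.mk ⟨x, h⟩))
  else 0

theorem cls_of_mem {i : ℕ} {x : G} (h : x ∈ γ G i) : cls i x =
    DirectSum.of (fun i => Additive (GrQ G i)) i (Additive.ofMul (QuotientGroup.mk ⟨x, h⟩)) :=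
  dif_pos h

theorem cls_mul {i : ℕ} {x y : G} (hx : x ∈ γ G i) (hy : y ∈ γ G i) :
    cls i (x * y) = cls i x + cls i y := by
  rw [cls_of_mem hx, cls_of_mem hy, cls_of_mem (mul_mem hx hy)]
  exact map_add (DirectSum.of (fun i => Additive (GrQ G i)) i)
    (Additive.ofMul (QuotientGroup.mk ⟨x, hx⟩)) (Additive.ofMul (QuotientGroup.mk ⟨y, hy⟩))

theorem cls_eq_zero_iff {i : ℕ} {x : G} (hx : x ∈ γ G i) : cls i x = 0 ↔ x ∈ γ G (i + 1) := by
  rw [cls_of_mem hx]
  refine (map_eq_zero_iff _ (DirectSum.of_injective (β := fun i => Additive (GrQ G i)) i)).trans ?_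
  exact QuotientGroup.eq_one_iff (⟨x, hx⟩ : γ G i)

theorem cls_eq_zero {i : ℕ} {x : G} (hx : x ∈ γ G (i + 1)) : cls i x = 0 :=
  (cls_eq_zero_iff (γ_anti (Nat.le_succ i) hx)).2 hx

theorem cls_one (i : ℕ) : cls i (1 : G) = 0 := cls_eq_zero (one_mem _)

theorem cls_inv {i : ℕ} {x : G} (hx : x ∈ γ G i) : cls i x⁻¹ = -cls i x := by
  rw [eq_neg_iff_add_eq_zero, ← cls_mul (inv_mem hx) hx, inv_mul_cancel, cls_one]

theorem cls_pow {i : ℕ} {x : G} (hx : x ∈ γ G i) (k : ℕ) : cls i (x ^ k) = k • cls i x := by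
  induction k with
  | zero => rw [pow_zero, cls_one, zero_smul]
  | succ k ih => rw [pow_succ, cls_mul (pow_mem hx k) hx, ih, succ_nsmul]

theorem cls_congr {i : ℕ} {x y : G} (hx : x ∈ γ G i)
    (h : (x : G ⧸ γ G (i + 1)) = (y : G ⧸ γ G (i + 1))) : cls i x = cls i y := by
  have h1 := QuotientGroup.eq.1 h
  rw [show y = x * (x⁻¹ * y) by group, cls_mul hx (γ_anti (Nat.le_succ i) h1), cls_eq_zero h1,
    add_zero]

theorem cls_conj {i : ℕ} {x : G} (hx : x ∈ γ G i) (g : G) : cls i (g * x * g⁻¹) = cls i x := by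
  have : g * x * g⁻¹ = ⁅g, x⁆ * x := by rw [commutatorElement_def]; group
  have h1 : ⁅g, x⁆ ∈ γ G (i + 1) := comm_mem' (mem_zero g) hx (by omega)
  rw [this, cls_mul (γ_anti (Nat.le_succ i) h1) hx, cls_eq_zero h1, zero_add]

theorem induction_on {P : AL G → Prop} (a : AL G) (h0 : P 0)
    (h1 : ∀ i x, x ∈ γ G i → P (cls i x)) (h2 : ∀ a b, P a → P b → P (a + b)) : P a := by
  refine DirectSum.induction_on (β := fun i => Additive (GrQ G i)) a h0 (fun i x => ?_) h2
  obtain ⟨⟨x, hx⟩, rfl⟩ : ∃ g : γ G i, Additive.ofMul (QuotientGroup.mk g : GrQ G i) = x :=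
    QuotientGroup.mk_surjective (s := (γ G (i + 1)).subgroupOf (γ G i)) x.toMul
  have := h1 i x hx
  rwa [cls_of_mem hx] at this

theorem hom_ext {M : Type*} [AddCommGroup M] {f g : AL G →+ M}
    (h : ∀ i x, x ∈ γ G i → f (cls i x) = g (cls i x)) : f = g := by
  ext a
  induction a using induction_on with
  | h0 => simp
  | h1 i x hx => exact h i x hx
  | h2 a b ha hb => simp [ha, hb]

theorem exists_lift {M : Type*} [AddCommGroup M] (f : ∀ i, γ G i → M)
    (hf : ∀ i x y, f i (x * y) = f i x + f i y)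
    (hf0 : ∀ i (x : γ G i), (x : G) ∈ γ G (i + 1) → f i x = 0) :
    ∃ F : AL G →+ M, ∀ i x (hx : x ∈ γ G i), F (cls i x) = f i ⟨x, hx⟩ := by
  let g : ∀ i, γ G i →* Multiplicative M := fun i =>
    MonoidHom.mk' (fun x => Multiplicative.ofAdd (f i x)) (fun x y => by rw [hf]; rfl)
  let g' : ∀ i, GrQ G i →* Multiplicative M := fun i =>
    QuotientGroup.lift _ (g i) (fun x hx => hf0 i x hx)
  refine ⟨DirectSum.toAddMonoid fun i => MonoidHom.toAdditiveLeft (g' i), fun i x hx => ?_⟩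
  rw [cls_of_mem hx]
  exact DirectSum.toAddMonoid_of _ _ _

theorem exists_ad (i : ℕ) (x : γ G i) : ∃ F : AL G →+ AL G,
    ∀ j y, y ∈ γ G j → F (cls j y) = cls (i + j + 1) ⁅(x : G), y⁆ := by
  refine exists_lift (fun j (y : γ G j) => cls (i + j + 1) ⁅(x : G), (y : G)⁆) ?_ ?_
  · intro j y z
    have e : ⁅(x : G), ((y * z : γ G j) : G)⁆ = ⁅(x : G), (y : G)⁆ * (y * ⁅(x : G), (z : G)⁆ * (y : G)⁻¹) := by
      simp only [commutatorElement_def, Subgroup.coe_mul]; group
    rw [e, cls_mul (comm_mem x.2 y.2) (Normal.conj_mem inferInstance _ (comm_mem x.2 z.2) _),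
      cls_conj (comm_mem x.2 z.2)]
  · intro j y hy
    exact cls_eq_zero (comm_mem' x.2 hy (by omega))

theorem exists_brk : ∃ F : AL G →+ AL G →+ AL G,
    ∀ i x, x ∈ γ G i → ∀ j y, y ∈ γ G j → F (cls i x) (cls j y) = cls (i + j + 1) ⁅x, y⁆ := by
  choose ad had using exists_ad (G := G)
  obtain ⟨F, hF⟩ := exists_lift ad (by
    intro i x z
    apply hom_ext
    intro j y hy
    have e : ⁅((x * z : γ G i) : G), y⁆ = (x * ⁅(z : G), y⁆ * (x : G)⁻¹) * ⁅(x : G), y⁆ := by
      simp only [commutatorElement_def, Subgroup.coe_mul]; group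
    rw [AddMonoidHom.add_apply, had _ _ _ _ hy, had _ _ _ _ hy, had _ _ _ _ hy, e,
      cls_mul (Normal.conj_mem inferInstance _ (comm_mem z.2 hy) _) (comm_mem x.2 hy),
      cls_conj (comm_mem z.2 hy), add_comm]) (by
    intro i x hx
    apply hom_ext
    intro j y hy
    rw [had _ _ _ _ hy]
    exact cls_eq_zero (comm_mem' hx hy (by omega)))
  exact ⟨F, fun i x hx j y hy => by rw [hF i x hx, had _ _ _ _ hy]⟩

/-- the bracket -/
noncomputable def brk : AL G →+ AL G →+ AL G := exists_brk.choose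

theorem brk_cls {i j : ℕ} {x y : G} (hx : x ∈ γ G i) (hy : y ∈ γ G j) :
    brk (cls i x) (cls j y) = cls (i + j + 1) ⁅x, y⁆ := exists_brk.choose_spec i x hx j y hy

theorem brk_skew (a b : AL G) : brk a b + brk b a = 0 := by
  have : (brk + (brk (G := G)).flip : AL G →+ AL G →+ AL G) = 0 := by
    apply hom_ext
    intro i x hx
    apply hom_ext
    intro j y hy
    rw [AddMonoidHom.add_apply, AddMonoidHom.add_apply, AddMonoidHom.flip_apply, brk_cls hx hy,
      brk_cls hy hx, ← commutatorElement_inv x y, add_comm j i, cls_inv (comm_mem hx hy)]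
    simp
  exact DFunLike.congr_fun (DFunLike.congr_fun this a) b

theorem jacobi_aux {Q : Type*} [Group Q] (x y z : Q) (h1 : Commute ⁅x, y⁆ ⁅x, z⁆)
    (h2 : Commute ⁅x, y⁆ ⁅y, z⁆) (h3 : Commute ⁅x, z⁆ ⁅y, z⁆)
    (h4 : ∀ g, Commute g ⁅y, ⁅x, z⁆⁆) (h5 : ∀ g, Commute g ⁅⁅x, y⁆, z⁆) :
    ⁅x, ⁅y, z⁆⁆ = ⁅⁅x, y⁆, z⁆ * ⁅y, ⁅x, z⁆⁆ := by
  set a := ⁅x, y⁆ with ha
  set b := ⁅x, z⁆ with hb
  set c := ⁅y, z⁆ with hc
  have e : ⁅x, c⁆ = a * (⁅y, b⁆ * (b * c * b⁻¹)) * a⁻¹ * (⁅a, b⁆ * (b * ⁅a, z⁆ * b⁻¹)) * c⁻¹ := by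
    simp only [ha, hb, hc, commutatorElement_def]; group
  rw [e, commutatorElement_eq_one_iff_commute.2 h1, h3.eq, (h5 b).eq, ← mul_assoc a, (h4 a).eq]
  simp only [mul_inv_cancel_right, one_mul]
  rw [mul_assoc _ a c, h2.eq, ← mul_assoc, mul_inv_cancel_right, mul_assoc _ c, (h5 c).eq,
    ← mul_assoc, mul_inv_cancel_right, (h5 _).eq]

theorem jacobi_cls {i j k : ℕ} {x y z : G} (hx : x ∈ γ G i) (hy : y ∈ γ G j) (hz : z ∈ γ G k) :
    cls (i + j + k + 2) ⁅x, ⁅y, z⁆⁆ =
      cls (i + j + k + 2) ⁅⁅x, y⁆, z⁆ + cls (i + j + k + 2) ⁅y, ⁅x, z⁆⁆ := by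
  have m1 : ⁅⁅x, y⁆, z⁆ ∈ γ G (i + j + k + 2) := comm_mem' (comm_mem hx hy) hz (by omega)
  have m2 : ⁅y, ⁅x, z⁆⁆ ∈ γ G (i + j + k + 2) := comm_mem' hy (comm_mem hx hz) (by omega)
  rw [← cls_mul m1 m2]
  refine cls_congr (comm_mem' hx (comm_mem hy hz) (by omega)) ?_
  set N := γ G (i + j + k + 2 + 1)
  have hc : ∀ {u v : G}, ⁅u, v⁆ ∈ N → Commute (QuotientGroup.mk' N u) (QuotientGroup.mk' N v) :=
    fun h => (commutatorElement_mem_iff_commute N _ _).1 h
  show QuotientGroup.mk' N _ = QuotientGroup.mk' N _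
  simp only [map_mul, map_commutatorElement]
  apply jacobi_aux <;> simp only [← map_commutatorElement]
  · exact hc (comm_mem' (comm_mem hx hy) (comm_mem hx hz) (by omega))
  · exact hc (comm_mem' (comm_mem hx hy) (comm_mem hy hz) (by omega))
  · exact hc (comm_mem' (comm_mem hx hz) (comm_mem hy hz) (by omega))
  · intro g
    obtain ⟨g, rfl⟩ := QuotientGroup.mk'_surjective N g
    exact hc (comm_mem' (mem_zero g) m2 (by omega))
  · intro g
    obtain ⟨g, rfl⟩ := QuotientGroup.mk'_surjective N g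
    exact hc (comm_mem' (mem_zero g) m1 (by omega))

noncomputable instance instLieRingAL : LieRing (AL G) where
  bracket a b := brk a b
  add_lie a b c := by simp
  lie_add a b c := by simp
  lie_self a := by
    show brk a a = 0
    induction a using induction_on with
    | h0 => simp
    | h1 i x hx => rw [brk_cls hx hx, commutatorElement_self, cls_one]
    | h2 a b ha hb =>
      simp only [map_add, AddMonoidHom.add_apply, ha, hb, zero_add, add_zero]
      exact brk_skew _ _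
  leibniz_lie a b c := by
    show brk a (brk b c) = brk (brk a b) c + brk b (brk a c)
    induction a using induction_on with
    | h0 => simp
    | h2 a b ha hb => simp only [map_add, AddMonoidHom.add_apply, ha, hb]; abel
    | h1 i x hx =>
    induction b using induction_on with
    | h0 => simp
    | h2 a b ha hb => simp only [map_add, AddMonoidHom.add_apply, ha, hb]; abel
    | h1 j y hy =>
    induction c using induction_on with
    | h0 => simp
    | h2 a b ha hb => simp only [map_add, ha, hb]; abel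
    | h1 k z hz =>
    rw [brk_cls hy hz, brk_cls hx hy, brk_cls hx hz, brk_cls hx (comm_mem hy hz),
      brk_cls (comm_mem hx hy) hz, brk_cls hy (comm_mem hx hz)]
    rw [show i + (j + k + 1) + 1 = i + j + k + 2 by omega,
      show i + j + 1 + k + 1 = i + j + k + 2 by omega,
      show j + (i + k + 1) + 1 = i + j + k + 2 by omega]
    exact jacobi_cls hx hy hz

theorem lie_cls {i j : ℕ} {x y : G} (hx : x ∈ γ G i) (hy : y ∈ γ G j) :
    ⁅cls i x, cls j y⁆ = cls (i + j + 1) ⁅x, y⁆ := brk_cls hx hy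

theorem map_mem (α : G →* G) {i : ℕ} {x : G} (hx : x ∈ γ G i) : α x ∈ γ G i := by
  have := mem_map_of_mem α hx
  rw [map_lowerCentralSeries] at this
  exact Subgroup.lowerCentralSeries_mono i le_top this

/-- An endomorphism of `G` induces an endomorphism of the associated Lie ring. -/
theorem exists_map (α : G →* G) : ∃ φ : AL G →+ AL G,
    (∀ i x, x ∈ γ G i → φ (cls i x) = cls i (α x)) ∧ ∀ a b, φ ⁅a, b⁆ = ⁅φ a, φ b⁆ := by
  obtain ⟨φ, hφ⟩ := exists_lift (fun i (x : γ G i) => cls i (α x))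
    (fun i x y => by
      rw [Subgroup.coe_mul, map_mul, cls_mul (map_mem α x.2) (map_mem α y.2)])
    (fun i x hx => cls_eq_zero (map_mem α hx))
  refine ⟨φ, hφ, fun a b => ?_⟩
  induction a using induction_on with
  | h0 => simp
  | h2 a b ha hb => simp only [add_lie, map_add, ha, hb]
  | h1 i x hx =>
  induction b using induction_on with
  | h0 => simp
  | h2 a b ha hb => simp only [lie_add, map_add, ha, hb]
  | h1 j y hy =>
  rw [lie_cls hx hy, hφ _ _ (comm_mem hx hy), hφ _ _ hx, hφ _ _ hy,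
    lie_cls (map_mem α hx) (map_mem α hy), map_commutatorElement]

end Cfsg.Agent.H7.AssocLie
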