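import Cfsg.Agent.S4195
import Cfsg.Agent.H1.Basic
import Cfsg.Agent.L.BaerSuzuki
import Cfsg.Agent.L.MinNormal

/-! If every `2`-element has odd class size, the Sylow `2`-subgroups are abelian. -/

set_option autoImplicit false

namespace Cfsg.Agent.H7

open Subgroup

universe u

/-- Every `2`-element has a conjugacy class of odd size. -/
def TwoElemsOdd (G : Type*) [Group G] : Prop :=
  ∀ x : G, (∃ k : ℕ, x ^ 2 ^ k = 1) → ¬ 2 ∣ (centralizer ({x} : Set G)).index

variable {G : Type u} [Group G] [Finite G]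

theorem TwoElemsOdd.commute_invol (h : TwoElemsOdd G) {S : Subgroup G} (hS : IsPGroup 2 S)
    {a b : G} (ha : a ∈ S) (hb : b ∈ S) (ha2 : a ^ 2 = 1) (hb2 : b ^ 2 = 1) : a * b = b * a := by
  obtain ⟨k, hk⟩ := hS ⟨a * b, S.mul_mem ha hb⟩
  rw [pow_two] at ha2 hb2
  have hai := inv_eq_of_mul_eq_one_right ha2
  have hbi := inv_eq_of_mul_eq_one_right hb2
  have h1 := S4195.sq_eq_one_of_real (a * b) (h _ ⟨k, congrArg Subtype.val hk⟩)
    (isConj_iff.2 ⟨a, by rw [mul_inv_rev, hbi, ← mul_assoc, ha2, one_mul]⟩)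
  rw [pow_two] at h1
  have h3 := inv_eq_of_mul_eq_one_right h1
  rw [mul_inv_rev, hai, hbi] at h3
  exact h3.symm

/-- The elements of square one in a `2`-subgroup. -/
def TwoElemsOdd.omega (h : TwoElemsOdd G) (S : Subgroup G) (hS : IsPGroup 2 S) : Subgroup G where
  carrier := {a | a ∈ S ∧ a ^ 2 = 1}
  one_mem' := ⟨one_mem _, one_pow _⟩
  mul_mem' := fun {a b} ha hb => ⟨mul_mem ha.1 hb.1, by
    rw [Commute.mul_pow (h.commute_invol hS ha.1 hb.1 ha.2 hb.2), ha.2, hb.2, one_mul]⟩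
  inv_mem' := fun {a} ha => ⟨inv_mem ha.1, by rw [inv_pow, ha.2, inv_one]⟩

theorem TwoElemsOdd.invol_mem_centralizer (h : TwoElemsOdd G) (x : G) (D : Subgroup G) :
    ∀ S : Subgroup G, IsPGroup 2 S → x ∈ S → S ⊓ centralizer ({x} : Set G) = D →
      ∀ a ∈ S, a ^ 2 = 1 → a ∈ centralizer ({x} : Set G) := by
  induction D using WellFoundedGT.induction with
  | _ D ih =>
  intro S hS hxS hD a₀ ha₀ ha₀2
  set C := centralizer ({x} : Set G) with hC
  by_contra hne
  have hxC : x ∈ C := mem_centralizer_singleton_iff.2 rfl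
  have hDS : D ≤ S := hD ▸ inf_le_left
  have hDC : D ≤ C := hD ▸ inf_le_right
  have hxD : x ∈ D := hD ▸ ⟨hxS, hxC⟩
  have hDp : IsPGroup 2 D := hS.to_le hDS
  have hodd : ¬ 2 ∣ C.index := by
    obtain ⟨k, hk⟩ := hS ⟨x, hxS⟩
    exact h x ⟨k, congrArg Subtype.val hk⟩
  -- a Sylow subgroup `T` of `C` containing `D`
  obtain ⟨T, hDT, hTC, hT, hTi⟩ := H1.exists_sylow_of_le (p := 2) hDC hDp
  have hDT' : D < T := by
    refine lt_of_le_of_ne hDT fun e => hne ?_
    have h1 : ¬ 2 ∣ T.relIndex ⊤ := by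
      rw [relIndex_top_right, ← relIndex_mul_index hTC]
      exact fun hd => ((Nat.Prime.dvd_mul Nat.prime_two).1 hd).elim hTi hodd
    have := H1.sylow_maximal h1 (e ▸ hDS) le_top hS
    exact hTC (this ▸ ha₀)
  have hT2 := @L.lt_inf_normalizer_of_isNilpotent _ _ _ _ hT.isNilpotent hDT'
  set N := normalizer (D : Set G) with hN
  obtain ⟨R, hR1, hRN, hR, hRi⟩ := H1.exists_sylow_of_le (p := 2)
    (inf_le_right : T ⊓ N ≤ N) hT.to_inf_left
  have hRC : ∀ b ∈ R, b ^ 2 = 1 → b ∈ C :=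
    ih (R ⊓ C) (lt_of_lt_of_le hT2 (le_inf hR1 (inf_le_left.trans hTC))) R hR
      (hR1 (hT2.le hxD)) rfl
  -- an involution of `S` normalizing `D` outside `C`
  set A := h.omega S hS with hA
  have hSA : S ≤ normalizer (A : Set G) := by
    rw [le_normalizer_iff]
    intro g hg y hy
    exact ⟨mul_mem (mul_mem hg hy.1) (inv_mem hg), by rw [conj_pow, hy.2]; simp⟩
  have hAS : A ≤ S := fun y hy => hy.1
  have hlt : D < D ⊔ A := lt_of_le_of_ne le_sup_left fun e =>
    hne (hDC (e ▸ mem_sup_right (show a₀ ∈ A from ⟨ha₀, ha₀2⟩)))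
  have hE := @L.lt_inf_normalizer_of_isNilpotent _ _ _ _
    (hS.to_le (sup_le hDS hAS)).isNilpotent hlt
  obtain ⟨y, ⟨hy1, hy2⟩, hy3⟩ := SetLike.exists_of_lt hE
  obtain ⟨d, hd, a, ha, rfl⟩ := (H1.mem_sup_iff_of_le_normalizer (hDS.trans hSA)).1 hy1
  have haN : a ∈ N := by simpa using N.mul_mem (N.inv_mem (le_normalizer hd)) hy2
  have haC : a ∉ C := fun hh => hy3 (D.mul_mem hd (hD ▸ ⟨ha.1, hh⟩))
  -- the subgroup acting trivially on `D / Ω(D)`
  set Ω := h.omega D hDp with hΩ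
  have hNΩ : ∀ g ∈ N, ∀ e ∈ Ω, g * e * g⁻¹ ∈ Ω := fun g hg e he =>
    ⟨(mem_normalizer_iff.1 hg e).1 he.1, by rw [conj_pow, he.2]; simp⟩
  let M : Subgroup G :=
    { carrier := {g | g ∈ N ∧ ∀ d ∈ D, d⁻¹ * (g * d * g⁻¹) ∈ Ω}
      one_mem' := ⟨one_mem _, fun d _ => by simp⟩
      mul_mem' := fun {g k} hg hk => ⟨mul_mem hg.1 hk.1, fun d hd => by
        have : d⁻¹ * (g * k * d * (g * k)⁻¹) =
            (d⁻¹ * (g * d * g⁻¹)) * (g * (d⁻¹ * (k * d * k⁻¹)) * g⁻¹) := by group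
        rw [this]
        exact mul_mem (hg.2 d hd) (hNΩ g hg.1 _ (hk.2 d hd))⟩
      inv_mem' := fun {g} hg => ⟨inv_mem hg.1, fun d hd => by
        have : d⁻¹ * (g⁻¹ * d * g⁻¹⁻¹) = g⁻¹ * (d⁻¹ * (g * d * g⁻¹))⁻¹ * g⁻¹⁻¹ := by group
        rw [this]
        exact hNΩ _ (inv_mem hg.1) _ (inv_mem (hg.2 d hd))⟩ }
  have hMN : M ≤ N := fun g hg => hg.1
  have hNM : N ≤ normalizer (M : Set G) := by
    rw [le_normalizer_iff]
    intro n hn g hg
    refine ⟨mul_mem (mul_mem hn hg.1) (inv_mem hn), fun d hd => ?_⟩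
    have h1 : n⁻¹ * d * n⁻¹⁻¹ ∈ D := (mem_normalizer_iff.1 (inv_mem hn) d).1 hd
    have := hNΩ n hn _ (hg.2 _ h1)
    convert this using 1
    group
  have haM : a ∈ M := by
    refine ⟨haN, fun d hd => ⟨D.mul_mem (D.inv_mem hd) ((mem_normalizer_iff.1 haN d).1 hd), ?_⟩⟩
    have h1 : d⁻¹ * a * d⁻¹⁻¹ ∈ A := (mem_normalizer_iff.1 (hSA (inv_mem (hDS hd))) a).1 ha
    have := (A.mul_mem h1 (A.inv_mem ha)).2
    rw [← this]; congr 1; group
  have hRi' : ¬ 2 ∣ R.relIndex (R ⊔ M) := fun hd => hRi (hd.trans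
    ⟨_, (relIndex_mul_relIndex _ _ _ le_sup_left (sup_le hRN hMN)).symm⟩)
  obtain ⟨g, hg, hga⟩ := H1.exists_conj_le_sylow hR hRi'
    ((zpowers_le_of_mem haM).trans le_sup_right) (hS.to_le (zpowers_le_of_mem ha.1))
  obtain ⟨r, hr, m, hm, rfl⟩ := (H1.mem_sup_iff_of_le_normalizer (hRN.trans hNM)).1 hg
  have h1 := H1.map_conj_le_iff.1 hga a (mem_zpowers a)
  have h2 : m * a * m⁻¹ ∈ R := by
    have := R.mul_mem (R.mul_mem (R.inv_mem hr) h1) hr
    convert this using 1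
    group
  have h3 := mem_centralizer_singleton_iff.1 (hRC _ h2 (by rw [conj_pow, ha.2]; simp))
  have h4 := (M.inv_mem hm).2 x hxD
  have h5 := h.commute_invol hS ha.1 (hDS h4.1) ha.2 h4.2
  apply haC
  rw [mem_centralizer_singleton_iff]
  have h6 : a * (m⁻¹ * x * m) = (m⁻¹ * x * m) * a := by
    calc a * (m⁻¹ * x * m) = m⁻¹ * (m * a * m⁻¹ * x) * m := by group
      _ = (m⁻¹ * x * m) * a := by rw [h3]; group
  rw [inv_inv] at h5
  have h7 : Commute a (x⁻¹ * (m⁻¹ * x * m)) := h5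
  have h8 : Commute a (m⁻¹ * x * m) := h6
  have := h8.mul_right h7.inv_right
  have e : m⁻¹ * x * m * (x⁻¹ * (m⁻¹ * x * m))⁻¹ = x := by group
  rw [e] at this
  exact this.eq

theorem TwoElemsOdd.invol_commute (h : TwoElemsOdd G) {S : Subgroup G} (hS : IsPGroup 2 S)
    {a x : G} (ha : a ∈ S) (hx : x ∈ S) (ha2 : a ^ 2 = 1) : a * x = x * a :=
  mem_centralizer_singleton_iff.1 (h.invol_mem_centralizer x _ S hS hx rfl a ha ha2)

theorem TwoElemsOdd.exists_sylow (h : TwoElemsOdd G) {x : G} {Q : Subgroup G} (hQ : IsPGroup 2 Q)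
    (hxQ : x ∈ Q) (hQC : Q ≤ centralizer ({x} : Set G)) :
    ∃ T : Subgroup G, Q ≤ T ∧ T ≤ centralizer ({x} : Set G) ∧ IsPGroup 2 T ∧ ¬ 2 ∣ T.index := by
  obtain ⟨T, h1, h2, h3, h4⟩ := H1.exists_sylow_of_le (p := 2) hQC hQ
  refine ⟨T, h1, h2, h3, ?_⟩
  obtain ⟨k, hk⟩ := hQ ⟨x, hxQ⟩
  rw [← relIndex_mul_index h2]
  exact fun hd => ((Nat.Prime.dvd_mul Nat.prime_two).1 hd).elim h4
    (h x ⟨k, congrArg Subtype.val hk⟩)

theorem isPGroup_zpowers_of_pow {G : Type*} [Group G] {p k : ℕ} {x : G} (hx : x ^ p ^ k = 1) :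
    IsPGroup p (zpowers x) := by
  rintro ⟨_, n, rfl⟩
  refine ⟨k, Subtype.ext ?_⟩
  simp only [SubgroupClass.coe_pow, OneMemClass.coe_one]
  rw [← zpow_natCast, ← zpow_mul, mul_comm, zpow_mul, zpow_natCast, hx, one_zpow]

theorem TwoElemsOdd.comm (h : TwoElemsOdd G) (S : Subgroup G) (hS : IsPGroup 2 S) :
    ∀ x ∈ S, ∀ y ∈ S, x * y = y * x := by
  revert h S
  refine L.induction_on_card (P := fun G _ _ => TwoElemsOdd G → ∀ S : Subgroup G, IsPGroup 2 S →
    ∀ x ∈ S, ∀ y ∈ S, x * y = y * x) G ?_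
  intro G _ _ ih h S hS x hx y hy
  obtain ⟨P, hSP, -, hP, hPi⟩ := H1.exists_sylow_of_le (p := 2) (le_top : S ≤ ⊤) hS
  replace hx := hSP hx
  replace hy := hSP hy
  by_cases hx1 : x = 1
  · simp [hx1]
  obtain ⟨a, haP, ha1, ha2⟩ : ∃ a ∈ P, a ≠ 1 ∧ a ^ 2 = 1 := by
    have : 2 ∣ Nat.card P := by
      refine hP.card_eq_or_dvd.resolve_left fun h1 => hx1 ?_
      rw [Subgroup.card_eq_one] at h1
      exact mem_bot.1 (h1 ▸ hx)
    obtain ⟨a, ha⟩ := exists_prime_orderOf_dvd_card' (G := P) 2 this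
    refine ⟨a, a.2, fun h1 => ?_, ?_⟩
    · rw [← orderOf_coe, h1] at ha; simp at ha
    · rw [← ha, ← orderOf_coe]; exact pow_orderOf_eq_one _
  set K := centralizer ({a} : Set G) with hK
  have hPK : P ≤ K := fun g hg =>
    mem_centralizer_singleton_iff.2 (h.invol_commute hP haP hg ha2).symm
  have hZ : IsPGroup 2 (zpowers a) := hP.to_le (zpowers_le_of_mem haP)
  by_cases hKt : K = ⊤
  · have hac : ∀ g : G, g * a = a * g := fun g =>
      mem_centralizer_singleton_iff.1 (show g ∈ K from hKt ▸ mem_top g)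
    have hZc : zpowers a ≤ center G := zpowers_le_of_mem (mem_center_iff.2 hac)
    have : (zpowers a).Normal := ⟨fun n hn g => by
      rw [mem_center_iff.1 (hZc hn) g]; simpa using hn⟩
    have hq : TwoElemsOdd (G ⧸ zpowers a) := by
      rintro z ⟨k, hk⟩
      obtain ⟨z, rfl⟩ := QuotientGroup.mk_surjective z
      rw [← QuotientGroup.mk_pow, QuotientGroup.eq_one_iff] at hk
      obtain ⟨j, hj⟩ := hZ ⟨_, hk⟩
      have h1 := h z ⟨k + j, by rw [pow_add, pow_mul]; exact congrArg Subtype.val hj⟩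
      rw [← index_comap_of_surjective _ (QuotientGroup.mk'_surjective _)]
      refine fun hd => h1 (hd.trans (index_dvd_of_le fun g hg => ?_))
      rw [mem_comap, mem_centralizer_singleton_iff, QuotientGroup.mk'_apply,
        ← QuotientGroup.mk_mul, ← QuotientGroup.mk_mul, mem_centralizer_singleton_iff.1 hg]
    have hab := ih _ (L.card_quotient_lt (zpowers a) (by simpa using ha1)) hq
      (P.map (QuotientGroup.mk' _)) (hP.map _)
    set C := (centralizer ({(x : G ⧸ zpowers a)} : Set (G ⧸ zpowers a))).comap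
      (QuotientGroup.mk' (zpowers a)) with hC
    have hPC : P ≤ C := fun g hg => by
      rw [hC, mem_comap, mem_centralizer_singleton_iff]
      exact hab _ (mem_map_of_mem _ hg) _ (mem_map_of_mem _ hx)
    obtain ⟨T, hT1, hT2, hT3, hT4⟩ := h.exists_sylow (hP.to_le (zpowers_le_of_mem hx))
      (mem_zpowers x) (zpowers_le_of_mem (mem_centralizer_singleton_iff.2 rfl))
    have hTi : ¬ 2 ∣ T.relIndex C := fun hd => hT4 (by
      have hTC : T ≤ C := fun g hg => by
        rw [hC, mem_comap, mem_centralizer_singleton_iff, QuotientGroup.mk'_apply,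
          ← QuotientGroup.mk_mul, ← QuotientGroup.mk_mul,
          mem_centralizer_singleton_iff.1 (hT2 hg)]
      exact hd.trans (relIndex_dvd_index_of_le hTC))
    obtain ⟨c, hc, hcP⟩ := H1.exists_conj_le_sylow hT3 hTi hPC hP
    have h1 := mem_centralizer_singleton_iff.1 (hT2 (H1.map_conj_le_iff.1 hcP y hy))
    rw [hC, mem_comap, mem_centralizer_singleton_iff, QuotientGroup.mk'_apply,
      ← QuotientGroup.mk_mul, ← QuotientGroup.mk_mul, QuotientGroup.eq] at hc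
    have h2 := mem_center_iff.1 (hZc hc) y
    have h3 : Commute y ((c * x)⁻¹ * (x * c)) := h2
    have h4 : Commute y (c⁻¹ * x * c) := by
      change y * _ = _ * y
      calc y * (c⁻¹ * x * c) = c⁻¹ * (c * y * c⁻¹ * x) * c := by group
        _ = _ := by rw [h1]; group
    have := h4.mul_right h3.inv_right
    have e : c⁻¹ * x * c * ((c * x)⁻¹ * (x * c))⁻¹ = x := by group
    rw [e] at this
    exact this.eq.symm
  · have hq : TwoElemsOdd K := by
      rintro ⟨z, hz⟩ ⟨k, hk⟩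
      have hk' : z ^ 2 ^ k = 1 := congrArg Subtype.val hk
      have hza : z * a = a * z := mem_centralizer_singleton_iff.1 hz
      have hn : zpowers z ≤ normalizer (zpowers a : Set G) := by
        refine le_trans ?_ (centralizer_le_normalizer _)
        rw [zpowers_le, mem_centralizer_iff]
        rintro _ ⟨n, rfl⟩
        exact (Commute.zpow_left hza.symm n).eq
      obtain ⟨T, hT1, hT2, hT3, hT4⟩ := h.exists_sylow (x := z)
        ((isPGroup_zpowers_of_pow hk').to_sup_of_normal_right' hZ hn)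
        (mem_sup_left (mem_zpowers z))
        (sup_le (zpowers_le_of_mem (mem_centralizer_singleton_iff.2 rfl))
          (zpowers_le_of_mem (mem_centralizer_singleton_iff.2 hza.symm)))
      have hTK : T ≤ K := fun g hg => mem_centralizer_singleton_iff.2
        (h.invol_commute hT3 (hT1 (mem_sup_right (mem_zpowers a))) hg ha2).symm
      refine fun hd => hT4 ((hd.trans (index_dvd_of_le (H := T.subgroupOf K) fun g hg => ?_)).trans
        (relIndex_dvd_index_of_le hTK))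
      rw [mem_centralizer_singleton_iff]
      exact Subtype.ext (mem_centralizer_singleton_iff.1 (hT2 hg))
    have := ih K (L.card_lt_of_ne_top hKt) hq (P.subgroupOf K) hP.comap_subtype
      ⟨x, hPK hx⟩ hx ⟨y, hPK hy⟩ hy
    exact congrArg Subtype.val this

/-- **Camina-Herzog.** -/
theorem sylow_two_comm_of_odd_class (h : ∀ x : G, (∃ k : ℕ, orderOf x = 2 ^ k) →
    ¬ 2 ∣ (centralizer ({x} : Set G)).index) (P : Sylow 2 G) :
    IsMulCommutative (P : Subgroup G) := by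
  have h1 : TwoElemsOdd G := by
    rintro x ⟨k, hk⟩
    obtain ⟨j, -, hj⟩ := (Nat.dvd_prime_pow Nat.prime_two).1 (orderOf_dvd_of_pow_eq_one hk)
    exact h x ⟨j, hj⟩
  exact ⟨⟨fun a b => Subtype.ext (h1.comm P P.isPGroup' a a.2 b b.2)⟩⟩

end Cfsg.Agent.H7
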