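import Mathlib

/-! Chevalley–Warning for quadratic maps between vector spaces over a finite field, and the
consequence for groups whose squares lie in a central subgroup of exponent two. -/

set_option autoImplicit false

namespace Cfsg.Agent.H7

open Module

theorem exists_ne_zero_quadraticMap {K U W : Type*} [Field K] [Finite K] [AddCommGroup U]
    [Module K U] [AddCommGroup W] [Module K W] [Module.Finite K U] [Module.Finite K W]
    (Q : QuadraticMap K U W) (h : 2 * finrank K W < finrank K U) : ∃ v, v ≠ 0 ∧ Q v = 0 := by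
  classical
  letI := Fintype.ofFinite K
  obtain ⟨p, hp⟩ := CharP.exists K
  have hpp : p.Prime := CharP.char_is_prime K p
  let b := Module.finBasis K U
  let c := Module.finBasis K W
  let B := Q.toBilin b
  let f : Fin (finrank K W) → MvPolynomial (Fin (finrank K U)) K := fun i =>
    ∑ j, ∑ k, MvPolynomial.C (c.repr (B (b j) (b k)) i) * (MvPolynomial.X j * MvPolynomial.X k)
  have hdeg : ∀ i, (f i).totalDegree ≤ 2 := by
    intro i
    refine (MvPolynomial.totalDegree_finsetSum _ _).trans (Finset.sup_le fun j _ => ?_)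
    refine (MvPolynomial.totalDegree_finsetSum _ _).trans (Finset.sup_le fun k _ => ?_)
    refine (MvPolynomial.totalDegree_mul _ _).trans ?_
    rw [MvPolynomial.totalDegree_C, zero_add]
    refine (MvPolynomial.totalDegree_mul _ _).trans ?_
    rw [MvPolynomial.totalDegree_X, MvPolynomial.totalDegree_X]
  have hev : ∀ (x : Fin (finrank K U) → K) i,
      MvPolynomial.eval x (f i) = c.repr (Q (b.equivFun.symm x)) i := by
    intro x i
    rw [← Q.toQuadraticMap_toBilin b, LinearMap.BilinMap.toQuadraticMap_apply,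
      Basis.equivFun_symm_apply]
    simp only [f, B, map_sum, map_mul, MvPolynomial.eval_C, MvPolynomial.eval_X, map_smul,
      LinearMap.sum_apply, LinearMap.smul_apply, Finsupp.coe_finset_sum, Finset.sum_apply,
      Finsupp.coe_smul, Pi.smul_apply, smul_eq_mul, Finset.mul_sum]
    rw [Finset.sum_comm]
    refine Finset.sum_congr rfl fun j _ => Finset.sum_congr rfl fun k _ => by ring
  have h1 : (∑ i, (f i).totalDegree) < Fintype.card (Fin (finrank K U)) := by
    calc (∑ i, (f i).totalDegree) ≤ ∑ _i : Fin (finrank K W), 2 :=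
          Finset.sum_le_sum fun i _ => hdeg i
      _ = 2 * finrank K W := by simp [mul_comm]
      _ < _ := by simpa using h
  have h2 := char_dvd_card_solutions_of_fintype_sum_lt p h1
  by_contra hcon
  push Not at hcon
  rw [Fintype.card_eq_nat_card] at h2
  have h3 : Nat.card {x : Fin (finrank K U) → K // ∀ i, MvPolynomial.eval x (f i) = 0} = 1 := by
    rw [Nat.card_eq_one_iff_exists]
    refine ⟨⟨0, fun i => by rw [hev]; simp⟩, fun ⟨x, hx⟩ => Subtype.ext ?_⟩
    by_contra hx0
    apply hcon (b.equivFun.symm x) (fun h0 => hx0 (b.equivFun.symm.map_eq_zero_iff.1 h0))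
    apply c.repr.injective
    ext i
    rw [← hev, hx i]
    simp
  rw [h3] at h2
  exact hpp.one_lt.ne' (Nat.dvd_one.1 h2)

theorem card_le_of_quadraticMap {K V W : Type*} [Field K] [Finite K] [AddCommGroup V]
    [Module K V] [AddCommGroup W] [Module K W] [Finite V] [Finite W]
    (Q : QuadraticMap K V W) (D : Submodule K V) (hD : ∀ v, Q v = 0 → v ∈ D) :
    Nat.card V ≤ Nat.card D * Nat.card W ^ 2 := by
  obtain ⟨U, hU⟩ := Submodule.exists_isCompl D
  have h1 : finrank K U ≤ 2 * finrank K W := by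
    by_contra hlt
    obtain ⟨v, hv, hQ⟩ := exists_ne_zero_quadraticMap (Q.comp U.subtype) (not_le.1 hlt)
    apply hv
    have : (v : V) ∈ D ⊓ U := ⟨hD _ hQ, v.2⟩
    rw [hU.inf_eq_bot] at this
    exact Subtype.ext this
  have h2 := Submodule.finrank_add_eq_of_isCompl hU
  rw [Module.natCard_eq_pow_finrank (K := K) (V := V), Module.natCard_eq_pow_finrank (K := K) (V := D),
    Module.natCard_eq_pow_finrank (K := K) (V := W), ← pow_mul, ← pow_add]
  exact Nat.pow_le_pow_right Nat.card_pos (by omega)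

open Subgroup in
/-- If all squares of `G` lie in a central subgroup `M` of exponent `2` and `D` contains every
element of order at most two, then `|G| ≤ |D| |M|²`. -/
theorem card_le_of_sq_mem {G : Type*} [Group G] [Finite G] (M D : Subgroup G)
    (hM : M ≤ center G) (hM2 : ∀ m ∈ M, m ^ 2 = 1) (hsq : ∀ x : G, x ^ 2 ∈ M)
    (hD : ∀ x : G, x ^ 2 = 1 → x ∈ D) : Nat.card G ≤ Nat.card D * Nat.card M ^ 2 := by
  have hc : ∀ m ∈ M, ∀ g : G, g * m = m * g := fun m hm g => mem_center_iff.1 (hM hm) g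
  haveI : M.Normal := ⟨fun m hm g => by rw [hc m hm g]; simpa using hm⟩
  have hq2 : ∀ x : G ⧸ M, x ^ 2 = 1 := by
    intro x
    obtain ⟨x, rfl⟩ := QuotientGroup.mk_surjective x
    rw [← QuotientGroup.mk_pow, QuotientGroup.eq_one_iff]
    exact hsq x
  letI : CommGroup (G ⧸ M) :=
    { (inferInstance : Group (G ⧸ M)) with
      mul_comm := fun a b => by
        have h1 : ∀ x : G ⧸ M, x⁻¹ = x := fun x => inv_eq_of_mul_eq_one_right (by
          rw [← pow_two, hq2])
        rw [← h1 (a * b), mul_inv_rev, h1, h1] }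
  letI : CommGroup M :=
    { (inferInstance : Group M) with
      mul_comm := fun a b => Subtype.ext (hc b b.2 a) }
  letI : Module (ZMod 2) (Additive (G ⧸ M)) := AddCommGroup.zmodModule (fun x => hq2 x.toMul)
  letI : Module (ZMod 2) (Additive M) :=
    AddCommGroup.zmodModule (fun x => Subtype.ext (hM2 _ x.toMul.2))
  have hcomm : ∀ x y : G, y * x * y⁻¹ * x⁻¹ ∈ M := by
    intro x y
    rw [← QuotientGroup.eq_one_iff]
    simp only [QuotientGroup.mk_mul, QuotientGroup.mk_inv]
    rw [mul_comm (y : G ⧸ M) x]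
    group
  let q : G ⧸ M → M := Quotient.lift (fun x => ⟨x ^ 2, hsq x⟩) (by
    intro a b hab
    have h1 : a⁻¹ * b ∈ M := QuotientGroup.leftRel_apply.1 hab
    apply Subtype.ext
    have h2 : b = a * (a⁻¹ * b) := by group
    show a ^ 2 = b ^ 2
    rw [h2, (show Commute a (a⁻¹ * b) from hc _ h1 a).mul_pow, hM2 _ h1, mul_one])
  let q' : Additive (G ⧸ M) → Additive M := fun x => Additive.ofMul (q x.toMul)
  have hpol : ∀ x y : G, QuadraticMap.polar q' (Additive.ofMul (x : G ⧸ M))
      (Additive.ofMul (y : G ⧸ M)) = Additive.ofMul ⟨_, hcomm x y⟩ := by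
    intro x y
    apply Additive.toMul.injective
    apply Subtype.ext
    show (x * y) ^ 2 / x ^ 2 / y ^ 2 = y * x * y⁻¹ * x⁻¹
    have h1 := hc _ (hcomm x y) x
    have h2 := hc _ (hsq y) (x ^ 2)⁻¹
    calc (x * y) ^ 2 / x ^ 2 / y ^ 2 = (x * y) ^ 2 * ((y ^ 2)⁻¹ * (y ^ 2 * (x ^ 2)⁻¹) * (y ^ 2)⁻¹) := by
          rw [div_eq_mul_inv, div_eq_mul_inv]; group
      _ = (x * y) ^ 2 * ((y ^ 2)⁻¹ * (x ^ 2)⁻¹) := by rw [← h2]; group
      _ = (x * (y * x * y⁻¹ * x⁻¹)) * x⁻¹ := by simp only [pow_two]; group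
      _ = _ := by rw [h1]; group
  have hz : ∀ a : ZMod 2, a = 0 ∨ a = 1 := by decide
  have hq0 : q' 0 = 0 := by
    apply Additive.toMul.injective
    apply Subtype.ext
    exact one_pow 2
  let Q : QuadraticMap (ZMod 2) (Additive (G ⧸ M)) (Additive M) := QuadraticMap.ofPolar q'
    (by
      intro a x
      rcases hz a with rfl | rfl
      · simp [hq0]
      · simp)
    (by
      intro x x' y
      obtain ⟨x, rfl⟩ : ∃ g : G, Additive.ofMul (g : G ⧸ M) = x := QuotientGroup.mk_surjective x.toMul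
      obtain ⟨x', rfl⟩ : ∃ g : G, Additive.ofMul (g : G ⧸ M) = x' :=
        QuotientGroup.mk_surjective x'.toMul
      obtain ⟨y, rfl⟩ : ∃ g : G, Additive.ofMul (g : G ⧸ M) = y := QuotientGroup.mk_surjective y.toMul
      rw [← ofMul_mul, ← QuotientGroup.mk_mul, hpol, hpol, hpol]
      apply Additive.toMul.injective
      apply Subtype.ext
      show y * (x * x') * y⁻¹ * (x * x')⁻¹ = (y * x * y⁻¹ * x⁻¹) * (y * x' * y⁻¹ * x'⁻¹)
      have h1 := hc _ (hcomm x' y) x
      calc y * (x * x') * y⁻¹ * (x * x')⁻¹ =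
          (y * x * y⁻¹ * x⁻¹) * (x * (y * x' * y⁻¹ * x'⁻¹)) * x⁻¹ := by group
        _ = _ := by rw [h1]; group)
    (by
      intro a x y
      rcases hz a with rfl | rfl
      · simp [QuadraticMap.polar, hq0]
      · simp)
  have hMD : M ≤ D := fun m hm => hD m (hM2 m hm)
  let D' : Submodule (ZMod 2) (Additive (G ⧸ M)) :=
    AddSubgroup.toZModSubmodule 2 (D.map (QuotientGroup.mk' M)).toAddSubgroup
  have h1 := card_le_of_quadraticMap Q D' (by
    intro v hv
    obtain ⟨x, rfl⟩ : ∃ g : G, Additive.ofMul (g : G ⧸ M) = v := QuotientGroup.mk_surjective v.toMul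
    have : x ^ 2 = 1 := congrArg (fun t : Additive M => (t.toMul : G)) hv
    exact ⟨x, hD x this, rfl⟩)
  have h2 : Nat.card D' = Nat.card (D.map (QuotientGroup.mk' M)) := rfl
  have h3 : Nat.card (D.map (QuotientGroup.mk' M)) * Nat.card M = Nat.card D := by
    have := QuotientGroup.card_preimage_mk M ((D.map (QuotientGroup.mk' M)) : Set (G ⧸ M))
    rw [mul_comm]
    refine this.symm.trans ?_
    show Nat.card ((D.map (QuotientGroup.mk' M)).comap (QuotientGroup.mk' M)) = _
    rw [comap_map_eq, QuotientGroup.ker_mk', sup_eq_left.mpr hMD]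
  have h4 : Nat.card (Additive (G ⧸ M)) = Nat.card (G ⧸ M) := rfl
  have h5 : Nat.card (Additive M) = Nat.card M := rfl
  rw [h2, h4, h5] at h1
  rw [card_eq_card_quotient_mul_card_subgroup M, ← h3]
  calc _ ≤ Nat.card (D.map (QuotientGroup.mk' M)) * Nat.card M ^ 2 * Nat.card M :=
        Nat.mul_le_mul_right _ h1
    _ = _ := by ring

end Cfsg.Agent.H7
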