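import Cfsg.Agent.H7.Comm

/-! The Hall-Petrescu formula, through polynomial sequences with respect to a filtration. -/

set_option autoImplicit false

namespace Cfsg.Agent.H7

open Subgroup
open scoped commutatorElement

/-- A filtration (N-series indexed from `0`): decreasing, with `[F i, F j] ≤ F (i+j)`. -/
structure IsFiltration {X : Type*} [Group X] (F : ℕ → Subgroup X) : Prop where
  anti : Antitone F
  comm : ∀ i j, ⁅F i, F j⁆ ≤ F (i + j)

namespace IsFiltration

variable {X : Type*} [Group X] {F : ℕ → Subgroup X}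

theorem comm_mem (h : IsFiltration F) {i j k : ℕ} {a b : X} (ha : a ∈ F i) (hb : b ∈ F j)
    (hk : k ≤ i + j) : ⁅a, b⁆ ∈ F k :=
  h.anti hk (h.comm i j (commutator_mem_commutator ha hb))

theorem conj_mem (h : IsFiltration F) {i j : ℕ} {a b : X} (ha : a ∈ F i) (hb : b ∈ F j) :
    b * a * b⁻¹ ∈ F i := by
  have : b * a * b⁻¹ = ⁅b, a⁆ * a := by simp [commutatorElement_def]
  rw [this]
  exact (F i).mul_mem (h.comm_mem hb ha (by omega)) ha

theorem conj_mem' (h : IsFiltration F) {i j : ℕ} {a b : X} (ha : a ∈ F i) (hb : b ∈ F j) :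
    b⁻¹ * a * b ∈ F i := by
  simpa using h.conj_mem ha ((F j).inv_mem hb)

/-- The filtration on `X × X` of pairs `(a, b)` with `a ∈ F i` and `a⁻¹ b ∈ F (i+1)`. -/
def box (h : IsFiltration F) (i : ℕ) : Subgroup (X × X) where
  carrier := {z | z.1 ∈ F i ∧ z.1⁻¹ * z.2 ∈ F (i + 1)}
  one_mem' := by simp
  mul_mem' := by
    rintro ⟨a, b⟩ ⟨c, d⟩ ⟨h1, h2⟩ ⟨h3, h4⟩
    refine ⟨(F i).mul_mem h1 h3, ?_⟩
    have : (a * c)⁻¹ * (b * d) = (c⁻¹ * (a⁻¹ * b) * c) * (c⁻¹ * d) := by group
    change (a * c)⁻¹ * (b * d) ∈ _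
    rw [this]
    exact (F _).mul_mem (h.conj_mem' h2 h3) h4
  inv_mem' := by
    rintro ⟨a, b⟩ ⟨h1, h2⟩
    refine ⟨(F i).inv_mem h1, ?_⟩
    have : (a⁻¹)⁻¹ * b⁻¹ = a * (a⁻¹ * b)⁻¹ * a⁻¹ := by group
    change (a⁻¹)⁻¹ * b⁻¹ ∈ _
    rw [this]
    exact h.conj_mem ((F _).inv_mem h2) h1

theorem box_isFiltration (h : IsFiltration F) : IsFiltration h.box where
  anti := by
    apply antitone_nat_of_succ_le
    rintro i ⟨a, b⟩ ⟨h1, h2⟩
    exact ⟨h.anti (Nat.le_succ _) h1, h.anti (Nat.le_succ _) h2⟩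
  comm := by
    intro i j
    rw [commutator_le]
    rintro ⟨a, b⟩ ⟨h1, h2⟩ ⟨c, d⟩ ⟨h3, h4⟩
    refine ⟨h.comm_mem h1 h3 le_rfl, ?_⟩
    change ⁅a, c⁆⁻¹ * ⁅b, d⁆ ∈ _
    simp only at h1 h2 h3 h4
    set u := a⁻¹ * b with hu
    set v := c⁻¹ * d with hv
    have hb : b = a * u := by rw [hu]; group
    have hd : d = c * v := by rw [hv]; group
    have hdm : d ∈ F j := hd ▸ (F j).mul_mem h3 (h.anti (Nat.le_succ _) h4)
    have hw : ⁅a, c⁆ ∈ F (i + j) := h.comm_mem h1 h3 le_rfl
    have e : ⁅a, c⁆⁻¹ * ⁅b, d⁆ =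
        (⁅a, c⁆⁻¹ * (a * ⁅u, d⁆ * a⁻¹) * ⁅a, c⁆) * (c * ⁅a, v⁆ * c⁻¹) := by
      rw [hb, hd]; simp only [commutatorElement_def]; group
    rw [e]
    refine (F _).mul_mem (h.conj_mem' (h.conj_mem (h.comm_mem h2 hdm (by omega)) h1) hw)
      (h.conj_mem (h.comm_mem h1 h4 (by omega)) h3)

theorem comap {Y : Type*} [Group Y] (h : IsFiltration F) (f : Y →* X) :
    IsFiltration (fun i => (F i).comap f) where
  anti := fun _ _ hij => Subgroup.comap_mono (h.anti hij)
  comm := fun i j => by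
    rw [commutator_le]
    intro a ha b hb
    rw [mem_comap, map_commutatorElement]
    exact h.comm_mem ha hb le_rfl

theorem pi (h : IsFiltration F) (ι : Type*) :
    IsFiltration (fun i => Subgroup.pi (Set.univ : Set ι) (fun _ => F i)) where
  anti := fun _ _ hij _ ha k hk => h.anti hij (ha k hk)
  comm := fun i j => by
    rw [commutator_le]
    intro a ha b hb k hk
    exact h.comm_mem (ha k hk) (hb k hk) le_rfl

end IsFiltration

section Poly

variable {G : Type*} [Group G]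

/-- `f ↦ (f, shift f)`. -/
def pairShift (G : Type*) [Group G] : (ℕ → G) →* (ℕ → G) × (ℕ → G) where
  toFun f := (f, fun n => f (n + 1))
  map_one' := rfl
  map_mul' _ _ := rfl

/-- Polynomial sequences, truncated at derivative order `K`. -/
def polySeq {F : ℕ → Subgroup G} (h : IsFiltration F) :
    ℕ → {P : ℕ → Subgroup (ℕ → G) // IsFiltration P}
  | 0 => ⟨_, h.pi ℕ⟩
  | K + 1 => ⟨_, (polySeq h K).2.box_isFiltration.comap (pairShift G)⟩

variable {F : ℕ → Subgroup G} (h : IsFiltration F)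

theorem mem_polySeq_zero (i : ℕ) (f : ℕ → G) : f ∈ (polySeq h 0).1 i ↔ ∀ n, f n ∈ F i := by
  simp [polySeq, Subgroup.mem_pi]

theorem mem_polySeq_succ (K i : ℕ) (f : ℕ → G) : f ∈ (polySeq h (K + 1)).1 i ↔
    f ∈ (polySeq h K).1 i ∧ (fun n => (f n)⁻¹ * f (n + 1)) ∈ (polySeq h K).1 (i + 1) :=
  Iff.rfl

theorem mem_of_mem_polySeq (K i : ℕ) (f : ℕ → G) (hf : f ∈ (polySeq h K).1 i) (n : ℕ) :
    f n ∈ F i := by
  induction K with
  | zero => exact (mem_polySeq_zero h i f).1 hf n
  | succ K ih => exact ih ((mem_polySeq_succ h K i f).1 hf).1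

theorem pow_choose_mem_polySeq (K : ℕ) : ∀ (i k : ℕ) (c : G), c ∈ F (i + k) →
    (fun n : ℕ => c ^ n.choose k) ∈ (polySeq h K).1 i := by
  induction K with
  | zero =>
    intro i k c hc
    rw [mem_polySeq_zero]
    exact fun n => (F i).pow_mem (h.anti (Nat.le_add_right _ _) hc) _
  | succ K ih =>
    intro i k c hc
    rw [mem_polySeq_succ]
    refine ⟨ih i k c hc, ?_⟩
    cases k with
    | zero =>
      have : (fun n : ℕ => (c ^ n.choose 0)⁻¹ * c ^ (n + 1).choose 0) = 1 := by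
        funext n; simp
      rw [this]; exact one_mem _
    | succ k =>
      have : (fun n : ℕ => (c ^ n.choose (k + 1))⁻¹ * c ^ (n + 1).choose (k + 1)) =
          fun n : ℕ => c ^ n.choose k := by
        funext n
        rw [Nat.choose_succ_succ', add_comm, pow_add]; group
      rw [this]
      exact ih (i + 1) k c (by rwa [show i + 1 + k = i + (k + 1) by ring])

theorem first_value_mem (K : ℕ) : ∀ (i : ℕ) (f : ℕ → G), f ∈ (polySeq h K).1 i →
    (∀ n < K, f n = 1) → f K ∈ F (i + K) := by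
  induction K with
  | zero => intro i f hf _; exact mem_of_mem_polySeq h 0 i f hf 0
  | succ K ih =>
    intro i f hf h1
    have := ih (i + 1) _ ((mem_polySeq_succ h K i f).1 hf).2 (by
      intro n hn
      simp [h1 n (by omega), h1 (n + 1) (by omega)])
    simp only [h1 K (Nat.lt_succ_self K), inv_one, one_mul] at this
    rwa [show i + (K + 1) = i + 1 + K by ring]

/-- The ordered product `∏_{k < m} c_k ^ C(n,k)`. -/
def taylorProd (c : ℕ → G) (m n : ℕ) : G :=
  ((List.range m).map fun k => c k ^ n.choose k).prod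

theorem taylorProd_succ (c : ℕ → G) (m n : ℕ) :
    taylorProd c (m + 1) n = taylorProd c m n * c m ^ n.choose m := by
  simp [taylorProd, List.range_succ]

theorem taylorProd_zero (c : ℕ → G) (n : ℕ) : taylorProd c 0 n = 1 := rfl

theorem taylorProd_congr {c d : ℕ → G} (m n : ℕ) (hcd : ∀ k < m, c k = d k) :
    taylorProd c m n = taylorProd d m n := by
  induction m with
  | zero => rfl
  | succ m ih =>
    rw [taylorProd_succ, taylorProd_succ, ih (fun k hk => hcd k (by omega)), hcd m (by omega)]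

theorem taylorProd_of_lt (c : ℕ → G) (m n : ℕ) (hm : n < m) :
    taylorProd c m n = taylorProd c (n + 1) n := by
  induction m with
  | zero => omega
  | succ m ih =>
    rcases Nat.lt_succ_iff_lt_or_eq.1 hm with h1 | h1
    · rw [taylorProd_succ, ih h1, Nat.choose_eq_zero_of_lt h1]; simp
    · rw [h1]

/-- The Taylor coefficients of a sequence. -/
noncomputable def taylorCoeff (f : ℕ → G) (k : ℕ) : G :=
  (taylorProd (fun j => if _h : j < k then taylorCoeff f j else 1) k k)⁻¹ * f k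

theorem taylorCoeff_eq (f : ℕ → G) (k : ℕ) :
    taylorCoeff f k = (taylorProd (taylorCoeff f) k k)⁻¹ * f k := by
  rw [taylorCoeff]
  congr 2
  exact taylorProd_congr _ _ (fun j hj => by simp [hj])

theorem taylor_expand (f : ℕ → G) (n : ℕ) : f n = taylorProd (taylorCoeff f) (n + 1) n := by
  rw [taylorProd_succ, Nat.choose_self, pow_one, taylorCoeff_eq f n]; group

theorem taylorProd_mem_polySeq (K i : ℕ) (c : ℕ → G) (m : ℕ) (hc : ∀ k < m, c k ∈ F (i + k)) :
    (fun n => taylorProd c m n) ∈ (polySeq h K).1 i := by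
  induction m with
  | zero => exact one_mem _
  | succ m ih =>
    have : (fun n => taylorProd c (m + 1) n) =
        (fun n => taylorProd c m n) * fun n => c m ^ n.choose m := by
      funext n; simp [taylorProd_succ]
    rw [this]
    exact mul_mem (ih fun k hk => hc k (by omega))
      (pow_choose_mem_polySeq h K i m _ (hc m (by omega)))

theorem taylorCoeff_mem (i : ℕ) (f : ℕ → G) (hf : ∀ K, f ∈ (polySeq h K).1 i) (k : ℕ) :
    taylorCoeff f k ∈ F (i + k) := by
  induction k using Nat.strong_induction_on with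
  | _ k ih =>
    have h1 := taylorProd_mem_polySeq h k i (taylorCoeff f) k ih
    have h2 := first_value_mem h k i _ (mul_mem (inv_mem h1) (hf k)) (by
      intro n hn
      simp only [Pi.mul_apply, Pi.inv_apply]
      rw [taylorProd_of_lt _ _ _ hn, ← taylor_expand]; simp)
    rw [taylorCoeff_eq]
    exact h2

end Poly

section HP

variable {G : Type*} [Group G]

/-- The lower central series of `H`, reindexed so that positions `0` and `1` are both `H`. -/
theorem lcs_isFiltration (H : Subgroup G) :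
    IsFiltration (fun i => H.lowerCentralSeries (i - 1)) where
  anti := fun _ _ hij => H.lowerCentralSeries_antitone (by omega)
  comm := fun i j =>
    (commutator_lcs_le H _ _).trans (H.lowerCentralSeries_antitone (by omega))

/-- **Hall-Petrescu formula** for a filtration: `x^n y^n = ∏_{k ≤ n} c_k ^ C(n,k)` with
`c_0 = 1`, `c_1 = x y` and `c_k ∈ F k`. -/
theorem hall_petrescu_filtration {F : ℕ → Subgroup G} (h : IsFiltration F) {x y : G}
    (hx : x ∈ F 1) (hy : y ∈ F 1) :
    ∃ c : ℕ → G, c 0 = 1 ∧ c 1 = x * y ∧ (∀ k, c k ∈ F k) ∧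
      ∀ n, x ^ n * y ^ n = taylorProd c (n + 1) n := by
  refine ⟨taylorCoeff (fun n => x ^ n * y ^ n), ?_, ?_, ?_, ?_⟩
  · rw [taylorCoeff_eq]; simp [taylorProd]
  · rw [taylorCoeff_eq, taylorProd_succ, taylorCoeff_eq]; simp [taylorProd]
  · intro k
    have := taylorCoeff_mem h 0 (fun n => x ^ n * y ^ n) (fun K => by
      have h1 := pow_choose_mem_polySeq h K 0 1 x (by simpa using hx)
      have h2 := pow_choose_mem_polySeq h K 0 1 y (by simpa using hy)
      simp only [Nat.choose_one_right] at h1 h2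
      exact mul_mem h1 h2) k
    simpa using this
  · intro n; exact taylor_expand (fun n => x ^ n * y ^ n) n

/-- **Hall-Petrescu formula**: for `x, y ∈ H`, `x^n y^n = ∏_{k ≤ n} c_k ^ C(n,k)` with
`c_0 = 1`, `c_1 = x y` and `c_k ∈ γ_k(H)` (which is `H.lowerCentralSeries (k-1)`). -/
theorem hall_petrescu (H : Subgroup G) {x y : G} (hx : x ∈ H) (hy : y ∈ H) :
    ∃ c : ℕ → G, c 0 = 1 ∧ c 1 = x * y ∧ (∀ k, c k ∈ H.lowerCentralSeries (k - 1)) ∧
      ∀ n, x ^ n * y ^ n = taylorProd c (n + 1) n :=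
  hall_petrescu_filtration (lcs_isFiltration H) hx hy

/-- If all the higher terms `c_k ^ C(n,k)`, `2 ≤ k < m`, lie in `N`, the Taylor product is
`c_1 ^ n` times an element of `N`. -/
theorem taylorProd_eq_mul_mem (c : ℕ → G) (h0 : c 0 = 1) (n : ℕ) (N : Subgroup G) (m : ℕ)
    (hm : 2 ≤ m) (hN : ∀ k, 2 ≤ k → k < m → c k ^ n.choose k ∈ N) :
    (c 1 ^ n)⁻¹ * taylorProd c m n ∈ N := by
  induction m, hm using Nat.le_induction with
  | base => simp [taylorProd_succ, taylorProd_zero, h0]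
  | succ m hm ih =>
    rw [taylorProd_succ, ← mul_assoc]
    exact N.mul_mem (ih fun k h1 h2 => hN k h1 (by omega)) (hN m hm (by omega))

/-- Hall-Petrescu modulo a subgroup `N` containing all `C(n,k)`-th powers of elements of
`γ_k(H)`, `2 ≤ k ≤ n`. -/
theorem pow_mul_pow_mod (H N : Subgroup G) {x y : G} (hx : x ∈ H) (hy : y ∈ H) (n : ℕ)
    (hN : ∀ k, 2 ≤ k → k ≤ n → ∀ g ∈ H.lowerCentralSeries (k - 1), g ^ n.choose k ∈ N) :
    ((x * y) ^ n)⁻¹ * (x ^ n * y ^ n) ∈ N := by
  obtain ⟨c, h0, h1, hc, hn⟩ := hall_petrescu H hx hy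
  rcases Nat.eq_zero_or_pos n with rfl | hpos
  · simp
  rw [hn, ← h1]
  exact taylorProd_eq_mul_mem c h0 n N (n + 1) (by omega)
    (fun k h2 h3 => hN k h2 (by omega) _ (hc k))

end HP

end Cfsg.Agent.H7
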