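/-
Arithmetic for the principal block of a group with a Sylow subgroup of prime order.
-/
import Mathlib

set_option autoImplicit false

namespace Cfsg.Agent.H7.PCl

open Finset

/-- The degree of a non-exceptional character. -/
theorem deg_nonexc {p e t k : ℤ} (hp : Prime p) (hp0 : 0 < p) (he : 1 ≤ e) (het : e * t + 1 = p)
    (hk : 1 ≤ k) (hL : 2 * (e * (k * p + 1)) < p ^ 2 - 1) {γ b : ℤ} (hγ0 : γ ≠ 0)
    (hγ : γ ^ 2 ≤ e) (hb : 1 ≤ b) (hbγ : 0 ≤ b + γ)
    (hdvd : b * p + γ ∣ p * (e * (k * p + 1)) * γ) : b * p + γ = γ * (k * p + 1) := by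
  have hp2 : 2 ≤ p := by
    have := Int.natAbs_of_nonneg hp0.le
    have h2 := (Int.prime_iff_natAbs_prime.mp hp).two_le
    omega
  have hkp : p ≤ k * p := by nlinarith
  have h2e : 2 * e < p - 1 := by
    by_contra h
    push Not at h
    nlinarith
  have hek : 2 * (e * k) < p := by
    by_contra h
    push Not at h
    nlinarith
  have ht : 3 ≤ t := by
    by_contra h
    push Not at h
    nlinarith
  have hγe : -e ≤ γ ∧ γ ≤ e := by constructor <;> nlinarith
  have hpγ : ¬ p ∣ γ := fun h => by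
    have := Int.le_of_dvd (abs_pos.mpr hγ0) ((dvd_abs _ _).mpr h)
    rcases abs_cases γ with h' | h' <;> omega
  have hcop : IsCoprime (b * p + γ) p := by
    rw [add_comm, IsCoprime.add_mul_right_left_iff]
    exact ((Prime.coprime_iff_not_dvd hp).mpr hpγ).symm
  rw [mul_assoc] at hdvd
  obtain ⟨w, hw⟩ := hcop.dvd_of_dvd_mul_left hdvd
  have hd0 : 0 < b * p + γ := by nlinarith
  -- `w ≡ e` modulo `p`
  have hmod : p ∣ w - e := by
    have : p ∣ γ * (w - e) := ⟨e * k * γ - b * w, by linear_combination -hw⟩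
    exact (hp.dvd_or_dvd this).resolve_left hpγ
  obtain ⟨s, hs⟩ := hmod
  have hw' : w = e + s * p := by linear_combination hs
  subst hw'
  have key : b * (e + s * p) = γ * (e * k - s) := by
    have : p * (b * (e + s * p)) = p * (γ * (e * k - s)) := by linear_combination -hw
    exact mul_left_cancel₀ hp0.ne' this
  rcases lt_or_gt_of_ne hγ0 with hneg | hpos
  · exfalso
    have hL0 : 0 < e * (k * p + 1) := by positivity
    have hw0 : e + s * p < 0 := by
      by_contra h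
      push Not at h
      nlinarith [mul_nonneg hd0.le h]
    have hs0 : s ≤ -1 := by
      by_contra h
      push Not at h
      nlinarith
    have h1 : -γ * (p - 1) ≤ b * p + γ := by nlinarith
    have h2 : p - e ≤ -(e + s * p) := by nlinarith
    have h3 : -γ * (p - 1) * (p - e) ≤ (b * p + γ) * -(e + s * p) :=
      mul_le_mul h1 h2 (by omega) hd0.le
    have h4 : -γ * ((p - 1) * (p - e)) ≤ -γ * (e * (k * p + 1)) := by linarith
    have h5 := le_of_mul_le_mul_left h4 (by omega)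
    nlinarith
  · have hL0 : 0 < e * (k * p + 1) := by positivity
    have hw0 : 0 < e + s * p := by
      by_contra h
      push Not at h
      nlinarith [mul_nonpos_of_nonneg_of_nonpos hd0.le h]
    have hs0 : 0 ≤ s := by
      by_contra h
      push Not at h
      nlinarith
    rcases hs0.eq_or_lt with rfl | hs1
    · have : e * (b * p + γ) = e * (γ * (k * p + 1)) := by linear_combination -hw
      exact mul_left_cancel₀ (by omega) this
    exfalso
    have hX : 0 < e * k - s := by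
      by_contra h
      push Not at h
      nlinarith [mul_nonpos_of_nonneg_of_nonpos hpos.le h]
    -- `w ≤ γ * (ek - s)` gives `γ > 2 s`
    have h1 : e + s * p ≤ γ * (e * k - s) := by nlinarith
    have h2 : 2 * s < γ := by
      by_contra h
      push Not at h
      nlinarith
    -- `w` divides `γ * s * (s t + k + 1)`
    set Z := s * t + k + 1 with hZ
    have hZ0 : 0 < Z := by positivity
    have hdv : e + s * p ∣ γ * (s * Z) := by
      have a1 : e + s * p ∣ γ * (e * k - s) := ⟨b, by rw [← key]; ring⟩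
      have a2 : e + s * p ∣ γ * (e * Z) := by
        have : γ * (e * Z) = γ * (e + s * p) + γ * (e * k - s) := by
          rw [hZ, ← het]; ring
        rw [this]
        exact dvd_add (dvd_mul_left _ _) a1
      have : γ * (s * Z) = k * (γ * (e * Z)) - γ * (e * k - s) * Z := by ring
      rw [this]
      exact dvd_sub (a2.mul_left _) (a1.mul_right _)
    have h3 := Int.le_of_dvd (by positivity) hdv
    have hkt : 2 * k ≤ t := by
      by_contra h
      push Not at h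
      nlinarith
    have hZ' : Z ≤ (s + 1) * t := by rw [hZ]; nlinarith
    have h4 : s * (e * t) < s * (γ * ((s + 1) * t)) := by
      have : γ * (s * Z) ≤ γ * (s * ((s + 1) * t)) := by gcongr
      nlinarith
    have h5 := lt_of_mul_lt_mul_left h4 hs0
    have h6 : e < γ * (s + 1) := by
      by_contra h
      push Not at h
      nlinarith
    have h7 : γ * γ < γ * (s + 1) := by rw [← sq]; omega
    have h8 := lt_of_mul_lt_mul_left h7 hpos.le
    omega

/-- An integer vector of norm two orthogonal to positive degrees. -/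
theorem deg_eq_of_norm_two {B : Type*} {sB : Finset B} {f : B → ℤ} {d : B → ℕ}
    (h2 : ∑ χ ∈ sB, f χ ^ 2 = 2) (h0 : ∑ χ ∈ sB, f χ * d χ = 0) (hpos : ∀ χ ∈ sB, 0 < d χ)
    {χ ψ : B} (hχ : χ ∈ sB) (hψ : ψ ∈ sB) (h1 : f χ ≠ 0) (h1' : f ψ ≠ 0) : d χ = d ψ := by
  classical
  by_cases hne : χ = ψ
  · rw [hne]
  have hsub : ({χ, ψ} : Finset B) ⊆ sB := by
    intro x hx
    rcases mem_insert.mp hx with rfl | hx
    · exact hχ
    · rw [mem_singleton.mp hx]; exact hψ
  rw [← sum_sdiff hsub, sum_pair hne] at h2 h0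
  have a1 : 1 ≤ f χ ^ 2 := by have := sq_pos_of_ne_zero h1; omega
  have a2 : 1 ≤ f ψ ^ 2 := by have := sq_pos_of_ne_zero h1'; omega
  have a3 : 0 ≤ ∑ x ∈ sB \ {χ, ψ}, f x ^ 2 := sum_nonneg fun _ _ => sq_nonneg _
  have a4 : ∑ x ∈ sB \ {χ, ψ}, f x ^ 2 = 0 := by omega
  rw [sum_eq_zero_iff_of_nonneg fun _ _ => sq_nonneg _] at a4
  rw [sum_eq_zero fun x hx => by rw [pow_eq_zero_iff two_ne_zero |>.mp (a4 x hx), zero_mul]] at h0
  have b1 : f χ ^ 2 = 1 := by omega
  have b2 : f ψ ^ 2 = 1 := by omega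
  have c1 := hpos χ hχ
  have c2 := hpos ψ hψ
  rcases sq_eq_one_iff.mp b1 with e1 | e1 <;>
    rcases sq_eq_one_iff.mp b2 with e2 | e2 <;> rw [e1, e2] at h0 <;> omega

/-- The numerical data of the principal block are contradictory. -/
theorem no_block {B Λ : Type*} (sB : Finset B) (sΛ : Finset Λ) (r : Λ → Λ → Prop)
    [DecidableRel r] {p e t k : ℕ} (hp : p.Prime) (het : e * t + 1 = p) (he : 2 ≤ e) (hk : 1 ≤ k)
    (hL : 2 * (e * (k * p + 1)) + 1 < p ^ 2) (hΛ : sΛ.card + 1 = p)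
    (hrefl : ∀ l ∈ sΛ, r l l) (hcl : ∀ l ∈ sΛ, (sΛ.filter (r l)).card = e)
    (d a : B → ℕ) (m : B → Λ → ℕ) (hd : ∀ χ ∈ sB, d χ = a χ + ∑ l ∈ sΛ, m χ l)
    (hgram : ∀ l ∈ sΛ, ∀ l' ∈ sΛ, ∑ χ ∈ sB, ((m χ l : ℤ) - a χ) * ((m χ l' : ℤ) - a χ) =
      e + if r l l' then 1 else 0)
    (hdeg : ∀ l ∈ sΛ, ∑ χ ∈ sB, ((m χ l : ℤ) - a χ) * d χ = 0)
    (hdvd : ∀ χ ∈ sB, ∀ l ∈ sΛ, (d χ : ℤ) ∣ p * (e * (k * p + 1)) * ((m χ l : ℤ) - a χ))
    (hpos : ∀ χ ∈ sB, 0 < d χ) (o : B) (ho : o ∈ sB) (hao : a o = 1) (hmo : ∀ l ∈ sΛ, m o l = 0)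
    (hker : ∀ χ ∈ sB, χ ≠ o → ∃ l ∈ sΛ, m χ l ≠ 0) : False := by
  classical
  set x : B → Λ → ℤ := fun χ l => (m χ l : ℤ) - a χ with hx
  have hgram' : ∀ l ∈ sΛ, ∀ l' ∈ sΛ, ∑ χ ∈ sB, x χ l * x χ l' = e + if r l l' then 1 else 0 :=
    hgram
  have hdeg' : ∀ l ∈ sΛ, ∑ χ ∈ sB, x χ l * d χ = 0 := hdeg
  have hdvd' : ∀ χ ∈ sB, ∀ l ∈ sΛ, (d χ : ℤ) ∣ p * (e * (k * p + 1)) * x χ l := hdvd
  have hp2 := hp.two_le
  have h2e : 2 * e + 1 < p := by
    by_contra h
    push Not at h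
    have : p ≤ k * p := Nat.le_mul_of_pos_left _ hk
    nlinarith
  -- two inequivalent labels
  obtain ⟨l1, hl1⟩ : sΛ.Nonempty := card_pos.mp (by omega)
  obtain ⟨l2, hl2, h12⟩ : ∃ l2 ∈ sΛ, ¬ r l1 l2 := by
    by_contra h
    push Not at h
    have := hcl l1 hl1
    rw [filter_true_of_mem h] at this
    omega
  have hinner : ∀ l ∈ sΛ, ∀ l' ∈ sΛ, ∑ χ ∈ sB, (x χ l1 - x χ l) * (x χ l1 - x χ l') =
      1 - (if r l1 l' then 1 else 0) - (if r l1 l then 1 else 0) + if r l l' then 1 else 0 := by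
    intro l hl l' hl'
    have : ∑ χ ∈ sB, (x χ l1 - x χ l) * (x χ l1 - x χ l') = ∑ χ ∈ sB, x χ l1 * x χ l1 -
        ∑ χ ∈ sB, x χ l1 * x χ l' - ∑ χ ∈ sB, x χ l1 * x χ l + ∑ χ ∈ sB, x χ l * x χ l' := by
      rw [← sum_sub_distrib, ← sum_sub_distrib, ← sum_add_distrib]
      exact sum_congr rfl fun _ _ => by ring
    rw [this, hgram' _ hl1 _ hl1, hgram' _ hl1 _ hl', hgram' _ hl1 _ hl, hgram' _ hl _ hl',
      if_pos (hrefl _ hl1)]
    ring
  have hconst : ∀ l ∈ sΛ, r l1 l → ∀ χ ∈ sB, x χ l1 = x χ l := by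
    intro l hl hr χ hχ
    have := hinner l hl l hl
    rw [if_pos hr, if_pos (hrefl _ hl)] at this
    simp only [← sq, sub_self, zero_sub, neg_add_cancel] at this
    rw [sum_eq_zero_iff_of_nonneg fun _ _ => sq_nonneg _] at this
    exact sub_eq_zero.mp (pow_eq_zero_iff two_ne_zero |>.mp (this χ hχ))
  have hnorm : ∀ l ∈ sΛ, ¬ r l1 l → ∑ χ ∈ sB, (x χ l1 - x χ l) ^ 2 = 2 := by
    intro l hl hr
    have := hinner l hl l hl
    rw [if_neg hr, if_pos (hrefl _ hl)] at this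
    simp only [← sq] at this
    rw [this]; norm_num
  have hdeg2 : ∀ l ∈ sΛ, ∑ χ ∈ sB, (x χ l1 - x χ l) * d χ = 0 := by
    intro l hl
    simp only [sub_mul, sum_sub_distrib, hdeg' _ hl1, hdeg' _ hl, sub_zero]
  -- the exceptional characters
  let Ex := sB.filter fun χ => ∃ l ∈ sΛ, x χ l1 ≠ x χ l
  obtain ⟨θ, hθ, hθ2⟩ : ∃ θ ∈ sB, x θ l1 - x θ l2 ≠ 0 := by
    by_contra h
    push Not at h
    have := hnorm l2 hl2 h12
    rw [sum_eq_zero fun χ hχ => by rw [h χ hχ]; norm_num] at this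
    norm_num at this
  have hD : ∀ χ ∈ Ex, d χ = d θ := by
    intro χ hχ
    obtain ⟨hχ, l, hl, hne⟩ := mem_filter.mp hχ
    have hr : ¬ r l1 l := fun hr => hne (hconst l hl hr χ hχ)
    obtain ⟨ψ, hψ, hψ0⟩ : ∃ ψ ∈ sB, (x ψ l1 - x ψ l) * (x ψ l1 - x ψ l2) ≠ 0 := by
      by_contra h
      push Not at h
      have := hinner l hl l2 hl2
      rw [sum_eq_zero h, if_neg h12, if_neg hr] at this
      split_ifs at this <;> omega
    rw [deg_eq_of_norm_two (hnorm l hl hr) (hdeg2 l hl) hpos hχ hψ (sub_ne_zero.mpr hne)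
      (left_ne_zero_of_mul hψ0),
      deg_eq_of_norm_two (hnorm l2 hl2 h12) (hdeg2 l2 hl2) hpos hψ hθ
      (right_ne_zero_of_mul hψ0) hθ2]
  have hoEx : o ∉ Ex := fun h => by
    obtain ⟨-, l, hl, hne⟩ := mem_filter.mp h
    exact hne (by simp only [hx, hmo _ hl, hmo _ hl1])
  have hxo : x o l1 = -1 := by simp only [hx, hmo _ hl1, hao]; norm_num
  have hdo : d o = 1 := by rw [hd o ho, hao, sum_eq_zero hmo, add_zero]
  let R := (sB.filter fun χ => ¬ ∃ l ∈ sΛ, x χ l1 ≠ x χ l).erase o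
  have hsplit : ∀ f : B → ℤ, ∑ χ ∈ sB, f χ = ∑ χ ∈ Ex, f χ + (f o + ∑ χ ∈ R, f χ) := fun f => by
    rw [add_sum_erase _ _ (mem_filter.mpr ⟨ho, fun h => hoEx (mem_filter.mpr ⟨ho, h⟩)⟩),
      sum_filter_add_sum_filter_not]
  set S := ∑ χ ∈ R, x χ l1 ^ 2 with hS
  have hS0 : 0 ≤ S := sum_nonneg fun _ _ => sq_nonneg _
  have hSe : S ≤ e := by
    have := hgram' _ hl1 _ hl1
    rw [hsplit, if_pos (hrefl _ hl1), hxo] at this
    simp only [← sq] at this
    have h0 : 0 ≤ ∑ χ ∈ Ex, x χ l1 ^ 2 := sum_nonneg fun _ _ => sq_nonneg _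
    linarith
  have hR : ∀ χ ∈ R, x χ l1 * d χ = -((k * p + 1) * x χ l1 ^ 2) := by
    intro χ hχ
    obtain ⟨hne, hχ'⟩ := mem_erase.mp hχ
    obtain ⟨hχB, hc⟩ := mem_filter.mp hχ'
    push Not at hc
    by_cases h0 : x χ l1 = 0
    · rw [h0]; ring
    have hm : ∀ l ∈ sΛ, m χ l = m χ l1 := fun l hl => by
      have := hc l hl
      simp only [hx] at this
      omega
    obtain ⟨l, hl, hml⟩ := hker χ hχB hne
    have hdχ : (d χ : ℤ) = m χ l1 * p + -x χ l1 := by
      rw [hd χ hχB, sum_congr rfl hm, sum_const, smul_eq_mul, ← hΛ]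
      simp only [hx]
      push_cast
      ring
    have := deg_nonexc (p := p) (e := e) (t := t) (k := k) (γ := -x χ l1) (b := m χ l1)
      (Nat.prime_iff_prime_int.mp hp) (by omega) (by omega) (by exact_mod_cast het) (by omega)
      (by have : ((2 * (e * (k * p + 1)) + 1 : ℕ) : ℤ) < (p ^ 2 : ℕ) := by exact_mod_cast hL
          push_cast at this; linarith)
      (neg_ne_zero.mpr h0)
      (by rw [neg_sq]
          exact (single_le_sum (f := fun χ => x χ l1 ^ 2) (fun _ _ => sq_nonneg _) hχ).trans hSe)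
      (by rw [hm l hl] at hml; omega) (by simp only [hx]; omega)
      (by rw [← hdχ, mul_neg]; exact (dvd_neg).mpr (hdvd' χ hχB _ hl1))
    rw [hdχ, this]
    ring
  set y := ∑ χ ∈ Ex, x χ l1 with hy
  have hmain : (d θ : ℤ) * y = 1 + (k * p + 1) * S := by
    have := hdeg' _ hl1
    rw [hsplit, sum_congr rfl hR, hxo, hdo, sum_congr rfl fun χ hχ => by rw [hD χ hχ],
      ← sum_mul, sum_neg_distrib, ← mul_sum] at this
    push_cast at this
    linear_combination this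
  -- the exceptional degree divides `e`
  have hDe : (d θ : ℤ) ∣ e := by
    have h1 : (x θ l1 - x θ l2) ^ 2 = 1 := by
      have a1 : (x θ l1 - x θ l2) ^ 2 ≤ 2 := by
        rw [← hnorm l2 hl2 h12]
        exact single_le_sum (f := fun χ => (x χ l1 - x χ l2) ^ 2) (fun _ _ => sq_nonneg _) hθ
      have a2 : -1 ≤ x θ l1 - x θ l2 ∧ x θ l1 - x θ l2 ≤ 1 := by constructor <;> nlinarith
      have a3 : x θ l1 - x θ l2 = 1 ∨ x θ l1 - x θ l2 = -1 := by omega
      rcases a3 with h | h <;> rw [h] <;> norm_num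
    have h2 : (d θ : ℤ) ∣ p * (e * (k * p + 1)) := by
      have := ((hdvd' θ hθ _ hl1).sub (hdvd' θ hθ _ hl2)).mul_right (x θ l1 - x θ l2)
      rwa [← mul_sub, mul_assoc, ← sq, h1, mul_one] at this
    have h3 : IsCoprime (d θ : ℤ) (k * p + 1) := ⟨y, -S, by linear_combination hmain⟩
    have h4 : IsCoprime (d θ : ℤ) p := by
      refine ((Prime.coprime_iff_not_dvd (Nat.prime_iff_prime_int.mp hp)).mpr fun h => ?_).symm
      have : (p : ℤ) ∣ 1 + S := by
        have h5 : 1 + S = d θ * y - p * (k * S) := by linear_combination -hmain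
        rw [h5]
        exact dvd_sub (h.mul_right _) (dvd_mul_right _ _)
      have := Int.le_of_dvd (by omega) this
      omega
    exact h3.dvd_of_dvd_mul_right (h4.dvd_of_dvd_mul_left h2)
  have hDle : d θ ≤ e := by exact_mod_cast Int.le_of_dvd (by omega) hDe
  have hclass : ∀ l ∈ sΛ, ∀ l' ∈ sΛ, r l l' → ∀ χ ∈ sB, m χ l' = m χ l := by
    intro l hl l' hl' hr χ hχ
    have : ∑ χ ∈ sB, (x χ l - x χ l') ^ 2 = ∑ χ ∈ sB, x χ l * x χ l -
        2 * ∑ χ ∈ sB, x χ l * x χ l' + ∑ χ ∈ sB, x χ l' * x χ l' := by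
      rw [mul_sum, ← sum_sub_distrib, ← sum_add_distrib]
      exact sum_congr rfl fun _ _ => by ring
    rw [hgram' _ hl _ hl, hgram' _ hl _ hl', hgram' _ hl' _ hl', if_pos hr, if_pos (hrefl _ hl),
      if_pos (hrefl _ hl'), show (e : ℤ) + 1 - 2 * (e + 1) + (e + 1) = 0 by ring,
      sum_eq_zero_iff_of_nonneg fun _ _ => sq_nonneg _] at this
    have h5 := sub_eq_zero.mp (pow_eq_zero_iff two_ne_zero |>.mp (this χ hχ))
    simp only [hx] at h5
    omega
  have hlow : ∀ χ ∈ sB, ∀ l ∈ sΛ, d χ = a χ + e * m χ l + ∑ l' ∈ sΛ.filter (¬ r l ·), m χ l' := by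
    intro χ hχ l hl
    rw [hd χ hχ, ← sum_filter_add_sum_filter_not sΛ (r l), sum_congr rfl fun l' hl' =>
      hclass l hl l' (mem_filter.mp hl').1 (mem_filter.mp hl').2 χ hχ, sum_const, hcl l hl,
      smul_eq_mul, add_assoc]
  have hy2 : y ≤ 2 := by
    rw [← hnorm l2 hl2 h12]
    refine le_trans (sum_le_sum fun χ hχ => ?_) (sum_le_sum_of_subset_of_nonneg
      (filter_subset _ _) fun _ _ _ => sq_nonneg _)
    have hχB := (mem_filter.mp hχ).1
    rcases Nat.eq_zero_or_pos (m χ l1) with h0 | h0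
    · refine le_trans ?_ (sq_nonneg _)
      simp only [hx, h0]
      omega
    · have h1 := hlow χ hχB l1 hl1
      rw [hD χ hχ] at h1
      have h2 : m χ l2 ≤ ∑ l' ∈ sΛ.filter (¬ r l1 ·), m χ l' :=
        single_le_sum (f := m χ) (fun _ _ => Nat.zero_le _) (mem_filter.mpr ⟨hl2, h12⟩)
      have h3 : e ≤ e * m χ l1 := Nat.le_mul_of_pos_right _ h0
      have h4 : m χ l1 = 1 := by
        by_contra h
        have : e * 2 ≤ e * m χ l1 := Nat.mul_le_mul_left _ (by omega)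
        omega
      simp only [hx, h4, show a χ = 0 by omega, show m χ l2 = 0 by omega]
      norm_num
  have hDge : e ≤ d θ := by
    have hθo : θ ≠ o := fun h => hθ2 (by simp only [h, hx, hmo _ hl1, hmo _ hl2, sub_self])
    obtain ⟨l, hl, hml⟩ := hker θ hθ hθo
    have h1 := hlow θ hθ l hl
    have h3 : e ≤ e * m θ l := Nat.le_mul_of_pos_right _ (by omega)
    omega
  have hDeq : (d θ : ℤ) = e := by omega
  rw [hDeq] at hmain
  have hkp : (p : ℤ) ≤ k * p := by exact_mod_cast Nat.le_mul_of_pos_left _ hk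
  rcases hS0.eq_or_lt with h0 | h0
  · rw [← h0, mul_zero, add_zero] at hmain
    have := Int.eq_one_of_mul_eq_one_right (by omega) hmain
    omega
  · have h1 : (e : ℤ) * y ≤ e * 2 := by gcongr
    have h2 : (k * p + 1 : ℤ) * 1 ≤ (k * p + 1) * S := by gcongr; omega
    omega

end Cfsg.Agent.H7.PCl
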