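/-
The principal block of a group with a Sylow subgroup of prime order.
-/
import Cfsg.Agent.P1.Block
import Cfsg.Agent.P1.Frob
import Cfsg.Agent.H7.PClA

set_option autoImplicit false

namespace Cfsg.Agent.H7.PCl

open Subgroup Cfsg Cfsg.Agent Cfsg.Agent.FT Cfsg.Agent.P1
open scoped ComplexConjugate

universe u

variable {G : Type u} [Group G] [Finite G] {p : ℕ}

theorem sum_coset_B0 (hp : p.Prime) {u : G} (hu : u ^ p = 1) {M : Subgroup G} {k : ℕ}
    (hM : M ⊲ 𝐂[u]) (hc : (𝐨(M)).Coprime p) (hk : M.relIndex 𝐂[u] = p ^ k) {χ : G → ℂ}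
    (hχ : χ ∈ Irr ⊤) [Decidable (χ ∈ B0 p ⊤)] :
    ∑ y ∈ fs (M : Set G), χ (y * u) = if χ ∈ B0 p ⊤ then 𝐨(M) * χ u else 0 := by
  classical
  have huC : u ∈ 𝐂[u] := mem_centralizer_singleton_iff.mpr rfl
  have h1 := B0_second hp (K := ⊤) (u := u) (y := 1) (k := 1) (mem_top u) (by rwa [pow_one])
    (one_mem_regSet _ _) hχ
  rw [top_inf_eq, mul_one, B0_eq_irrKer hp hM hc hk] at h1
  have h2 : ∀ y ∈ (M : Set G), χ (y * u) = ∑ φ ∈ Irr 𝐂[u], ip 𝐂[u] χ φ * φ (y * u) := by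
    intro y hy
    have := apply_eq_sum_irr (res_mem_CF le_top (irr_mem_CF hχ) : res 𝐂[u] χ ∈ _) (y * u)
    rw [res_of_mem _ (mul_mem (hM.1 hy) huC)] at this
    simpa only [ip_res_left] using this
  rw [sum_fs_congr h2, Finset.sum_comm]
  simp only [← Finset.mul_sum]
  rw [Finset.sum_congr rfl fun φ hφ => by rw [sum_coset hM hφ u]]
  have h3 : ∑ φ ∈ Irr 𝐂[u], ip 𝐂[u] χ φ * (if M ≤ cfKer φ then (𝐨(M) : ℂ) * φ u else 0) =
      𝐨(M) * ∑ φ ∈ irrKer 𝐂[u] M, ip 𝐂[u] χ φ * φ u := by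
    rw [irrKer, Finset.sum_filter, Finset.mul_sum]
    refine Finset.sum_congr rfl fun φ _ => ?_
    split_ifs <;> ring
  rw [h3, h1]
  split_ifs <;> simp

omit [Finite G] in
theorem orderOf_eq_of_mem (hp : p.Prime) {P : Subgroup G} (hP : 𝐨(P) = p) {u : G} (hu : u ∈ P)
    (h1 : u ≠ 1) : orderOf u = p :=
  ((Nat.dvd_prime hp).mp (hP ▸ orderOf_dvd_natCard P hu)).resolve_left
    (mt orderOf_eq_one_iff.mp h1)

theorem zpowers_eq_of_mem (hp : p.Prime) {P : Subgroup G} (hP : 𝐨(P) = p) {u : G} (hu : u ∈ P)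
    (h1 : u ≠ 1) : zpowers u = P :=
  eq_of_le_of_card_ge (zpowers_le.mpr hu)
    (by rw [Nat.card_zpowers, orderOf_eq_of_mem hp hP hu h1, hP])

theorem cent_eq_of_mem (hp : p.Prime) {P : Subgroup G} (hP : 𝐨(P) = p) {u : G} (hu : u ∈ P)
    (h1 : u ≠ 1) : 𝐂[u] = 𝐂(P) := by
  rw [← zpowers_eq_of_mem hp hP hu h1, zpowers_eq_closure, centralizer_closure]

theorem mem_norm_of_conj (hp : p.Prime) {P : Subgroup G} (hP : 𝐨(P) = p) {u v g : G} (hu : u ∈ P)
    (hv : v ∈ P) (h1 : u ≠ 1) (h : g * v * g⁻¹ = u) : g ∈ 𝐍(P) := by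
  have hv1 : v ≠ 1 := fun e => h1 (by rw [← h, e]; simp)
  refine mem_normalizer_fintype fun x hx => ?_
  rw [← zpowers_eq_of_mem hp hP hv hv1] at hx
  obtain ⟨n, rfl⟩ := hx
  simp only [SetLike.mem_coe]
  rw [← conj_zpow, h]
  exact zpow_mem hu n

theorem sum_B0_mul_conj (hp : p.Prime) {P M : Subgroup G} (hP : 𝐨(P) = p) (hM : M ⊲ 𝐂(P))
    (hc : (𝐨(M)).Coprime p) (hk : M.relIndex 𝐂(P) = p) {u v : G} (hu : u ∈ P) (hv : v ∈ P)
    (h1 : u ≠ 1) (h1' : v ≠ 1) [Decidable (∃ g, g * v * g⁻¹ = u)] :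
    ∑ χ ∈ B0 p ⊤, χ u * conj (χ v) = if ∃ g, g * v * g⁻¹ = u then (p : ℂ) else 0 := by
  classical
  have hCu := cent_eq_of_mem hp hP hu h1
  have hCv := cent_eq_of_mem hp hP hv h1'
  have hup : u ^ p = 1 := by rw [← orderOf_eq_of_mem hp hP hu h1, pow_orderOf_eq_one]
  have hvp : v ^ p = 1 := by rw [← orderOf_eq_of_mem hp hP hv h1', pow_orderOf_eq_one]
  have e1 : (𝐨(M) : ℂ) * ∑ χ ∈ B0 p ⊤, χ u * conj (χ v) =
      ∑ χ ∈ Irr ⊤, (∑ y ∈ fs (M : Set G), χ (y * u)) * conj (χ v) := by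
    have e0 : ∀ χ ∈ Irr (⊤ : Subgroup G), ∑ y ∈ fs (M : Set G), χ (y * u) =
        if χ ∈ B0 p ⊤ then 𝐨(M) * χ u else 0 := fun χ hχ =>
      sum_coset_B0 hp hup (k := 1) (hCu ▸ hM) hc (by rw [hCu, hk, pow_one]) hχ
    rw [← Finset.sum_subset (B0_subset p ⊤) fun χ hχ h => by rw [e0 χ hχ, if_neg h, zero_mul],
      Finset.mul_sum]
    exact Finset.sum_congr rfl fun χ hχ => by
      rw [e0 χ (B0_subset _ _ hχ), if_pos hχ, mul_assoc]
  simp only [Finset.sum_mul] at e1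
  rw [Finset.sum_comm, Finset.sum_eq_single (1 : G), one_mul, sum_irr_mul_conj (mem_top _) (mem_top _),
    top_inf_eq, hCv, ← H1.card_mul_relIndex hM.1, hk] at e1
  · refine mul_left_cancel₀ (card_ne_zero_C M) ?_
    rw [e1]
    simp only [mem_top, true_and]
    split_ifs <;> simp
  · intro y hy hy1
    rw [sum_irr_mul_conj (mem_top _) (mem_top _), if_neg]
    rintro ⟨g, -, hg⟩
    have hyM : y ∈ M := mem_fs.mp hy
    have hcomm : Commute y u := (mem_centralizer_iff.mp (hM.1 hyM) u hu).symm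
    have h2 : (y * u) ^ p = 1 := by rw [← hg, conj_pow, hvp]; simp
    rw [hcomm.mul_pow, hup, mul_one] at h2
    exact hy1 (orderOf_eq_one_iff.mp (Nat.eq_one_of_dvd_coprimes hc
      (orderOf_dvd_natCard M hyM) (orderOf_dvd_of_pow_eq_one h2)))
  · exact fun h => (h (mem_fs.mpr (one_mem M))).elim

open Classical in
theorem count_conj (hp : p.Prime) {P : Subgroup G} (hP : 𝐨(P) = p) {u v : G} (hu : u ∈ P)
    (hv : v ∈ P) (h1 : u ≠ 1) :
    ∑ g ∈ fs (𝐍(P) : Set G), (if g * v * g⁻¹ = u then (1 : ℂ) else 0) =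
      if ∃ g, g * v * g⁻¹ = u then (𝐨(𝐂(P)) : ℂ) else 0 := by
  split_ifs with h
  · obtain ⟨g, hg⟩ := h
    have hv1 : v ≠ 1 := fun e => h1 (by rw [← hg, e]; simp)
    rw [← sum_fs_mul_left (mem_norm_of_conj hp hP hu hv h1 hg),
      ← sum_fs_subset (A := (𝐂(P) : Set G)) (centralizer_le_normalizer _),
      sum_fs_congr (g := fun _ => 1), sum_fs_const, nsmul_eq_mul, mul_one]
    · intro x hx
      rw [if_pos]
      rw [← hg, mul_assoc g x v, ← mem_centralizer_iff.mp hx v hv]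
      group
    · intro x _ hx
      rw [if_neg]
      intro e
      apply hx
      rw [← cent_eq_of_mem hp hP hv hv1]
      refine mem_centralizer_singleton_iff.mpr ?_
      rw [← hg] at e
      calc x * v = g⁻¹ * (g * x * v * (g * x)⁻¹) * (g * x) := by group
        _ = v * x := by rw [e]; group
  · exact Finset.sum_eq_zero fun g _ => if_neg fun e => h ⟨g, e⟩

/-- The Gram matrix of the principal block. -/
theorem gram_B0 (hp : p.Prime) {P M : Subgroup G} (hP : 𝐨(P) = p) (hM : M ⊲ 𝐂(P))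
    (hc : (𝐨(M)).Coprime p) (hk : M.relIndex 𝐂(P) = p) {α β : G → ℂ} (hα : α 1 = 0)
    (hβ : β 1 = 0) :
    (𝐨(𝐂(P)) : ℂ) * ∑ χ ∈ B0 p ⊤, ip P χ α * ip P β χ =
      ∑ g ∈ fs (𝐍(P) : Set G), ip P (cfConj g β) α := by
  classical
  have hp0 : (p : ℂ) ≠ 0 := Nat.cast_ne_zero.mpr hp.ne_zero
  have key : ∀ u ∈ (P : Set G), ∀ v ∈ (P : Set G),
      (𝐨(𝐂(P)) : ℂ) * ∑ χ ∈ B0 p ⊤, χ u * conj (α u) * (β v * conj (χ v)) =
        p * ∑ g ∈ fs (𝐍(P) : Set G), if g * v * g⁻¹ = u then β v * conj (α u) else 0 := by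
    intro u hu v hv
    by_cases h1 : u = 1
    · simp [h1, hα]
    by_cases h1' : v = 1
    · simp [h1', hβ]
    have e1 : ∑ χ ∈ B0 p ⊤, χ u * conj (α u) * (β v * conj (χ v)) =
        β v * conj (α u) * ∑ χ ∈ B0 p ⊤, χ u * conj (χ v) := by
      rw [Finset.mul_sum]
      exact Finset.sum_congr rfl fun _ _ => by ring
    have e2 : ∑ g ∈ fs (𝐍(P) : Set G), (if g * v * g⁻¹ = u then β v * conj (α u) else 0) =
        β v * conj (α u) *
          ∑ g ∈ fs (𝐍(P) : Set G), (if g * v * g⁻¹ = u then (1 : ℂ) else 0) := by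
      rw [Finset.mul_sum]
      exact Finset.sum_congr rfl fun _ _ => by split_ifs <;> simp
    rw [e1, e2, sum_B0_mul_conj hp hP hM hc hk hu hv h1 h1', count_conj hp hP hu hv h1]
    split_ifs <;> ring
  have e3 : ∑ χ ∈ B0 p ⊤, ip P χ α * ip P β χ = (p : ℂ)⁻¹ * (p : ℂ)⁻¹ *
      ∑ u ∈ fs (P : Set G), ∑ v ∈ fs (P : Set G),
        ∑ χ ∈ B0 p ⊤, χ u * conj (α u) * (β v * conj (χ v)) := by
    simp only [ip_def, hP]
    rw [Finset.sum_congr rfl fun χ _ => mul_mul_mul_comm _ _ _ _, ← Finset.mul_sum]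
    congr 1
    simp only [Finset.sum_mul_sum]
    rw [Finset.sum_comm]
    exact Finset.sum_congr rfl fun _ _ => Finset.sum_comm
  rw [e3, mul_left_comm, Finset.mul_sum, sum_fs_congr fun u hu => by
    rw [Finset.mul_sum, sum_fs_congr (key u hu), ← Finset.mul_sum, Finset.sum_comm],
    ← Finset.mul_sum, Finset.sum_comm, ← mul_assoc, mul_assoc _ _ (p : ℂ), inv_mul_cancel₀ hp0,
    mul_one, Finset.mul_sum]
  refine sum_fs_congr fun g hg => ?_
  rw [ip_def, hP]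
  congr 1
  refine sum_fs_congr fun u hu => ?_
  rw [Finset.sum_eq_single (g⁻¹ * u * g), if_pos (by group), cfConj_apply]
  · intro v _ hv
    exact if_neg fun e => hv (by rw [← e]; group)
  · intro h
    refine (h (mem_fs.mpr ?_)).elim
    have := (mem_normalizer_iff.mp (inv_mem hg) u).mp hu
    rwa [inv_inv] at this

theorem inf_inertia_eq (hp : p.Prime) {P : Subgroup G} (hP : 𝐨(P) = p) {l : G → ℂ}
    (hl : l ∈ Irr P) (h1 : l ≠ cf1 P) : 𝐍(P) ⊓ inertia l = 𝐂(P) := by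
  have := Fact.mk hp
  have hcomm : IsMulCommutative P := (isCyclic_of_prime_card hP).isMulCommutative
  have hlin := isLin_of_comm hcomm hl
  refine le_antisymm (fun g hg => ?_) (le_inf (centralizer_le_normalizer _)
    (cent_le_inertia (mem_Irr.mp hl).1))
  have hker : cfKer l = ⊥ := by
    by_contra h
    obtain ⟨⟨x, hx⟩, hx1⟩ := ne_bot_iff_exists_ne_one.mp h
    refine h1 ((irr_eq_cf1_iff hl).mpr ?_)
    rw [← zpowers_eq_of_mem hp hP (irr_cfKer_le hl hx) (by simpa using hx1)]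
    exact zpowers_le.mpr hx
  refine mem_centralizer_iff.mpr fun x hx => ?_
  have hx' : g⁻¹ * x * g ∈ P := by
    have := (mem_normalizer_iff.mp (inv_mem hg.1) x).mp hx
    rwa [inv_inv] at this
  have h2 : x⁻¹ * (g⁻¹ * x * g) ∈ cfKer l := by
    rw [hlin.mem_cfKer_iff, hlin.2.2 _ (inv_mem hx) _ hx', hg.2 x, mul_comm, hlin.mul_inv hx]
  rw [hker, mem_bot] at h2
  calc x * g = g * x * (x⁻¹ * (g⁻¹ * x * g)) := by group
    _ = g * x := by rw [h2, mul_one]

/-- The multiplicity of `l` in the restriction of `χ`. -/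
noncomputable def mult (P : Subgroup G) (χ l : G → ℂ) : ℕ := ⌊(ip P χ l).re⌋₊

theorem ip_eq_mult {P : Subgroup G} {χ l : G → ℂ} (hχ : χ ∈ Irr ⊤) (hl : l ∈ Irr P) :
    ip P χ l = mult P χ l := by
  obtain ⟨n, hn⟩ := ((irr_isChar hχ).res le_top).ip_nat (irr_isChar hl)
  rw [ip_res_left] at hn
  simp [mult, hn]

theorem exists_compl (hp : p.Prime) {P : Subgroup G} (hP : 𝐨(P) = p) (hi : ¬ p ∣ P.index) :
    ∃ M : Subgroup G, M ⊲ 𝐂(P) ∧ (𝐨(M)).Coprime p ∧ M.relIndex 𝐂(P) = p := by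
  have := Fact.mk hp
  have hcomm : IsMulCommutative P := (isCyclic_of_prime_card hP).isMulCommutative
  have hPC : P ≤ 𝐂(P) := le_centralizer P
  have hPp : IsPGroup p P := IsPGroup.of_card (n := 1) (by rw [hP, pow_one])
  let S : Sylow p G := hPp.toSylow hi
  have hnpc : HasNormalPComplement p 𝐂(P) := ⟨S.subtype (N := 𝐂(P)) hPC, _, inferInstance,
    MonoidHom.ker_transferSylow_isComplement' _ fun g _ => mem_centralizer_iff.mpr fun x hx =>
      Subtype.ext (mem_centralizer_iff.mp g.2 x.1 hx)⟩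
  obtain ⟨M, hM, hc, k, hk⟩ := exists_npc hp hnpc
  refine ⟨M, hM, hc, ?_⟩
  have h1 := H1.card_mul_relIndex hM.1
  have h2 := H1.card_mul_relIndex hPC
  have h3 : ¬ p ∣ P.relIndex 𝐂(P) := fun h => hi (h.trans (relIndex_dvd_index_of_le hPC))
  rw [hk] at h1 ⊢
  rw [hP, ← h1] at h2
  have h5 : P.relIndex 𝐂(P) ≠ 0 := fun h => h3 (by rw [h]; exact dvd_zero p)
  have h4 := congrArg (fun n => n.factorization p) h2
  simp only [Nat.factorization_mul hp.ne_zero h5,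
    Nat.factorization_mul Nat.card_pos.ne' (pow_ne_zero k hp.ne_zero), Finsupp.add_apply,
    hp.factorization_self, hp.factorization_pow, Finsupp.single_eq_same,
    Nat.factorization_eq_zero_of_not_dvd h3,
    Nat.factorization_eq_zero_of_not_dvd (hp.coprime_iff_not_dvd.mp hc.symm)] at h4
  rw [show k = 1 by omega, pow_one]

theorem relIndex_dvd_pred (hp : p.Prime) {P : Subgroup G} (hP : 𝐨(P) = p) :
    (𝐂(P)).relIndex 𝐍(P) ∣ p - 1 := by
  have := Fact.mk hp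
  have hc : IsCyclic P := isCyclic_of_prime_card hP
  have h1 := Subgroup.card_subgroup_dvd_card (normalizerMonoidHom P).range
  rwa [← index_ker, normalizerMonoidHom_ker, IsCyclic.card_mulAut, hP, Nat.totient_prime hp] at h1

/-- Brauer-Reynolds bound. -/
theorem char_bound (hp : p.Prime) {P : Subgroup G} (hP : 𝐨(P) = p) (hi : ¬ p ∣ P.index)
    (hs : ∀ N : Subgroup G, N.Normal → P ≤ N → N = ⊤) (hNC : ¬ 𝐍(P) ≤ 𝐂(P))
    (hnn : 𝐍(P) ≠ ⊤) : p ^ 2 ≤ 2 * (𝐂(P)).index + 1 := by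
  classical
  have := Fact.mk hp
  by_contra hL
  push Not at hL
  have hcomm : IsMulCommutative P := (isCyclic_of_prime_card hP).isMulCommutative
  have hPp : IsPGroup p P := IsPGroup.of_card (n := 1) (by rw [hP, pow_one])
  obtain ⟨M, hM, hc, hk⟩ := exists_compl hp hP hi
  set e := (𝐂(P)).relIndex 𝐍(P) with he
  obtain ⟨t, ht⟩ := relIndex_dvd_pred hp hP
  have hCN : 𝐂(P) ≤ 𝐍(P) := centralizer_le_normalizer _
  have he2 : 2 ≤ e := by
    have h0 : e ≠ 0 := index_ne_zero_of_finite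
    have h1 : e ≠ 1 := mt relIndex_eq_one.mp hNC
    omega
  obtain ⟨k, hk1, hn⟩ : ∃ k, 1 ≤ k ∧ (𝐍(P)).index = k * p + 1 := by
    have h1 := card_sylow_modEq_one p G
    rw [(hPp.toSylow hi).card_eq_index_normalizer] at h1
    have h2 : (𝐍(P)).index % p = 1 := by
      rw [← Nat.mod_eq_of_lt hp.one_lt]; exact h1
    have h3 : (𝐍(P)).index ≠ 1 := mt index_eq_one.mp hnn
    have h4 := Nat.div_add_mod' (𝐍(P)).index p
    refine ⟨(𝐍(P)).index / p, Nat.pos_of_ne_zero fun h => ?_, by omega⟩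
    rw [h] at h4
    omega
  have hLe : (𝐂(P)).index = e * (k * p + 1) := by rw [← hn, he, relIndex_mul_index hCN]
  let Λ := (Irr P).erase (cf1 P)
  have hΛ : ∀ l ∈ Λ, l ∈ Irr P := fun l hl => Finset.mem_of_mem_erase hl
  have hcls : ∀ l ∈ Λ, cfClass 𝐍(P) l ⊆ Λ := by
    intro l hl ψ hψ
    refine Finset.mem_erase.mpr ⟨fun h => (Finset.mem_erase.mp hl).1 ?_,
      cfClass_subset_Irr le_rfl (hΛ l hl) hψ⟩
    obtain ⟨g, hg, rfl⟩ := mem_cfClass.mp (mem_cfClass_comm.mp hψ)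
    rw [h, cfConj_cf1_of_norm hg]
  have hcard : ∀ l ∈ Λ, (cfClass 𝐍(P) l).card = e := fun l hl => by
    rw [card_cfClass, ← inf_relIndex_left, inf_inertia_eq hp hP (hΛ l hl)
      (Finset.mem_erase.mp hl).1]
  have hone : ∀ l ∈ Irr P, l 1 = 1 := fun l hl => (isLin_of_comm hcomm hl).2.1
  have hx : ∀ χ ∈ B0 p ⊤, ∀ l ∈ Λ, ip P χ (l - cf1 P) =
      (((mult P χ l : ℤ) - mult P χ (cf1 P) : ℤ) : ℂ) := fun χ hχ l hl => by
    rw [ip_sub_right, ip_eq_mult (B0_subset _ _ hχ) (hΛ l hl),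
      ip_eq_mult (B0_subset _ _ hχ) (cf1_mem_Irr P)]
    push_cast; rfl
  have h01 : ∀ l ∈ Λ, (l - cf1 P) 1 = 0 := fun l hl => by
    rw [Pi.sub_apply, hone l (hΛ l hl), cf1_of_mem (one_mem P), sub_self]
  have hval : ∀ χ ∈ B0 p ⊤, ∀ u ∈ P, χ u = mult P χ (cf1 P) + ∑ l ∈ Λ, mult P χ l * l u := by
    intro χ hχ u hu
    have hχ' := B0_subset _ _ hχ
    have := apply_eq_sum_irr (res_mem_CF le_top (irr_mem_CF hχ') : res P χ ∈ _) u
    rw [res_of_mem _ hu, ← Finset.add_sum_erase _ _ (cf1_mem_Irr P), cf1_of_mem hu, mul_one,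
      ip_res_left, ip_eq_mult hχ' (cf1_mem_Irr P)] at this
    rw [this]
    congr 1
    exact Finset.sum_congr rfl fun l hl => by rw [ip_res_left, ip_eq_mult hχ' (hΛ l hl)]
  refine no_block (B0 p ⊤) Λ (fun l l' => l' ∈ cfClass 𝐍(P) l) (p := p) (e := e) (t := t) (k := k)
    hp (by have := hp.two_le; rw [he, ← ht]; omega) he2 hk1 (hLe ▸ hL) ?_ (fun l _ => self_mem_cfClass _ _)
    (fun l hl => ?_) dg (fun χ => mult P χ (cf1 P)) (mult P) (fun χ hχ => ?_)
    (fun l hl l' hl' => ?_) (fun l hl => ?_) (fun χ hχ l hl => ?_)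
    (fun χ hχ => irr_dg_pos (B0_subset _ _ hχ)) (cf1 ⊤) (cf1_mem_B0 _ _) ?_ (fun l hl => ?_)
    (fun χ hχ hne => ?_)
  · rw [Finset.card_erase_add_one (cf1_mem_Irr P), card_Irr_of_comm hcomm, hP]
  · rw [← hcard l hl, Finset.filter_mem_eq_inter, Finset.inter_eq_right.mpr (hcls l hl)]
  · have := hval χ hχ 1 (one_mem P)
    rw [irr_one_eq (B0_subset _ _ hχ), Finset.sum_congr rfl fun l hl => by
      rw [hone l (hΛ l hl), mul_one]] at this
    exact_mod_cast this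
  · have h1 := gram_B0 hp hP hM hc hk (h01 l' hl') (h01 l hl)
    rw [Finset.sum_congr rfl fun χ hχ => by rw [hx χ hχ l' hl', ip_comm_of_int (hx χ hχ l hl)],
      sum_fs_congr (g := fun g => ip P (cfConj g l - cf1 P) (l' - cf1 P)) fun g hg => by
        rw [map_sub, cfConj_cf1_of_norm hg],
      sum_fs_cfConj 𝐍(P) l fun ψ => ip P (ψ - cf1 P) (l' - cf1 P),
      inf_inertia_eq hp hP (hΛ l hl) (Finset.mem_erase.mp hl).1, nsmul_eq_mul,
      mul_right_inj' (card_ne_zero_C _),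
      Finset.sum_congr (s₁ := cfClass 𝐍(P) l) rfl (g := fun ψ => 1 + if ψ = l' then 1 else 0)
        fun ψ hψ => by
        have hψ' := hcls l hl hψ
        rw [ip_sub_left, ip_sub_right, ip_sub_right, ip_irr (hΛ ψ hψ') (hΛ l' hl'),
          ip_irr_of_ne (hΛ ψ hψ') (cf1_mem_Irr P) (Finset.mem_erase.mp hψ').1,
          ip_irr_of_ne (cf1_mem_Irr P) (hΛ l' hl') (Finset.mem_erase.mp hl').1.symm,
          ip_irr_self (cf1_mem_Irr P)]
        ring,
      Finset.sum_add_distrib, Finset.sum_const, hcard l hl, Finset.sum_ite_eq'] at h1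
    rw [Finset.sum_congr rfl fun χ _ => mul_comm _ _]
    refine Int.cast_injective (α := ℂ) ?_
    push_cast at h1 ⊢
    rw [h1]
    simp
  · refine Int.cast_injective (α := ℂ) ?_
    rw [Int.cast_sum, Finset.sum_congr rfl (g := fun χ => ip P (l - cf1 P) χ * χ 1) fun χ hχ => by
      rw [ip_comm_of_int (hx χ hχ l hl), irr_one_eq (B0_subset _ _ hχ)]; push_cast; rfl]
    simp only [ip_def, mul_assoc, ← Finset.mul_sum, Finset.sum_mul]
    rw [Finset.sum_comm, Finset.sum_eq_zero, mul_zero, Int.cast_zero]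
    intro u hu
    by_cases h1 : u = 1
    · simp [h1, h01 l hl]
    · rw [← Finset.mul_sum, Finset.sum_congr rfl fun χ _ => mul_comm _ _,
        sum_B0_reg_sing hp ⊤ (by simp) (orderOf_eq_of_mem hp hP (mem_fs.mp hu) h1).symm.dvd,
        mul_zero]
  · have hχ' := B0_subset _ _ hχ
    refine H6.dvd_of_isIntegral_div (irr_dg_pos hχ').ne' ?_
    have hp0 : (p : ℂ) ≠ 0 := Nat.cast_ne_zero.mpr hp.ne_zero
    have h1 : (((p : ℤ) * (e * (k * p + 1)) * ((mult P χ l : ℤ) - mult P χ (cf1 P)) : ℤ) : ℂ) /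
        dg χ = ∑ u ∈ fs (P : Set G), ((𝐂(P)).index * χ u / χ 1) * conj ((l - cf1 P) u) := by
      rw [Int.cast_mul, ← hx χ hχ l hl, ip_def, hP, hLe, ← irr_one_eq hχ']
      simp only [div_mul_eq_mul_div, ← Finset.sum_div, mul_assoc, ← Finset.mul_sum]
      push_cast
      field_simp
    rw [h1]
    refine IsIntegral.sum _ fun u hu => ?_
    by_cases h1 : u = 1
    · rw [h1, h01 l hl, map_zero, mul_zero]; exact isIntegral_zero
    · refine IsIntegral.mul ?_ (vchar_isIntegral (vchar_star (sub_mem (irr_mem_VChar (hΛ l hl))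
        (cf1_mem_VChar P))) u)
      rw [← cent_eq_of_mem hp hP (mem_fs.mp hu) h1]
      exact (mem_Irr_top_iff.mp hχ').isIntegral_central u
  · have := ip_eq_mult (cf1_mem_Irr ⊤) (cf1_mem_Irr P)
    rw [← ip_res_left, res_cf1 le_top, ip_irr_self (cf1_mem_Irr P)] at this
    exact_mod_cast this.symm
  · have := ip_eq_mult (cf1_mem_Irr ⊤) (hΛ l hl)
    rw [← ip_res_left, res_cf1 le_top,
      ip_irr_of_ne (cf1_mem_Irr P) (hΛ l hl) (Finset.mem_erase.mp hl).1.symm] at this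
    exact_mod_cast this.symm
  · by_contra h
    push Not at h
    have hχ' := B0_subset _ _ hχ
    have h1 : ∀ u ∈ P, χ u = mult P χ (cf1 P) := fun u hu => by
      rw [hval χ hχ u hu, Finset.sum_eq_zero fun l hl => by rw [h l hl]; simp, add_zero]
    refine hne ((irr_eq_cf1_iff hχ').mpr (hs _ ?_ fun u hu => ?_).ge)
    · exact normalizer_eq_top_iff.mp (top_le_iff.mp (le_norm_cfKer (irr_mem_CF hχ')))
    · rw [(irr_isChar hχ').mem_cfKer_iff, h1 u hu, h1 1 (one_mem P)]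

end Cfsg.Agent.H7.PCl
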