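/-
The least order of a group that is not `p`-closed.
-/
import Cfsg.Agent.H7.PClB
import Cfsg.Agent.P3.Model
import Cfsg.Prelude.Def_LocalStructure

set_option autoImplicit false

namespace Cfsg.Agent.H7.PCl

open Subgroup Cfsg Cfsg.Agent Cfsg.Agent.FT

universe u

theorem pclosed_of_small {p : ℕ} [hp : Fact p.Prime] {m : ℕ}
    (hleast : ∀ k : ℕ, IsPrimePow k → k % p = 1 → m ≤ k) (n : ℕ) :
    ∀ (H : Type u) [Group H] [Finite H], Nat.card H = n → Nat.card H < p * m →
      2 * Nat.card H + p < p ^ 3 → IsPClosed p H := by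
  induction n using Nat.strong_induction_on with
  | _ n ih =>
  intro H _ _ hn h1 h2 P
  by_contra hP
  have hp2 := hp.out.two_le
  have hle : ∀ K : Subgroup H, K ≠ ⊤ → (P : Subgroup H) ≤ K → K ≤ 𝐍(P) := by
    intro K hK hPK
    have hlt : Nat.card K < Nat.card H := by
      rw [← K.card_mul_index]
      have h3 : K.index ≠ 1 := mt index_eq_one.mp hK
      have h4 : K.index ≠ 0 := index_ne_zero_of_finite
      have h5 : 0 < Nat.card K := Nat.card_pos
      have h6 : 2 ≤ K.index := by omega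
      nlinarith
    have := ih _ (hn ▸ hlt) K rfl (by omega) (by omega) (P.subtype hPK)
    exact (normal_subgroupOf_iff_le_normalizer hPK).mp this
  have hnn : 𝐍(P) ≠ ⊤ := fun h => hP (normalizer_eq_top_iff.mp h)
  have hmod : (𝐍(P)).index % p = 1 := by
    have h3 := card_sylow_modEq_one p H
    rw [P.card_eq_index_normalizer] at h3
    rw [← Nat.mod_eq_of_lt hp.out.one_lt]; exact h3
  have hn1 : (𝐍(P)).index ≠ 1 := mt index_eq_one.mp hnn
  have hnp : p + 1 ≤ (𝐍(P)).index := by
    have h4 := Nat.div_add_mod' (𝐍(P)).index p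
    rcases Nat.eq_zero_or_pos ((𝐍(P)).index / p) with h | h
    · rw [h] at h4; omega
    · have := Nat.le_mul_of_pos_left p h
      omega
  have hPN : (P : Subgroup H) ≤ 𝐍(P) := le_normalizer
  have hcard : Nat.card (P : Subgroup H) = p := by
    obtain ⟨k, hk⟩ := P.isPGroup'.exists_card_eq
    have h3 : k ≠ 0 := fun h => hP (by
      rw [h, pow_zero, card_eq_one] at hk
      rw [hk]; infer_instance)
    have h4 : ¬ 2 ≤ k := fun h => by
      have a1 : p ^ 2 ≤ Nat.card 𝐍(P) := (Nat.pow_le_pow_right hp.out.pos h).trans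
        (hk ▸ card_le_of_le hPN)
      have a2 := Nat.mul_le_mul a1 hnp
      rw [card_mul_index] at a2
      nlinarith
    rw [hk, show k = 1 by omega, pow_one]
  have hidx := (P : Subgroup H).card_mul_index
  rw [hcard] at hidx
  by_cases hNC : 𝐍(P) ≤ 𝐂(P)
  · have hK := MonoidHom.ker_transferSylow_isComplement' P hNC
    set K := (MonoidHom.transferSylow P hNC).ker
    have hKi : K.index = p := by rw [hK.symm.index_eq_card, hcard]
    obtain ⟨q, hq, hqn⟩ := Nat.exists_prime_and_dvd hn1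
    have := Fact.mk hq
    have hqp : q ≠ p := by
      rintro rfl
      rw [Nat.mod_eq_zero_of_dvd hqn] at hmod
      omega
    have hnot : ∀ Q : Sylow q H, ¬ (Q : Subgroup H) ≤ 𝐍(P) := fun Q h =>
      Q.not_dvd_index (hqn.trans (index_dvd_of_le h))
    obtain ⟨Q₀⟩ : Nonempty (Sylow q H) := inferInstance
    have hQK : (Q₀ : Subgroup H) ≤ K := by
      rw [← relIndex_eq_one]
      obtain ⟨k, hk⟩ := Q₀.isPGroup'.exists_card_eq
      refine Nat.eq_one_of_dvd_coprimes (a := q ^ k) (b := p)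
        (((Nat.coprime_primes hq hp.out).mpr hqp).pow_left _) (hk ▸ relIndex_dvd_card _ _)
        (hKi ▸ relIndex_dvd_index_of_normal _ _)
    have hnd : ¬ p ∣ Nat.card (Sylow q H) := by
      rw [Q₀.card_eq_index_normalizer]
      intro h
      have a1 : K.relIndex 𝐍(Q₀) = p := by
        rw [← relIndex_sup_right, Sylow.normalizer_sup_eq_top' Q₀ hQK, relIndex_top_right, hKi]
      have a2 := Nat.mul_dvd_mul (a1 ▸ relIndex_dvd_card K 𝐍(Q₀)) h
      rw [card_mul_index, ← hidx] at a2
      exact P.not_dvd_index (Nat.dvd_of_mul_dvd_mul_left hp.out.pos a2)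
    obtain ⟨Q, hQ⟩ := P.isPGroup'.nonempty_fixed_point_of_prime_not_dvd_card (Sylow q H) hnd
    have hPQ : (P : Subgroup H) ≤ 𝐍(Q) := fun g hg =>
      Sylow.smul_eq_iff_mem_normalizer.mp (hQ ⟨g, hg⟩)
    have hQn : (Q : Subgroup H).Normal := normalizer_eq_top_iff.mp (by
      by_contra h
      exact hnot Q (le_normalizer.trans (hle _ h hPQ)))
    have hsup : (P : Subgroup H) ⊔ Q = ⊤ := by
      by_contra h
      exact hnot Q (le_sup_right.trans (hle _ h le_sup_left))
    obtain ⟨k, hk⟩ := Q.isPGroup'.exists_card_eq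
    have a1 : (Q : Subgroup H).index ∣ p := by
      rw [← relIndex_top_right, ← hsup, relIndex_sup_right]
      exact (relIndex_dvd_card _ _).trans hcard.dvd
    have a2 : (P : Subgroup H).index ∣ q ^ k := by
      refine Nat.dvd_of_mul_dvd_mul_left hp.out.pos ?_
      rw [hidx, ← (Q : Subgroup H).card_mul_index, hk, mul_comm]
      exact Nat.mul_dvd_mul_right a1 _
    obtain ⟨j, -, hj⟩ := (Nat.dvd_prime_pow hq).mp ((index_dvd_of_le hPN).trans a2)
    have a3 := hleast _ (hj ▸ hq.isPrimePow.pow fun h => hn1 (by rw [hj, h, pow_zero])) hmod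
    have a4 := Nat.le_of_dvd (Nat.pos_of_ne_zero index_ne_zero_of_finite) (index_dvd_of_le hPN)
    have := Nat.mul_le_mul_left p (a3.trans a4)
    omega
  · have h3 := char_bound hp.out hcard P.not_dvd_index (fun N hN hPN => by
      by_contra h
      exact hnn (by rw [← Sylow.normalizer_sup_eq_top' P hPN, sup_eq_left.mpr (hle N h hPN)]))
      hNC hnn
    have hcomm : IsMulCommutative (P : Subgroup H) :=
      (isCyclic_of_prime_card hcard).isMulCommutative
    have h4 := Nat.le_of_dvd (Nat.pos_of_ne_zero index_ne_zero_of_finite)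
      (index_dvd_of_le (le_centralizer (P : Subgroup H)))
    nlinarith

/-- Two non-commuting elements of order `p` prevent `p`-closure if `p² ∤ |H|`. -/
theorem not_pclosed_of {p : ℕ} [hp : Fact p.Prime] {H : Type u} [Group H] [Finite H]
    (h2 : ¬ p ^ 2 ∣ Nat.card H) {a b : H} (ha : a ^ p = 1) (hb : b ^ p = 1) (hab : a * b ≠ b * a) :
    ¬ IsPClosed p H := by
  intro h
  obtain ⟨P⟩ : Nonempty (Sylow p H) := inferInstance
  have := h P
  have hmem : ∀ x : H, x ^ p = 1 → x ∈ (P : Subgroup H) := fun x hx => by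
    have hz : IsPGroup p (zpowers x) := by
      rcases (Nat.dvd_prime hp.out).mp (orderOf_dvd_of_pow_eq_one hx) with e | e
      · exact IsPGroup.of_card (n := 0) (by rw [Nat.card_zpowers, e, pow_zero])
      · exact IsPGroup.of_card (n := 1) (by rw [Nat.card_zpowers, e, pow_one])
    obtain ⟨Q, hQ⟩ := hz.exists_le_sylow
    have := Sylow.unique_of_normal P this
    rw [Subsingleton.elim P Q]
    exact hQ (mem_zpowers x)
  obtain ⟨k, hk⟩ := P.isPGroup'.exists_card_eq
  have hk2 : k ≤ 1 := by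
    by_contra hlt
    exact h2 ((pow_dvd_pow p (by omega)).trans (hk ▸ card_subgroup_dvd_card _))
  have hcomm : IsMulCommutative (P : Subgroup H) :=
    (isCyclic_of_card_dvd_prime (p := p) (hk ▸ (pow_dvd_pow p hk2).trans (pow_one p).dvd)).isMulCommutative
  exact hab (congrArg Subtype.val (hcomm.is_comm.comm ⟨a, hmem a ha⟩ ⟨b, hmem b hb⟩))

theorem exists_affine {p : ℕ} [hp : Fact p.Prime] {m : ℕ} (hm : IsPrimePow m) (hm1 : m % p = 1) :
    ∃ (H : Type) (_ : Group H) (_ : Finite H), Nat.card H = p * m ∧ ¬ IsPClosed p H := by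
  obtain ⟨q, k, hq, hk, rfl⟩ := (isPrimePow_nat_iff m).mp hm
  have := Fact.mk hq
  let F := GaloisField q k
  have hF : Nat.card F = q ^ k := GaloisField.card q k hk.ne'
  have hdvd : p ∣ Nat.card Fˣ := by
    rw [Nat.card_units, hF]
    exact (Nat.modEq_iff_dvd' hm.one_lt.le).mp
      (by rw [Nat.ModEq, hm1, Nat.mod_eq_of_lt hp.out.one_lt])
  obtain ⟨z, hz⟩ := exists_prime_orderOf_dvd_card' p hdvd
  let φ : zpowers z →* MulAut (Multiplicative F) :=
    (MulAutMultiplicative F).symm.toMonoidHom.comp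
      ((DistribMulAction.toAddAut Fˣ F).comp (zpowers z).subtype)
  have hφ : ∀ (g : zpowers z) (x : F), φ g (Multiplicative.ofAdd x) =
      Multiplicative.ofAdd ((g.1 : F) * x) := fun _ _ => rfl
  have hcard : Nat.card (Multiplicative F ⋊[φ] zpowers z) = p * q ^ k := by
    rw [SemidirectProduct.card, Nat.card_zpowers, hz, mul_comm]
    congr 1
  have hfin : Finite (Multiplicative F ⋊[φ] zpowers z) :=
    Nat.finite_of_card_ne_zero (hcard ▸ mul_ne_zero hp.out.ne_zero (pow_ne_zero _ hq.ne_zero))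
  let g : zpowers z := ⟨z, mem_zpowers z⟩
  have hg : g ^ p = 1 := Subtype.ext (by rw [← hz]; exact pow_orderOf_eq_one z)
  let a : Multiplicative F ⋊[φ] zpowers z := SemidirectProduct.inr g
  let c : Multiplicative F ⋊[φ] zpowers z := SemidirectProduct.inl (Multiplicative.ofAdd 1)
  have ha : a ^ p = 1 := by rw [← map_pow, hg, map_one]
  refine ⟨_, inferInstance, hfin, hcard, not_pclosed_of ?_ ha (b := c * a * c⁻¹)
    (by rw [conj_pow, ha]; simp) fun h => ?_⟩
  · rw [hcard, sq]
    intro h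
    rw [Nat.mod_eq_zero_of_dvd (Nat.dvd_of_mul_dvd_mul_left hp.out.pos h)] at hm1
    omega
  · have h1 := congrArg (fun x => Multiplicative.toAdd x.left) h
    have hz1 : (z : F) ≠ 1 := fun e => hp.out.one_lt.ne' (by
      rw [← hz, orderOf_eq_one_iff]; exact Units.ext e)
    simp only [a, c, ← map_inv, SemidirectProduct.mul_left, SemidirectProduct.mul_right,
      SemidirectProduct.left_inl, SemidirectProduct.left_inr, SemidirectProduct.right_inl,
      SemidirectProduct.right_inr, map_one, mul_one, one_mul, ← ofAdd_neg, hφ, ← ofAdd_add,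
      toAdd_ofAdd, g] at h1
    apply hz1
    have : ((z : F) - 1) ^ 2 = 0 := by linear_combination -h1
    exact sub_eq_zero.mp (pow_eq_zero_iff two_ne_zero |>.mp this)

open Matrix OnePoint in
theorem exists_psl {p : ℕ} [hp : Fact p.Prime] (hp2 : p ≠ 2) :
    ∃ (H : Type) (_ : Group H) (_ : Finite H), Nat.card H = p * (p ^ 2 - 1) / 2 ∧
      ¬ IsPClosed p H := by
  have hodd : Odd (Nat.card (ZMod p)) := by rw [Nat.card_zmod]; exact hp.out.odd_of_ne_two hp2
  have hc := P3.two_mul_card_PSL2 hodd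
  rw [Nat.card_congr (P3.psl2EquivRange (ZMod p)).toEquiv, Nat.card_zmod] at hc
  have h1 : p * (p - 1) * (p + 1) = p * (p ^ 2 - 1) := by
    rw [mul_assoc, mul_comm (p - 1), ← Nat.sq_sub_sq, one_pow]
  let a := L.mkSL2 (1 : ZMod p) 1 0 1 (by simp)
  let b := L.mkSL2 (1 : ZMod p) 0 1 1 (by simp)
  have ha : ∀ n : ℕ, a ^ n = L.mkSL2 (1 : ZMod p) n 0 1 (by simp) := fun n => by
    induction n with
    | zero => ext i j; fin_cases i <;> fin_cases j <;> simp [L.mkSL2]
    | succ n ih =>
      rw [pow_succ, ih]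
      refine Subtype.ext ?_
      change (!![1, (n : ZMod p); 0, 1] * !![1, 1; 0, 1] : Matrix _ _ _) =
        !![1, ((n + 1 : ℕ) : ZMod p); 0, 1]
      simp [add_comm]
  have hb : ∀ n : ℕ, b ^ n = L.mkSL2 (1 : ZMod p) 0 n 1 (by simp) := fun n => by
    induction n with
    | zero => ext i j; fin_cases i <;> fin_cases j <;> simp [L.mkSL2]
    | succ n ih =>
      rw [pow_succ, ih]
      refine Subtype.ext ?_
      change (!![1, 0; (n : ZMod p), 1] * !![1, 0; 1, 1] : Matrix _ _ _) =
        !![1, 0; ((n + 1 : ℕ) : ZMod p), 1]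
      simp [add_comm]
  have ha1 : a ^ p = 1 := by
    rw [ha]; ext i j; fin_cases i <;> fin_cases j <;> simp [L.mkSL2]
  have hb1 : b ^ p = 1 := by
    rw [hb]; ext i j; fin_cases i <;> fin_cases j <;> simp [L.mkSL2]
  refine ⟨(L.sl2Perm (ZMod p)).range, inferInstance, inferInstance, by omega,
    not_pclosed_of ?_ (a := (L.sl2Perm (ZMod p)).rangeRestrict a)
      (b := (L.sl2Perm (ZMod p)).rangeRestrict b) (by rw [← map_pow, ha1, map_one])
      (by rw [← map_pow, hb1, map_one]) fun h => ?_⟩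
  · intro h
    have h2 := h.mul_left 2
    rw [hc, h1, sq] at h2
    have h3 := Nat.dvd_of_mul_dvd_mul_left hp.out.pos h2
    have h4 := (Nat.dvd_sub_iff_right (Nat.one_le_iff_ne_zero.mpr (mul_ne_zero hp.out.ne_zero hp.out.ne_zero))
      (dvd_mul_right p p)).mp h3
    exact hp.out.one_lt.ne' (Nat.dvd_one.mp h4)
  · have h2 := congrArg (fun x : (L.sl2Perm (ZMod p)).range => x.1 ∞) h
    simp only [coe_mul, MonoidHom.coe_rangeRestrict, Equiv.Perm.mul_apply, a, b,
      L.sl2Perm_mk_infty, one_ne_zero, if_false, if_true] at h2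
    rw [L.sl2Perm_mk_some] at h2
    simp at h2

end Cfsg.Agent.H7.PCl
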