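import Cfsg.Agent.H3.RankOne
import Cfsg.Agent.H7.Frattini
import Cfsg.Agent.L.MinNormal

/-! The number of generators of a `2`-group acting faithfully on an abelian group of odd order. -/

namespace Cfsg.Agent.H7

open Subgroup
open scoped IsMulCommutative

/-- number of sign characters -/
noncomputable def nsgn (P : Type*) [Group P] : ℕ := Nat.card (P →* ℤˣ)

instance finite_sgnHom (P : Type*) [Group P] [Finite P] : Finite (P →* ℤˣ) :=
  Finite.of_injective (fun g : P →* ℤˣ => (g : P → ℤˣ)) (fun _ _ h => MonoidHom.ext (congrFun h))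

theorem nsgn_le_pow {P : Type*} [Group P] {k : ℕ} (x : Fin k → P)
    (hx : closure (Set.range x) = ⊤) : nsgn P ≤ 2 ^ k := by
  have h : Function.Injective (fun (φ : P →* ℤˣ) (i : Fin k) => φ (x i)) := by
    intro φ ψ h
    apply MonoidHom.eq_of_eqOn_dense hx
    rintro _ ⟨i, rfl⟩
    exact congrFun h i
  have := Nat.card_le_card_of_injective _ h
  simpa [nsgn] using this

theorem nsgn_le_two_of_isCyclic {P : Type*} [Group P] [IsCyclic P] : nsgn P ≤ 2 := by
  obtain ⟨g, hg⟩ := IsCyclic.exists_generator (α := P)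
  have := nsgn_le_pow (fun _ : Fin 1 => g) (by
    rw [Set.range_const, ← zpowers_eq_closure, eq_top_iff]; exact fun x _ => hg x)
  simpa using this

theorem nsgn_le_four {P : Type*} [Group P] {x y : P} (h : closure ({x, y} : Set P) = ⊤) :
    nsgn P ≤ 4 := by
  have := nsgn_le_pow ![x, y] (by simpa [Matrix.range_cons, Set.pair_comm] using h)
  simpa using this

theorem nsgn_le_mul {P : Type*} [Group P] [Finite P] (C : Subgroup P) [C.Normal] :
    nsgn P ≤ nsgn (P ⧸ C) * nsgn C := by
  let res : (P →* ℤˣ) →* (C →* ℤˣ) :=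
    { toFun := fun φ => φ.comp C.subtype
      map_one' := rfl
      map_mul' := fun _ _ => rfl }
  have h1 : Nat.card res.ker ≤ nsgn (P ⧸ C) := by
    let f : res.ker → (P ⧸ C →* ℤˣ) := fun φ => QuotientGroup.lift C φ.1 (fun c hc =>
      congrArg (fun ψ : C →* ℤˣ => ψ ⟨c, hc⟩) φ.2)
    refine Nat.card_le_card_of_injective f fun φ ψ h => Subtype.ext (MonoidHom.ext fun g => ?_)
    exact congrArg (fun θ : P ⧸ C →* ℤˣ => θ (g : P ⧸ C)) h
  have h2 : Nat.card res.range ≤ nsgn C := card_le_card_group _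
  have h3 := res.ker.card_mul_index
  rw [index_ker] at h3
  unfold nsgn at *
  rw [← h3]
  exact Nat.mul_le_mul h1 h2

theorem index_frattini_le_nsgn {P : Type*} [Group P] [Finite P] (hP : IsPGroup 2 P) :
    (frattini P).index ≤ nsgn P := by
  haveI := hP.isNilpotent
  haveI : IsMulCommutative (P ⧸ frattini P) :=
    Subgroup.Normal.quotient_commutative_iff_commutator_le.2 commutator_le_frattini
  haveI : HasEnoughRootsOfUnity ℤ 2 := ⟨⟨-1, IsPrimitiveRoot.neg_one 0 (by norm_num)⟩, inferInstance⟩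
  have hexp : Monoid.exponent (P ⧸ frattini P) ∣ 2 := by
    apply Monoid.exponent_dvd_of_forall_pow_eq_one
    intro g
    obtain ⟨g, rfl⟩ := QuotientGroup.mk_surjective g
    rw [← QuotientGroup.mk_pow, QuotientGroup.eq_one_iff]
    exact pow_mem_frattini hP g
  haveI := HasEnoughRootsOfUnity.of_dvd ℤ hexp
  have h := CommGroup.card_monoidHom_of_hasEnoughRootsOfUnity (P ⧸ frattini P) ℤ
  rw [index, ← h]
  refine Nat.card_le_card_of_injective
    (fun φ : P ⧸ frattini P →* ℤˣ => φ.comp (QuotientGroup.mk' _)) fun φ ψ h => ?_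
  ext g
  exact congrArg (fun θ : P →* ℤˣ => ((θ g : ℤˣ) : ℤ)) h

/-- restriction of an action to an invariant subgroup -/
def resAut {P V : Type*} [Group P] [Group V] (ρ : P →* MulAut V) (W : Subgroup V)
    (hW : ∀ g, ∀ w ∈ W, ρ g w ∈ W) : P →* MulAut W where
  toFun g :=
    { toFun := fun w => ⟨ρ g w, hW g w w.2⟩
      invFun := fun w => ⟨ρ g⁻¹ w, hW _ w w.2⟩
      left_inv := fun w => Subtype.ext (by simp)
      right_inv := fun w => Subtype.ext (by simp)
      map_mul' := fun a b => Subtype.ext (by simp) }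
  map_one' := by ext; simp
  map_mul' a b := by ext; simp

@[simp] theorem coe_resAut {P V : Type*} [Group P] [Group V] (ρ : P →* MulAut V) (W : Subgroup V)
    (hW : ∀ g, ∀ w ∈ W, ρ g w ∈ W) (g : P) (w : W) : (resAut ρ W hW g w : V) = ρ g w := rfl

/-- fixed points of an automorphism -/
def fixAut {V : Type*} [Group V] (α : MulAut V) : Subgroup V where
  carrier := {v | α v = v}
  one_mem' := map_one α
  mul_mem' := fun {a b} ha hb => by
    simp only [Set.mem_setOf_eq] at *; rw [map_mul, ha, hb]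
  inv_mem' := fun {a} ha => by
    simp only [Set.mem_setOf_eq] at *; rw [map_inv, ha]

/-- inverted points of an automorphism -/
def invAut {V : Type*} [CommGroup V] (α : MulAut V) : Subgroup V where
  carrier := {v | α v = v⁻¹}
  one_mem' := by simp
  mul_mem' := fun {a b} ha hb => by
    simp only [Set.mem_setOf_eq] at *; rw [map_mul, ha, hb, mul_inv]
  inv_mem' := fun {a} ha => by
    simp only [Set.mem_setOf_eq] at *; rw [map_inv, ha]

theorem mem_fixAut {V : Type*} [Group V] {α : MulAut V} {v : V} : v ∈ fixAut α ↔ α v = v := Iff.rfl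
theorem mem_invAut {V : Type*} [CommGroup V] {α : MulAut V} {v : V} :
    v ∈ invAut α ↔ α v = v⁻¹ := Iff.rfl

theorem eq_one_of_eq_inv_of_odd {V : Type*} [Group V] [Finite V] (h : Odd (Nat.card V)) {v : V}
    (hv : v = v⁻¹) : v = 1 := by
  have h1 : v ^ 2 = 1 := by rw [sq]; nth_rewrite 1 [hv]; simp
  have h2 := Nat.dvd_gcd (orderOf_dvd_of_pow_eq_one h1) (orderOf_dvd_natCard v)
  rw [(Nat.coprime_two_left.2 h : Nat.gcd 2 _ = 1)] at h2
  exact orderOf_eq_one_iff.1 (Nat.dvd_one.1 h2)

theorem isComplement_fix_inv {V : Type*} [CommGroup V] [Finite V] (h : Odd (Nat.card V))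
    {α : MulAut V} (hα : ∀ v, α (α v) = v) : (fixAut α).IsComplement' (invAut α) := by
  refine isComplement'_of_disjoint_and_mul_eq_univ ?_ ?_
  · rw [disjoint_def]
    intro x h1 h2
    exact eq_one_of_eq_inv_of_odd h ((mem_fixAut.1 h1).symm.trans h2)
  · rw [Set.eq_univ_iff_forall]
    intro v
    obtain ⟨w, rfl⟩ := (powCoprime (G := V) (n := 2) (Nat.coprime_two_right.2 h)).surjective v
    refine ⟨w * α w, ?_, w * (α w)⁻¹, ?_, ?_⟩
    · show α _ = _
      rw [map_mul, hα, mul_comm]
    · show α _ = _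
      rw [map_mul, map_inv, hα, mul_inv, inv_inv, mul_comm]
    · simp only [powCoprime_apply]
      rw [mul_mul_mul_comm, mul_inv_cancel, mul_one, sq]

theorem three_le_card_of_odd {V : Type*} [Group V] [Finite V] (h : Odd (Nat.card V))
    [Nontrivial V] : 3 ≤ Nat.card V := by
  have := Finite.one_lt_card (α := V)
  obtain ⟨k, hk⟩ := h
  omega

theorem card_dvd_totient_of_prime {V P : Type*} [Group V] [Finite V] [Group P]
    (ρ : P →* MulAut V) (hρ : Function.Injective ρ) {q : ℕ} (hq : q.Prime) (h : Nat.card V = q) :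
    Nat.card P ∣ q - 1 := by
  haveI := Fact.mk hq
  haveI : IsCyclic V := isCyclic_of_prime_card h
  have := card_dvd_of_injective ρ hρ
  rwa [IsCyclic.card_mulAut, h, Nat.totient_prime hq] at this

/-- the bound -/
def RankBd (P V : Type*) [Group P] : Prop :=
  (Nat.card V = 3 ∧ Nat.card P ≤ 2) ∨ 2 * nsgn P ≤ Nat.card V

theorem RankBd.three {P V : Type*} [Group P] [Finite P] (h : RankBd P V) :
    3 * nsgn P ≤ 2 * Nat.card V := by
  rcases h with ⟨h1, h2⟩ | h
  · haveI : IsCyclic P := by
      have := Nat.card_pos (α := P)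
      haveI : Fact (Nat.Prime 2) := ⟨Nat.prime_two⟩
      apply isCyclic_of_card_dvd_prime (p := 2)
      have : Nat.card P = 1 ∨ Nat.card P = 2 := by omega
      rcases this with h | h <;> simp [h]
    have := nsgn_le_two_of_isCyclic (P := P)
    omega
  · omega

universe u

theorem rankBd_split {V : Type u} [CommGroup V] [Finite V] (hV : Odd (Nat.card V))
    (ih : ∀ (W : Type u) [CommGroup W] [Finite W] [Nontrivial W], Nat.card W < Nat.card V →
      Odd (Nat.card W) → ∀ (P : Type u) [Group P] [Finite P] (ρ : P →* MulAut W),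
        Function.Injective ρ → IsPGroup 2 P → RankBd P W)
    {Q : Type u} [Group Q] [Finite Q] (ρ : Q →* MulAut V) (hρ : Function.Injective ρ)
    (hQ : IsPGroup 2 Q) {a : Q} (ha : a ∈ center Q) (ha2 : a ^ 2 = 1) (ha1 : a ≠ 1)
    (hinv : fixAut (ρ a) ≠ ⊥) :
    ∃ (C : Subgroup Q) (_ : C.Normal), RankBd (Q ⧸ C) (fixAut (ρ a)) ∧ RankBd C (invAut (ρ a)) ∧
      Nat.card (fixAut (ρ a)) * Nat.card (invAut (ρ a)) = Nat.card V := by
  have hα : ∀ v, ρ a (ρ a v) = v := by
    intro v
    rw [← MulAut.mul_apply, ← map_mul, ← sq, ha2, map_one, MulAut.one_apply]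
  have hc := isComplement_fix_inv hV hα
  have hcomm : ∀ g v, ρ a (ρ g v) = ρ g (ρ a v) := by
    intro g v
    rw [← MulAut.mul_apply, ← map_mul, ← mem_center_iff.1 ha g, map_mul, MulAut.mul_apply]
  have h1 : ∀ g, ∀ w ∈ fixAut (ρ a), ρ g w ∈ fixAut (ρ a) := by
    intro g w hw
    rw [mem_fixAut] at *
    rw [hcomm, hw]
  have h2 : ∀ g, ∀ w ∈ invAut (ρ a), ρ g w ∈ invAut (ρ a) := by
    intro g w hw
    rw [mem_invAut] at *
    rw [hcomm, hw, map_inv]
  have hne : invAut (ρ a) ≠ ⊥ := by
    intro h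
    have := hc.sup_eq_top
    rw [h, sup_bot_eq] at this
    apply ha1
    apply hρ
    rw [map_one]
    ext v
    exact (this ▸ mem_top v : v ∈ fixAut (ρ a))
  have hcard := hc.card_mul
  haveI := (nontrivial_iff_ne_bot _).2 hne
  haveI := (nontrivial_iff_ne_bot _).2 hinv
  have l1 := Finite.one_lt_card (α := fixAut (ρ a))
  have l2 := Finite.one_lt_card (α := invAut (ρ a))
  have o1 : Odd (Nat.card (fixAut (ρ a))) := hV.of_dvd_nat (card_subgroup_dvd_card _)
  have o2 : Odd (Nat.card (invAut (ρ a))) := hV.of_dvd_nat (card_subgroup_dvd_card _)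
  refine ⟨(resAut ρ _ h1).ker, inferInstance, ?_, ?_, hcard⟩
  · exact ih _ (by nlinarith) o1 _ (QuotientGroup.kerLift _) (QuotientGroup.kerLift_injective _)
      (hQ.to_quotient _)
  · refine ih _ (by nlinarith) o2 _ ((resAut ρ _ h2).comp (Subgroup.subtype _)) ?_
      (hQ.to_subgroup _)
    rw [injective_iff_map_eq_one]
    intro c hc1
    apply Subtype.ext
    apply hρ
    rw [OneMemClass.coe_one, map_one]
    ext v
    obtain ⟨⟨x, y⟩, e⟩ := hc.2 v
    have e' : (x : V) * y = v := e
    have k1 : ρ c x = x := congrArg (fun θ : MulAut (fixAut (ρ a)) => (θ x : V)) c.2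
    have k2 : ρ c y = y := congrArg (fun θ : MulAut (invAut (ρ a)) => (θ y : V)) hc1
    rw [← e', map_mul, k1, k2]
    rfl

theorem rankBd (n : ℕ) : ∀ (V : Type u) [CommGroup V] [Finite V] [Nontrivial V], Nat.card V = n →
    Odd (Nat.card V) → ∀ (P : Type u) [Group P] [Finite P] (ρ : P →* MulAut V),
      Function.Injective ρ → IsPGroup 2 P → RankBd P V := by
  induction n using Nat.strong_induction_on with
  | _ n ih0 =>
  intro V _ _ _ hn hV P _ _ ρ hρ hP
  have ih : ∀ (W : Type u) [CommGroup W] [Finite W] [Nontrivial W], Nat.card W < Nat.card V →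
      Odd (Nat.card W) → ∀ (P : Type u) [Group P] [Finite P] (ρ : P →* MulAut W),
        Function.Injective ρ → IsPGroup 2 P → RankBd P W :=
    fun W _ _ _ hlt => ih0 _ (hn ▸ hlt) W rfl
  have h3 := three_le_card_of_odd hV
  by_cases hV3 : Nat.card V = 3
  · exact Or.inl ⟨hV3, Nat.le_of_dvd (by norm_num)
      (card_dvd_totient_of_prime ρ hρ Nat.prime_three hV3)⟩
  right
  have h5 : 5 ≤ Nat.card V := by obtain ⟨k, hk⟩ := hV; omega
  by_cases hcyc : ∀ A : Subgroup P, A.Normal → IsMulCommutative A → IsCyclic A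
  · rcases H3.normal_abelian_cyclic_cases hP hcyc with h | ⟨-, m, x, y, hm, hx, hi, hy, -⟩
    · have := nsgn_le_two_of_isCyclic (P := P)
      omega
    · have hgen : closure ({x, y} : Set P) = ⊤ := by
        have hle : zpowers x ≤ closure ({x, y} : Set P) :=
          zpowers_le.2 (subset_closure (by simp))
        have h1 : (closure ({x, y} : Set P)).index ∣ 2 := hi ▸ index_dvd_of_le hle
        rcases (Nat.dvd_prime Nat.prime_two).1 h1 with h2 | h2
        · exact index_eq_one.1 h2
        · exfalso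
          have := relIndex_mul_index hle
          rw [hi, h2] at this
          have h4 : (zpowers x).relIndex (closure ({x, y} : Set P)) = 1 := by omega
          exact hy (relIndex_eq_one.1 h4 (subset_closure (by simp)))
      have h4 := nsgn_le_four hgen
      have h8 : 8 ≤ Nat.card P := by
        have := (zpowers x).card_mul_index
        rw [Nat.card_zpowers, hx, hi] at this
        have : 2 ^ 2 ≤ 2 ^ m := Nat.pow_le_pow_right (by norm_num) hm
        omega
      have h9 : 9 ≤ Nat.card V := by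
        by_contra hlt
        have : Nat.card V = 5 ∨ Nat.card V = 7 := by obtain ⟨k, hk⟩ := hV; omega
        rcases this with h | h
        · have := Nat.le_of_dvd (by norm_num) (card_dvd_totient_of_prime ρ hρ Nat.prime_five h)
          omega
        · have := Nat.le_of_dvd (by norm_num)
            (card_dvd_totient_of_prime ρ hρ (by norm_num : Nat.Prime 7) h)
          omega
      omega
  push Not at hcyc
  obtain ⟨A, hA1, hA2, hA3⟩ := hcyc
  obtain ⟨E, hE1, -, hE2, hE3⟩ := H3.exists_normal_elementary_sq_le hP A hA2 hA3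
  by_cases hz : ∃ z ∈ center P, z ^ 2 = 1 ∧ z ≠ 1 ∧ fixAut (ρ z) ≠ ⊥
  · obtain ⟨z, h1, h2, h3, h4⟩ := hz
    obtain ⟨C, _, k1, k2, k3⟩ := rankBd_split hV ih ρ hρ hP h1 h2 h3 h4
    have k4 := nsgn_le_mul C
    have k5 := Nat.mul_le_mul k1.three k2.three
    nlinarith
  push Not at hz
  have hinv : ∀ z ∈ center P, z ^ 2 = 1 → z ≠ 1 → ∀ v, ρ z v = v⁻¹ := by
    intro z h1 h2 h3 v
    have hα : ∀ v, ρ z (ρ z v) = v := by
      intro v
      rw [← MulAut.mul_apply, ← map_mul, ← sq, h2, map_one, MulAut.one_apply]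
    have := (isComplement_fix_inv hV hα).sup_eq_top
    rw [hz z h1 h2 h3, bot_sup_eq] at this
    exact (this ▸ mem_top v : v ∈ invAut (ρ z))
  have hEne : E ≠ ⊥ := by
    intro h; rw [h, card_bot] at hE3; norm_num at hE3
  haveI := hP.isNilpotent
  obtain ⟨⟨z, hzE, hzZ⟩, hz1⟩ := (ne_bot_iff_exists_ne_one).1
    (L.inf_center_ne_bot_of_isNilpotent E hEne)
  have hz1' : z ≠ 1 := fun h => hz1 (Subtype.ext h)
  have hz2 : z ^ 2 = 1 := hE2.2 z hzE
  have hoz : orderOf z = 2 := orderOf_eq_prime hz2 hz1'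
  have hidx : ((zpowers z).subgroupOf E).index = 2 := by
    have := ((zpowers z).subgroupOf E).card_mul_index
    rw [Nat.card_congr (subgroupOfEquivOfLe (zpowers_le.2 hzE)).toEquiv, Nat.card_zpowers, hoz,
      hE3] at this
    omega
  have hmem : ∀ w, w ∈ zpowers z → w = 1 ∨ w = z := by
    classical
    intro w hw
    rw [mem_zpowers_iff_mem_range_orderOf, hoz] at hw
    simp [Finset.range_add_one] at hw
    tauto
  obtain ⟨a, ha⟩ : ∃ a : E, a ∉ (zpowers z).subgroupOf E := by
    by_contra h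
    push Not at h
    rw [(eq_top_iff (a := (zpowers z).subgroupOf E)).2 (fun x _ => h x), index_top] at hidx
    omega
  have ha2 : (a : P) ^ 2 = 1 := hE2.2 a a.2
  have ha1 : (a : P) ≠ 1 := fun h => ha (by rw [mem_subgroupOf, h]; exact one_mem _)
  have haZ : (a : P) ∉ center P := by
    intro h
    apply ha
    rw [mem_subgroupOf]
    have : (a : P) = z := hρ (by ext v; rw [hinv _ h ha2 ha1, hinv _ hzZ hz2 hz1'])
    rw [this]; exact mem_zpowers z
  -- conjugates of `a`
  have hconj : ∀ g : P, g * a * g⁻¹ = a ∨ g * a * g⁻¹ = z * a := by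
    intro g
    have h1 : (⟨g * a * g⁻¹, hE1.conj_mem _ a.2 g⟩ : E) ∉ (zpowers z).subgroupOf E := by
      intro h
      rw [mem_subgroupOf] at h
      apply haZ
      have h2 : g * a * g⁻¹ ∈ center P := (zpowers_le.2 hzZ) h
      have := (inferInstance : (center P).Normal).conj_mem _ h2 g⁻¹
      simpa [mul_assoc] using this
    have h2 := (mul_mem_iff_of_index_two hidx (a := ⟨g * a * g⁻¹, hE1.conj_mem _ a.2 g⟩)
      (b := a⁻¹)).2 (by simp only [h1, inv_mem_iff, ha])
    rw [mem_subgroupOf] at h2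
    rcases hmem _ h2 with h3 | h3
    · left; exact mul_inv_eq_one.1 h3
    · right; exact mul_inv_eq_iff_eq_mul.1 h3
  obtain ⟨t, ht⟩ : ∃ t : P, t * a * t⁻¹ = z * a := by
    by_contra h
    push Not at h
    apply haZ
    rw [mem_center_iff]
    intro g
    exact mul_inv_eq_iff_eq_mul.1 ((hconj g).resolve_right (h g))
  let Q := centralizer ({(a : P)} : Set P)
  have hQ : ∀ g, g ∈ Q ↔ g * a * g⁻¹ = a := fun g => by
    rw [mem_centralizer_singleton_iff, mul_inv_eq_iff_eq_mul]
  have hza : z * a ≠ a := fun h => hz1' (by simpa using h)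
  have hQi : Q.index = 2 := by
    rw [index_eq_two_iff']
    refine ⟨t, fun g => ?_⟩
    rw [hQ, hQ]
    have e : t * g * a * (t * g)⁻¹ = t * (g * a * g⁻¹) * t⁻¹ := by group
    rw [e]
    rcases hconj g with h | h
    · rw [h, ht]; simp [hza]
    · have e2 : t * (z * a) * t⁻¹ = z * (t * a * t⁻¹) := by
        rw [← mul_assoc, mem_center_iff.1 hzZ t]; group
      rw [h, e2, ht, ← mul_assoc, ← sq, hz2, one_mul]
      simp [hza]
  haveI := normal_of_index_eq_two hQi
  let a' : Q := ⟨a, (hQ _).2 (by group)⟩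
  have hswap : ∀ v, v ∈ fixAut (ρ a) ↔ ρ t v ∈ invAut (ρ a) := by
    intro v
    have e : ρ z (ρ a (ρ t v)) = ρ t (ρ a v) := by
      rw [← MulAut.mul_apply, ← map_mul, ← ht, ← MulAut.mul_apply, ← map_mul,
        ← MulAut.mul_apply, ← map_mul]
      congr 2; group
    rw [hinv z hzZ hz2 hz1', inv_eq_iff_eq_inv] at e
    rw [mem_fixAut, mem_invAut, e, inv_inj, EmbeddingLike.apply_eq_iff_eq]
  have hcardeq : Nat.card (fixAut (ρ a)) = Nat.card (invAut (ρ a)) :=
    Nat.card_congr ((ρ t).toEquiv.subtypeEquiv hswap)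
  have hfix : fixAut (ρ a) ≠ ⊥ := by
    intro h
    have hα : ∀ v, ρ a (ρ a v) = v := by
      intro v
      rw [← MulAut.mul_apply, ← map_mul, ← sq, ha2, map_one, MulAut.one_apply]
    have := (isComplement_fix_inv hV hα).card_mul
    rw [← hcardeq, h, card_bot] at this
    omega
  obtain ⟨C, _, k1, k2, k3⟩ := rankBd_split hV ih (ρ.comp Q.subtype)
    (hρ.comp Q.subtype_injective) (hP.to_subgroup Q) (a := a')
    (mem_center_iff.2 fun g => Subtype.ext (mem_centralizer_singleton_iff.1 g.2))
    (Subtype.ext ha2) (fun h => ha1 (congrArg Subtype.val h)) hfix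
  change RankBd _ (fixAut (ρ a)) at k1
  change RankBd _ (invAut (ρ a)) at k2
  change Nat.card (fixAut (ρ a)) * Nat.card (invAut (ρ a)) = _ at k3
  by_cases h33 : Nat.card (fixAut (ρ a)) = 3
  · have c1 : Nat.card (Q ⧸ C) ≤ 2 ∨ nsgn (Q ⧸ C) ≤ 1 := by
      rcases k1 with h | h
      · exact Or.inl h.2
      · right; omega
    have c2 : Nat.card C ≤ 2 ∨ nsgn C ≤ 1 := by
      rcases k2 with h | h
      · exact Or.inl h.2
      · right; omega
    have triv : ∀ (R : Type u) [Group R] [Finite R], IsPGroup 2 R → nsgn R ≤ 1 →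
        Nat.card R ≤ 2 := by
      intro R _ _ hR h
      have h1 := index_frattini_le_nsgn hR
      have h2 : (frattini R).index ≠ 0 := FiniteIndex.index_ne_zero
      have h4 : frattini R = ⊤ := index_eq_one.1 (by omega)
      have h5 : (⊥ : Subgroup R) = ⊤ := frattini_nongenerating (by rw [h4]; simp)
      rw [← card_top, ← h5, card_bot]; norm_num
    have d1 : Nat.card (Q ⧸ C) ≤ 2 := c1.elim id (triv _ ((hP.to_subgroup Q).to_quotient C))
    have d2 : Nat.card C ≤ 2 := c2.elim id (triv _ ((hP.to_subgroup Q).to_subgroup C))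
    have d3 : Nat.card Q ≤ 4 := by
      rw [card_eq_card_quotient_mul_card_subgroup C]; nlinarith
    haveI := hE2.1
    have hEQ : E ≤ Q := fun e he => mem_centralizer_singleton_iff.2
      (congrArg Subtype.val (mul_comm (⟨e, he⟩ : E) a))
    have hQE : E = Q := eq_of_le_of_card_ge hEQ (by rw [hE3]; exact d3)
    have hgen : closure ({(a : P), t} : Set P) = ⊤ := by
      set H := closure ({(a : P), t} : Set P)
      have m1 : (a : P) ∈ H := subset_closure (by simp)
      have m2 : t ∈ H := subset_closure (by simp)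
      have m3 : z ∈ H := by
        have := H.mul_mem (H.mul_mem (H.mul_mem m2 m1) (H.inv_mem m2)) (H.inv_mem m1)
        rwa [ht, mul_inv_cancel_right] at this
      have m4 : E ≤ H := by
        intro e he
        by_cases h : (⟨e, he⟩ : E) ∈ (zpowers z).subgroupOf E
        · exact (zpowers_le.2 m3) h
        · have h2 := (mul_mem_iff_of_index_two hidx (a := ⟨e, he⟩)
            (b := a⁻¹)).2 (by simp only [h, inv_mem_iff, ha])
          have := H.mul_mem ((zpowers_le.2 m3) h2) m1
          simpa using this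
      rw [eq_top_iff]
      intro g _
      by_cases h : g ∈ Q
      · exact m4 (hQE ▸ h)
      · have ht' : t ∉ Q := fun h => hza (ht ▸ (hQ t).1 h)
        have h2 := (mul_mem_iff_of_index_two hQi (a := g) (b := t⁻¹)).2
          (by simp only [h, inv_mem_iff, ht'])
        have := H.mul_mem (m4 (hQE ▸ h2)) m2
        simpa using this
    have := nsgn_le_four hgen
    rw [← hcardeq, h33] at k3
    omega
  · have c1 : 2 * nsgn (Q ⧸ C) ≤ Nat.card (fixAut (ρ a)) := k1.resolve_left fun h => h33 h.1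
    have c2 : 2 * nsgn C ≤ Nat.card (invAut (ρ a)) :=
      k2.resolve_left fun h => h33 (hcardeq.trans h.1)
    have k4 := nsgn_le_mul C
    have k5 := nsgn_le_mul Q
    haveI : IsCyclic (P ⧸ Q) := isCyclic_of_prime_card (p := 2) hQi
    have k6 := nsgn_le_two_of_isCyclic (P := P ⧸ Q)
    have k7 := Nat.mul_le_mul c1 c2
    nlinarith

theorem three_mul_index_frattini_le {V P : Type u} [CommGroup V] [Finite V] [Nontrivial V]
    (hV : Odd (Nat.card V)) [Group P] [Finite P] (ρ : P →* MulAut V)
    (hρ : Function.Injective ρ) (hP : IsPGroup 2 P) :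
    3 * (frattini P).index ≤ 2 * Nat.card V :=
  le_trans (Nat.mul_le_mul_left _ (index_frattini_le_nsgn hP))
    (rankBd _ V rfl hV P ρ hρ hP).three

end Cfsg.Agent.H7
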