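import Mathlib
import Cfsg.Agent.H5.Real2
import Cfsg.Agent.H8.ThompsonTransfer
import Cfsg.Agent.H9.ClassSize
import Cfsg.Agent.L.BaerSuzuki
import Cfsg.Agent.H7.TwoGroupRank

/-! Groups acting on elementary abelian `2`-groups with every vector fixed by a Sylow
`2`-subgroup and real elements of odd order fixed point free: preliminaries. -/

set_option autoImplicit false

namespace Cfsg.Agent.H7.RD

open Subgroup Cfsg
open scoped Pointwise

variable {H V : Type*} [Group H] [Group V]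

theorem card_filter_ne {V : Type*} [Group V] [Fintype V] [DecidableEq V] (U : Subgroup V)
    [DecidablePred (· ∈ U)] :
    (Finset.univ.filter fun v => v ∈ U ∧ v ≠ 1).card = Nat.card U - 1 := by
  have : (Finset.univ.filter fun v => v ∈ U ∧ v ≠ 1) =
      (Finset.univ.filter fun v => v ∈ U).erase 1 := by
    ext v; simp [and_comm]
  rw [this, Finset.card_erase_of_mem (by simp [U.one_mem]), Nat.card_eq_fintype_card,
    Fintype.card_subtype]

theorem count_disjoint [Finite V] {ι : Type*} (I : Finset ι) (F : ι → Subgroup V)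
    (hd : ∀ i ∈ I, ∀ j ∈ I, ∀ v, v ≠ 1 → v ∈ F i → v ∈ F j → i = j) (q : ℕ)
    (hq : ∀ i ∈ I, Nat.card (F i) = q) : I.card * (q - 1) ≤ Nat.card V - 1 := by
  classical
  haveI := Fintype.ofFinite V
  have h1 : (I.biUnion fun i => Finset.univ.filter fun v => v ∈ F i ∧ v ≠ 1).card =
      I.card * (q - 1) := by
    rw [Finset.card_biUnion]
    · rw [Finset.sum_congr rfl fun i hi => by rw [card_filter_ne, hq i hi]]
      simp
    · intro i hi j hj hij
      rw [Function.onFun, Finset.disjoint_left]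
      intro v h1 h2
      simp only [Finset.mem_filter, Finset.mem_univ, true_and] at h1 h2
      exact hij (hd i hi j hj v h1.2 h1.1 h2.1)
  have h2 := card_filter_ne (⊤ : Subgroup V)
  rw [Subgroup.card_top] at h2
  rw [← h1, ← h2]
  refine Finset.card_le_card fun v hv => ?_
  simp only [Finset.mem_biUnion, Finset.mem_filter, Finset.mem_univ, true_and] at hv ⊢
  obtain ⟨i, -, -, h⟩ := hv
  exact ⟨mem_top v, h⟩

theorem count_cover [Finite V] {ι : Type*} (I : Finset ι) (F : ι → Subgroup V) (U : Subgroup V)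
    (r : ℕ) (hc : ∀ v ∈ U, v ≠ 1 → ∃ i ∈ I, v ∈ F i)
    (hr : ∀ i ∈ I, Nat.card (F i ⊓ U : Subgroup V) ≤ r) : Nat.card U - 1 ≤ I.card * (r - 1) := by
  classical
  haveI := Fintype.ofFinite V
  rw [← card_filter_ne U]
  calc _ ≤ (I.biUnion fun i => Finset.univ.filter fun v => v ∈ F i ⊓ U ∧ v ≠ 1).card := by
        refine Finset.card_le_card fun v hv => ?_
        simp only [Finset.mem_biUnion, Finset.mem_filter, Finset.mem_univ, true_and] at hv ⊢
        obtain ⟨i, hi, h⟩ := hc v hv.1 hv.2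
        exact ⟨i, hi, ⟨h, hv.1⟩, hv.2⟩
    _ ≤ ∑ i ∈ I, (Finset.univ.filter fun v => v ∈ F i ⊓ U ∧ v ≠ 1).card :=
        Finset.card_biUnion_le
    _ ≤ ∑ _i ∈ I, (r - 1) := Finset.sum_le_sum fun i hi => by
        rw [card_filter_ne]; exact Nat.sub_le_sub_right (hr i hi) 1
    _ = _ := by simp

theorem card_mul_le_of_disjoint [Finite V] {A B U : Subgroup V} (hA : A ≤ U) (hB : B ≤ U)
    (h : ∀ v ∈ A, v ∈ B → v = 1) : Nat.card A * Nat.card B ≤ Nat.card U := by
  rw [← Nat.card_prod]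
  have hd : Disjoint A B := disjoint_def.2 fun {v} h1 h2 => h v h1 h2
  refine Nat.card_le_card_of_injective
    (fun p : A × B => (⟨p.1 * p.2, mul_mem (hA p.1.2) (hB p.2.2)⟩ : U)) fun a b e => ?_
  exact mul_injective_of_disjoint hd (congrArg Subtype.val e)

theorem comm_of_sq (h : ∀ v : V, v * v = 1) (a b : V) : a * b = b * a := by
  have hi : ∀ v : V, v⁻¹ = v := fun v => inv_eq_of_mul_eq_one_right (h v)
  rw [← hi (a * b), mul_inv_rev, hi, hi]

theorem card_le_sq_fixAut [Finite V] (h : ∀ v : V, v * v = 1) {α : MulAut V}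
    (hα : ∀ v, α (α v) = v) : Nat.card V ≤ Nat.card (fixAut α) ^ 2 := by
  let f : V →* V :=
    { toFun := fun v => v * α v
      map_one' := by simp
      map_mul' := fun a b => by
        rw [map_mul, mul_assoc, mul_assoc, ← mul_assoc b, comm_of_sq h b (α a), mul_assoc] }
  have hk : f.ker = fixAut α := by
    ext v
    rw [MonoidHom.mem_ker, mem_fixAut]
    change v * α v = 1 ↔ _
    constructor
    · intro e
      exact mul_left_cancel (e.trans (h v).symm)
    · intro e; rw [e, h]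
  have hr : f.range ≤ fixAut α := by
    rintro _ ⟨v, rfl⟩
    change α (v * α v) = v * α v
    rw [map_mul, hα, comm_of_sq h]
  have h1 := f.ker.card_mul_index
  rw [index_ker, hk] at h1
  rw [← h1, sq]
  exact Nat.mul_le_mul_left _ (card_le_of_le hr)

theorem arith {q r n f₁ f₂ : ℕ} (hq : 2 ≤ q) (hr : r ^ 2 ≤ q) (hn : n * (q - 1) ≤ q ^ 2 - 1)
    (hf : f₁ * f₂ ≤ n) (h₁ : q - 1 ≤ f₁ * (r - 1)) (h₂ : q - 1 ≤ f₂ * (r - 1)) : False := by
  obtain ⟨a, rfl⟩ : ∃ a, q = a + 1 := ⟨q - 1, by omega⟩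
  have ha : 1 ≤ a := by omega
  rw [Nat.add_sub_cancel] at hn h₁ h₂
  have hn' : n ≤ a + 2 := by
    have : (a + 1) ^ 2 - 1 = (a + 2) * a := by
      rw [Nat.sub_eq_iff_eq_add (Nat.one_le_pow _ _ (by omega))]; ring
    rw [this] at hn
    exact Nat.le_of_mul_le_mul_right hn ha
  rcases Nat.lt_or_ge r 2 with h | h
  · have : r - 1 = 0 := by omega
    rw [this] at h₁; omega
  · obtain ⟨b, rfl⟩ : ∃ b, r = b + 1 := ⟨r - 1, by omega⟩
    rw [Nat.add_sub_cancel] at h₁ h₂
    have hb : 1 ≤ b := by omega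
    have h3 : a * a ≤ (a + 2) * (b * b) := by
      calc a * a ≤ (f₁ * b) * (f₂ * b) := Nat.mul_le_mul h₁ h₂
        _ = (f₁ * f₂) * (b * b) := by ring
        _ ≤ _ := Nat.mul_le_mul_right _ (hf.trans hn')
    have h4 : b * b + 2 * b ≤ a := by nlinarith
    nlinarith

theorem exists_conj_le [Finite H] {p : ℕ} [Fact p.Prime] {K X Y : Subgroup H} (hX : IsPGroup p X)
    (hY : IsPGroup p Y) (hXK : X ≤ K) (hYK : Y ≤ K) :
    ∃ a ∈ K, ∃ Q : Subgroup H, Q ≤ K ∧ IsPGroup p Q ∧ Y ≤ Q ∧ ∀ x ∈ X, a * x * a⁻¹ ∈ Q := by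
  obtain ⟨P, hP⟩ := (hY.comap_subtype (K := K)).exists_le_sylow
  obtain ⟨a, ha⟩ := H8.exists_conj_le_sylow P (hX.comap_subtype (K := K))
  refine ⟨a, a.2, (P : Subgroup K).map K.subtype, map_subtype_le _, P.isPGroup'.map _,
    fun y hy => ⟨⟨y, hYK hy⟩, hP hy, rfl⟩, fun x hx => ⟨_, ha ⟨x, hXK hx⟩ hx, rfl⟩⟩

theorem mem_smul_sylow {p : ℕ} {g h : H} {S : Sylow p H} :
    h ∈ ((g • S : Sylow p H) : Subgroup H) ↔ g⁻¹ * h * g ∈ (S : Subgroup H) := by
  rw [Sylow.coe_subgroup_smul, Subgroup.mem_pointwise_smul_iff_inv_smul_mem]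
  simp

/-- conjugate subgroup -/
def cj (g : H) (P : Subgroup H) : Subgroup H := MulAut.conj g • P

theorem mem_cj {g h : H} {P : Subgroup H} : h ∈ cj g P ↔ g⁻¹ * h * g ∈ P := by
  rw [cj, Subgroup.mem_pointwise_smul_iff_inv_smul_mem]
  simp

theorem cj_mul (a b : H) (P : Subgroup H) : cj (a * b) P = cj a (cj b P) := by
  ext h; simp [mem_cj, mul_assoc]

theorem cj_one (P : Subgroup H) : cj 1 P = P := by
  ext h; simp [mem_cj]

theorem cj_injective (a : H) {P Q : Subgroup H} (h : cj a P = cj a Q) : P = Q := by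
  rw [← cj_one P, ← cj_one Q, ← inv_mul_cancel a, cj_mul, cj_mul, h]

theorem conj_mem_cj {g h : H} {P : Subgroup H} (hh : h ∈ P) : g * h * g⁻¹ ∈ cj g P := by
  rw [mem_cj]; simpa [mul_assoc] using hh

theorem conj_mem_of_cj_eq {g h : H} {P : Subgroup H} (e : cj g P = P) (hh : h ∈ P) :
    g * h * g⁻¹ ∈ P := e ▸ conj_mem_cj hh

/-- fixed points of a subgroup -/
def fx (φ : H →* MulAut V) (T : Subgroup H) : Subgroup V where
  carrier := {v | ∀ t ∈ T, φ t v = v}
  one_mem' := fun t _ => map_one _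
  mul_mem' := fun {a b} ha hb t ht => by rw [map_mul, ha t ht, hb t ht]
  inv_mem' := fun {a} ha t ht => by rw [map_inv, ha t ht]

theorem mem_fx {φ : H →* MulAut V} {T : Subgroup H} {v : V} :
    v ∈ fx φ T ↔ ∀ t ∈ T, φ t v = v := Iff.rfl

theorem app_mul (φ : H →* MulAut V) (a b : H) (v : V) : φ (a * b) v = φ a (φ b v) := by
  rw [map_mul]; rfl

theorem app_one (φ : H →* MulAut V) (v : V) : φ 1 v = v := by
  rw [map_one]; rfl

theorem app_mem_fx {φ : H →* MulAut V} {T : Subgroup H} {v : V} (g : H) (hv : v ∈ fx φ T) :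
    φ g v ∈ fx φ (cj g T) := by
  intro t ht
  have := hv _ (mem_cj.1 ht)
  rw [← app_mul, show t * g = g * (g⁻¹ * t * g) by group, app_mul, this]

theorem card_fx_cj [Finite V] (φ : H →* MulAut V) (g : H) (T : Subgroup H) :
    Nat.card (fx φ (cj g T)) = Nat.card (fx φ T) := by
  have key : ∀ (g : H) (T : Subgroup H), Nat.card (fx φ T) ≤ Nat.card (fx φ (cj g T)) :=
    fun g T => Nat.card_le_card_of_injective
      (fun v : fx φ T => (⟨φ g v, app_mem_fx g v.2⟩ : fx φ (cj g T)))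
      fun a b e => Subtype.ext ((φ g).injective (congrArg Subtype.val e))
  refine le_antisymm ?_ (key g T)
  have := key g⁻¹ (cj g T)
  rwa [← cj_mul, inv_mul_cancel, cj_one] at this

/-- The two standing hypotheses. -/
structure AB (φ : H →* MulAut V) : Prop where
  sq1 : ∀ v : V, v * v = 1
  a : ∀ v : V, ∃ S : Sylow 2 H, v ∈ fx φ S
  b : ∀ (y g : H) (v : V), Odd (orderOf y) → g * y * g⁻¹ = y⁻¹ → φ y v = v → y = 1 ∨ v = 1

theorem AB.le_of_fix [Finite H] {φ : H →* MulAut V} (h : AB φ) {v : V} (hv : v ≠ 1)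
    {S : Sylow 2 H} (hS : v ∈ fx φ S) {Q : Subgroup H} (hQ : IsPGroup 2 Q) (hQv : v ∈ fx φ Q) :
    Q ≤ S := by
  haveI : Fact (Nat.Prime 2) := ⟨Nat.prime_two⟩
  let K : Subgroup H :=
    { carrier := {g | φ g v = v}
      one_mem' := app_one φ v
      mul_mem' := fun {a b} ha hb => by
        change φ (a * b) v = v
        rw [app_mul, hb, ha]
      inv_mem' := fun {a} ha => by
        change φ a⁻¹ v = v
        conv_lhs => rw [← ha]
        rw [← app_mul, inv_mul_cancel, app_one] }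
  have hSK : (S : Subgroup H) ≤ K := fun s hs => hS s hs
  have hn : ((S.subtype hSK : Sylow 2 K) : Subgroup K).Normal := by
    refine H5.sylow_two_normal_of_not_real (fun y g hy hg => ?_) _
    rcases h.b y g v (by rwa [orderOf_coe]) (by exact_mod_cast congrArg Subtype.val hg) y.2
      with e | e
    · exact Subtype.ext e
    · exact absurd e hv
  intro g hg
  obtain ⟨k, hk⟩ := H8.exists_orderOf_eq_pow_of_mem hQ hg
  have hgK : g ∈ K := hQv g hg
  have := H9.mem_sylow_of_mem_normalizer (S.subtype hSK) (x := ⟨g, hgK⟩) (k := k)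
    (by rw [orderOf_mk, hk]) (by rw [normalizer_eq_top]; exact mem_top _)
  simpa [Sylow.coe_subtype, mem_subgroupOf] using this

theorem isPGroup_zpowers_of_mul_self {t : H} (ht : t * t = 1) : IsPGroup 2 (zpowers t) := by
  obtain ⟨k, -, hk⟩ := (Nat.dvd_prime_pow Nat.prime_two (m := 1)).1
    (by simpa using orderOf_dvd_of_pow_eq_one (x := t) (n := 2) (by rw [sq, ht]))
  exact H8.isPGroup_zpowers_of_orderOf hk

theorem mem_fx_zpowers {φ : H →* MulAut V} {t : H} {v : V} (h : φ t v = v) :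
    v ∈ fx φ (zpowers t) := by
  rintro _ ⟨n, rfl⟩
  have : t ∈ (MulAction.stabilizer (MulAut V) v).comap φ := h
  exact zpow_mem this n

theorem AB.mem_of_fix [Finite H] {φ : H →* MulAut V} (h : AB φ) {v : V} (hv : v ≠ 1)
    {S : Sylow 2 H} (hS : v ∈ fx φ S) {t : H} (ht : t * t = 1) (htv : φ t v = v) :
    t ∈ (S : Subgroup H) :=
  h.le_of_fix hv hS (isPGroup_zpowers_of_mul_self ht) (mem_fx_zpowers htv) (mem_zpowers t)

theorem AB.sq_card_le [Finite H] [Finite V] {φ : H →* MulAut V} (h : AB φ) {x s : H}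
    (hx : Odd (orderOf x)) (hx1 : x ≠ 1) (hs : s * x * s⁻¹ = x⁻¹) {U : Subgroup V}
    (hU : ∀ v ∈ U, φ x v ∈ U) :
    Nat.card (U ⊓ fixAut (φ s) : Subgroup V) ^ 2 ≤ Nat.card U := by
  have h1 : Nat.card ((U ⊓ fixAut (φ s)).map (φ x).toMonoidHom) =
      Nat.card (U ⊓ fixAut (φ s) : Subgroup V) := card_map_of_injective (φ x).injective
  rw [pow_two]
  nth_rewrite 2 [← h1]
  refine card_mul_le_of_disjoint inf_le_left ?_ ?_
  · rintro _ ⟨v, hv, rfl⟩
    exact hU v hv.1
  · rintro _ hc ⟨e, he, rfl⟩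
    have h2 : φ s (φ x e) = φ x e := hc.2
    have h3 : φ s e = e := he.2
    rw [← app_mul, show s * x = x⁻¹ * s by rw [← hs]; group, app_mul, h3] at h2
    have h4 : φ (x ^ 2) e = e := by
      rw [pow_two, app_mul, ← h2, ← app_mul, mul_inv_cancel, app_one]
    rcases h.b (x ^ 2) s e (hx.of_dvd_nat (orderOf_pow_dvd 2))
      (by rw [← conj_pow, hs, inv_pow]) h4 with e1 | e1
    · exact absurd (H5.eq_one_of_odd_of_eq_inv hx (eq_inv_of_mul_eq_one_left (by rwa [← pow_two])))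
        hx1
    · simp [e1]

end Cfsg.Agent.H7.RD
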