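import Cfsg.Agent.H7.RealA

/-! The key local lemma: an element of odd order inverted by a central involution of a Sylow
`2`-subgroup has a `2`-closed centralizer. -/

set_option autoImplicit false

namespace Cfsg.Agent.H7.RD

open Subgroup Cfsg
open scoped Pointwise

universe u v

section

variable {H V : Type*} [Group H] [Group V]

/-- The Sylow `2`-subgroups of the centralizer of `x`. -/
def TT (x : H) (S : Sylow 2 H) : Subgroup H := (S : Subgroup H) ⊓ centralizer {x}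

theorem mem_TT {x t : H} {S : Sylow 2 H} : t ∈ TT x S ↔ t ∈ (S : Subgroup H) ∧ t * x = x * t := by
  rw [TT, mem_inf, mem_centralizer_singleton_iff]

theorem isPGroup_TT (x : H) (S : Sylow 2 H) : IsPGroup 2 (TT x S) := S.isPGroup'.to_inf_left

/-- Hypotheses of the local lemma. -/
structure LA (φ : H →* MulAut V) (x u : H) (S₀ : Sylow 2 H) : Prop extends AB φ where
  odd : Odd (orderOf x)
  ne : x ≠ 1
  norm : ∀ h : H, h * x * h⁻¹ = x ∨ h * x * h⁻¹ = x⁻¹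
  uu : u * u = 1
  mem : u ∈ (S₀ : Subgroup H)
  cen : ∀ s ∈ (S₀ : Subgroup H), s * u = u * s
  inv : u * x * u⁻¹ = x⁻¹

variable {φ : H →* MulAut V} {x u : H} {S₀ : Sylow 2 H}

theorem conj_inv_of_conj_eq_inv {g x : H} (h : g * x * g⁻¹ = x⁻¹) : g * x⁻¹ * g⁻¹ = x := by
  rw [← conj_inv, h, inv_inv]

/-- extended centralizer -/
def ecen (y : H) : Subgroup H where
  carrier := {b | b * y * b⁻¹ = y ∨ b * y * b⁻¹ = y⁻¹}
  one_mem' := Or.inl (by simp)
  mul_mem' := fun {a b} ha hb => by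
    change _ ∨ _
    rw [show a * b * y * (a * b)⁻¹ = a * (b * y * b⁻¹) * a⁻¹ by group]
    rcases hb with e | e <;> rw [e]
    · exact ha
    · rw [← conj_inv]
      rcases ha with e' | e' <;> rw [e'] <;> simp
  inv_mem' := fun {a} ha => by
    change _ ∨ _
    rcases ha with e | e
    · left
      conv_lhs => rw [← e]
      group
    · right
      conv_lhs => rw [← conj_inv_of_conj_eq_inv e]
      group

theorem mem_ecen {y b : H} : b ∈ ecen y ↔ b * y * b⁻¹ = y ∨ b * y * b⁻¹ = y⁻¹ := Iff.rfl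

theorem conj_inverts {y b z : H} (hb : b ∈ ecen y) (hz : z * y * z⁻¹ = y⁻¹) :
    b * z * b⁻¹ * y * (b * z * b⁻¹)⁻¹ = y⁻¹ := by
  have e0 : b * z * b⁻¹ * y * (b * z * b⁻¹)⁻¹ = b * (z * (b⁻¹ * y * b⁻¹⁻¹) * z⁻¹) * b⁻¹ := by
    group
  have e2 : y⁻¹ = b * (b⁻¹ * y * b⁻¹⁻¹)⁻¹ * b⁻¹ := by group
  rw [e0]
  rcases (inv_mem hb : b⁻¹ ∈ ecen y) with e1 | e1
  · rw [e1] at e2
    rw [e1, hz, ← e2]
  · rw [e1, inv_inv] at e2
    rw [e1, conj_inv_of_conj_eq_inv hz, ← e2]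

theorem LA.comm_conj (h : LA φ x u S₀) {t : H} (g : H) (ht : t * x = x * t) :
    g * t * g⁻¹ * x = x * (g * t * g⁻¹) := by
  have hc : Commute t x := ht
  have : Commute t (g⁻¹ * x * g⁻¹⁻¹) := by
    rcases h.norm g⁻¹ with e | e <;> rw [e]
    · exact hc
    · exact hc.inv_right
  calc g * t * g⁻¹ * x = g * (t * (g⁻¹ * x * g⁻¹⁻¹)) * g⁻¹ := by group
    _ = _ := by rw [this.eq]; group

theorem LA.cj_TT (h : LA φ x u S₀) (g : H) (S : Sylow 2 H) : cj g (TT x S) = TT x (g • S) := by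
  ext t
  rw [mem_cj, mem_TT, mem_TT, mem_smul_sylow]
  refine and_congr_right fun _ => ⟨fun e => ?_, fun e => ?_⟩
  · have := h.comm_conj g e
    simpa [mul_assoc] using this
  · simpa using h.comm_conj g⁻¹ e

theorem LA.exists_central [Finite H] (h : LA φ x u S₀) (S : Sylow 2 H) :
    ∃ g ∈ (S : Subgroup H), g * g = 1 ∧ (∀ s ∈ (S : Subgroup H), s * g = g * s) ∧
      g * x * g⁻¹ = x⁻¹ := by
  haveI : Fact (Nat.Prime 2) := ⟨Nat.prime_two⟩
  obtain ⟨c, rfl⟩ := MulAction.exists_smul_eq H S₀ S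
  refine ⟨c * u * c⁻¹, by rw [mem_smul_sylow]; simpa [mul_assoc] using h.mem, ?_, fun s hs => ?_, ?_⟩
  · calc _ = c * (u * u) * c⁻¹ := by group
      _ = 1 := by rw [h.uu]; group
  · have := h.cen _ (mem_smul_sylow.1 hs)
    calc s * (c * u * c⁻¹) = c * (c⁻¹ * s * c * u) * c⁻¹ := by group
      _ = _ := by rw [this]; group
  · exact conj_inverts (h.norm c) h.inv

theorem comm_of_inv_inv {g s x : H} (hg : g * x * g⁻¹ = x⁻¹) (hs : s * x * s⁻¹ = x⁻¹) :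
    g * s * x = x * (g * s) := by
  calc g * s * x = g * (s * x * s⁻¹) * g⁻¹ * (g * s) := by group
    _ = _ := by rw [hs, conj_inv_of_conj_eq_inv hg]

theorem le_TT_of_isPGroup {Q : Subgroup H} (hQ : IsPGroup 2 Q)
    (hC : Q ≤ centralizer {x}) : ∃ S : Sylow 2 H, Q ≤ TT x S := by
  obtain ⟨S, hS⟩ := hQ.exists_le_sylow
  exact ⟨S, le_inf hS hC⟩

section TI

variable [Finite H] [Finite V] (h : LA φ x u S₀)
  (hTI : ∀ (S S' : Sylow 2 H) (t : H), t ≠ 1 → t ∈ TT x S → t ∈ TT x S' → TT x S = TT x S')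
  (hne : ∀ S : Sylow 2 H, ∃ t ∈ TT x S, t ≠ 1)
include h hTI hne

omit [Finite V] in
theorem LA.uniq {v : V} (hv : v ≠ 1) {S S' : Sylow 2 H} (h1 : v ∈ fx φ (TT x S))
    (h2 : v ∈ fx φ (TT x S')) : TT x S = TT x S' := by
  obtain ⟨Sv, hSv⟩ := h.a v
  have key : ∀ S : Sylow 2 H, v ∈ fx φ (TT x S) → TT x S = TT x Sv := fun S h1 => by
    obtain ⟨t, ht, ht1⟩ := hne S
    exact hTI _ _ t ht1 ht
      ⟨h.toAB.le_of_fix hv hSv (isPGroup_TT x S) h1 ht, ht.2⟩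
  rw [key S h1, key S' h2]

omit [Finite V] in
/-- An involution inverting `x` and normalizing a member acts on it as an inner automorphism. -/
theorem LA.exists_inner [Nontrivial V] {S : Sylow 2 H} {s : H} (hs : s * s = 1)
    (hsx : s * x * s⁻¹ = x⁻¹) (hfix : cj s (TT x S) = TT x S) :
    ∃ g t : H, t ∈ TT x S ∧ s = g * t ∧ t * s = s * t ∧ ∀ p ∈ TT x S, p * g = g * p := by
  haveI : Fact (Nat.Prime 2) := ⟨Nat.prime_two⟩
  obtain ⟨v₀, hv₀, hv₀S⟩ : ∃ v₀ : V, v₀ ≠ 1 ∧ v₀ ∈ fx φ (TT x S) := by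
    obtain ⟨v, hv⟩ := exists_ne (1 : V)
    obtain ⟨Sv, hSv⟩ := h.a v
    obtain ⟨c, rfl⟩ := MulAction.exists_smul_eq H Sv S
    refine ⟨φ c v, by simpa using hv, ?_⟩
    rw [← h.cj_TT]
    exact app_mem_fx c fun t ht => hSv t ht.1
  obtain ⟨v, hv, hvS, hvs⟩ : ∃ v : V, v ≠ 1 ∧ v ∈ fx φ (TT x S) ∧ φ s v = v := by
    by_cases e : φ s v₀ = v₀
    · exact ⟨v₀, hv₀, hv₀S, e⟩
    · refine ⟨v₀ * φ s v₀, fun e' => e (mul_left_cancel (e'.trans (h.sq1 v₀).symm)),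
        mul_mem hv₀S (hfix ▸ app_mem_fx s hv₀S), ?_⟩
      rw [map_mul, ← app_mul, hs, app_one, comm_of_sq h.sq1]
  obtain ⟨Sv, hSv⟩ := h.a v
  have hsv : s ∈ (Sv : Subgroup H) := h.toAB.mem_of_fix hv hSv hs hvs
  have hT : TT x S = TT x Sv := h.uniq hTI hne hv hvS fun t ht => hSv t ht.1
  obtain ⟨g, hg, hgg, hgc, hgx⟩ := h.exists_central Sv
  refine ⟨g, g * s, ?_, by rw [← mul_assoc, hgg, one_mul], ?_, fun p hp => ?_⟩
  · rw [hT, mem_TT]
    exact ⟨mul_mem hg hsv, comm_of_inv_inv hgx hsx⟩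
  · rw [← mul_assoc, hgc s hsv]
  · rw [hT] at hp
    exact hgc p hp.1

omit [Finite V] in
theorem LA.exists_conj_fix [Nontrivial V] {S : Sylow 2 H} (hfix : cj u (TT x S) = TT x S) :
    ∃ a : H, a * x = x * a ∧ a * u = u * a ∧ cj a (TT x S₀) = TT x S := by
  haveI : Fact (Nat.Prime 2) := ⟨Nat.prime_two⟩
  obtain ⟨g, t, ht, hu, htu, hg⟩ := h.exists_inner hTI hne h.uu h.inv hfix
  obtain ⟨p, hp, hp1, hpu⟩ : ∃ p ∈ TT x S, p ≠ 1 ∧ p * u = u * p := by
    by_cases ht1 : t = 1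
    · obtain ⟨p, hp, hp1⟩ := hne S
      refine ⟨p, hp, hp1, ?_⟩
      rw [ht1, mul_one] at hu
      rw [hu, hg p hp]
    · exact ⟨t, ht, ht1, htu⟩
  obtain ⟨a, ha, Q, hQK, hQ, hTQ, hconj⟩ := exists_conj_le (p := 2)
    (K := centralizer {x} ⊓ centralizer {u}) (X := zpowers p) (Y := TT x S₀)
    ((isPGroup_TT x S).to_le (zpowers_le.2 hp)) (isPGroup_TT x S₀)
    (zpowers_le.2 ⟨hp.2, mem_centralizer_singleton_iff.2 hpu⟩)
    (fun s hs => ⟨hs.2, mem_centralizer_singleton_iff.2 (h.cen s hs.1)⟩)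
  obtain ⟨S'', hS''⟩ := le_TT_of_isPGroup hQ (hQK.trans inf_le_left)
  obtain ⟨t₀, ht₀, ht₀1⟩ := hne S₀
  have e : TT x S₀ = TT x S'' := hTI _ _ t₀ ht₀1 ht₀ (hS'' (hTQ ht₀))
  have ha' := inv_mem ha
  refine ⟨a⁻¹, mem_centralizer_singleton_iff.1 ha'.1, mem_centralizer_singleton_iff.1 ha'.2, ?_⟩
  rw [h.cj_TT]
  refine hTI _ _ p hp1 ?_ hp
  rw [← h.cj_TT, mem_cj, inv_inv, e]
  exact hS'' (hconj p (mem_zpowers p))

omit [Finite V] in
theorem LA.key [Nontrivial V] {z a : H} (hz : z ∈ TT x S₀) (hz1 : z ≠ 1) (hzz : z * z = 1)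
    (hax : a * x = x * a) (hau : a * u = u * a) {S S' : Sylow 2 H}
    (hS : cj (u * z) (TT x S) = TT x S) (hS' : cj (u * z) (TT x S') = TT x S')
    (ha : cj a (TT x S) = TT x S') : cj a (TT x S₀) = TT x S₀ := by
  haveI : Fact (Nat.Prime 2) := ⟨Nat.prime_two⟩
  have hzu : z * u = u * z := h.cen z hz.1
  have hzx : z * x = x * z := (mem_TT.1 hz).2
  set z' := a * z * a⁻¹ with hz'
  have hz'z : z' * z' = 1 := by
    calc _ = a * (z * z) * a⁻¹ := by rw [hz']; group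
      _ = 1 := by rw [hzz]; group
  have hz'u : Commute z' u :=
    ((show Commute a u from hau).mul_left hzu).mul_left (show Commute a u from hau).inv_left
  have hz'x : Commute z' x :=
    ((show Commute a x from hax).mul_left hzx).mul_left (show Commute a x from hax).inv_left
  set y := z * z' with hy
  have hs : (u * z) * (u * z) = 1 := by
    calc _ = u * (z * u) * z := by group
      _ = (u * u) * (z * z) := by rw [hzu]; group
      _ = 1 := by rw [h.uu, hzz, one_mul]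
  have hsx : (u * z) * x * (u * z)⁻¹ = x⁻¹ := by
    calc _ = u * (z * x) * z⁻¹ * u⁻¹ := by group
      _ = u * x * u⁻¹ := by rw [hzx]; group
      _ = _ := h.inv
  have hyfix : cj y (TT x S') = TT x S' := by
    have e : y = (u * z) * (a * (u * z) * a⁻¹) := by
      calc y = (u * u) * z * z' := by rw [h.uu, one_mul]
        _ = u * (u * z) * z' := by group
        _ = u * (z * u) * z' := by rw [hzu]
        _ = u * z * (u * a) * z * a⁻¹ := by rw [hz']; group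
        _ = _ := by rw [← hau]; group
    have e2 : cj a⁻¹ (TT x S') = TT x S := by rw [← ha, ← cj_mul, inv_mul_cancel, cj_one]
    rw [e, cj_mul (u * z), cj_mul (a * (u * z)), cj_mul a, e2, hS, ha, hS']
  have hzi : z⁻¹ = z := inv_eq_of_mul_eq_one_right hzz
  have hz'i : z'⁻¹ = z' := inv_eq_of_mul_eq_one_right hz'z
  have hzy : z * y * z⁻¹ = y⁻¹ := by
    rw [hy, mul_inv_rev, hzi, hz'i, ← mul_assoc, hzz, one_mul]
  have huy : Commute u y := (show Commute u z from hzu.symm).mul_right hz'u.symm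
  have hsy : (u * z) * y * (u * z)⁻¹ = y⁻¹ := by
    calc _ = u * (z * y * z⁻¹) * u⁻¹ := by group
      _ = _ := by rw [hzy, huy.inv_right.eq]; group
  obtain ⟨g, t, ht, hst, -, hg⟩ := h.exists_inner hTI hne hs hsx hS'
  have hgC : g ∈ centralizer (TT x S' : Set H) := mem_centralizer_iff.2 hg
  have hp : t * (y * t⁻¹ * y⁻¹) ∈ TT x S' := mul_mem ht (conj_mem_of_cj_eq hyfix (inv_mem ht))
  have hg' : y * g⁻¹ * y⁻¹ ∈ centralizer (TT x S' : Set H) := by
    rw [mem_centralizer_iff]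
    intro p hp
    have hp' : y⁻¹ * p * y ∈ TT x S' := by rw [← mem_cj, hyfix]; exact hp
    have := mem_centralizer_iff.1 (inv_mem hgC) _ hp'
    calc p * (y * g⁻¹ * y⁻¹) = y * (y⁻¹ * p * y * g⁻¹) * y⁻¹ := by group
      _ = _ := by rw [this]; group
  set p := t * (y * t⁻¹ * y⁻¹) with hpdef
  set c := g * (y * g⁻¹ * y⁻¹) with hcdef
  have hc : c ∈ centralizer (TT x S' : Set H) := mul_mem hgC hg'
  have hy2 : y⁻¹ ^ 2 = c * p := by
    have h1 := mem_centralizer_iff.1 hg' p hp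
    calc y⁻¹ ^ 2 = (g * t) * y * (g * t)⁻¹ * y⁻¹ := by rw [← hst, hsy, pow_two]
      _ = g * (p * (y * g⁻¹ * y⁻¹)) := by rw [hpdef]; group
      _ = c * p := by rw [h1, hcdef]; group
  obtain ⟨n, hn⟩ := isPGroup_TT x S' ⟨p, hp⟩
  have hn' : p ^ 2 ^ n = 1 := congrArg Subtype.val hn
  have hcp : Commute c p := (mem_centralizer_iff.1 hc p hp).symm
  set y₁ := y ^ 2 ^ (n + 1) with hy₁
  have hy₁C : y₁ ∈ centralizer (TT x S' : Set H) := by
    rw [← inv_mem_iff, hy₁, ← inv_pow, pow_succ', pow_mul, hy2, hcp.mul_pow, hn', mul_one]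
    exact pow_mem hc _
  have hzy₁ : z * y₁ * z⁻¹ = y₁⁻¹ := by rw [hy₁, ← conj_pow, hzy, inv_pow]
  obtain ⟨b, hb, Q, hQK, hQ, hTQ, hconj⟩ := exists_conj_le (p := 2)
    (K := centralizer {x} ⊓ ecen y₁) (X := zpowers z) (Y := TT x S')
    (isPGroup_zpowers_of_mul_self hzz) (isPGroup_TT x S')
    (zpowers_le.2 ⟨hz.2, Or.inr hzy₁⟩)
    (fun s hs => ⟨hs.2, Or.inl (by rw [mem_centralizer_iff.1 hy₁C s hs]; group)⟩)
  obtain ⟨S'', hS''⟩ := le_TT_of_isPGroup hQ (hQK.trans inf_le_left)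
  obtain ⟨t₀, ht₀, ht₀1⟩ := hne S'
  have e : TT x S' = TT x S'' := hTI _ _ t₀ ht₀1 ht₀ (hS'' (hTQ ht₀))
  have hbz : b * z * b⁻¹ ∈ TT x S' := e ▸ hS'' (hconj z (mem_zpowers z))
  have h1 : b * z * b⁻¹ * y₁ * (b * z * b⁻¹)⁻¹ = y₁ := by
    rw [mem_centralizer_iff.1 hy₁C _ hbz]; group
  have h2 : b * z * b⁻¹ * y₁ * (b * z * b⁻¹)⁻¹ = y₁⁻¹ := conj_inverts hb.2 hzy₁
  have h3 : (z * z') ^ 2 ^ (n + 2) = 1 := by
    rw [← hy, pow_succ, pow_mul, ← hy₁, pow_two]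
    nth_rewrite 2 [← h1]
    rw [h2, mul_inv_cancel]
  obtain ⟨S₃, hS₃⟩ := le_TT_of_isPGroup (x := x) (L.isPGroup_two_closure_of_involutions hzz hz'z h3)
    ((closure_le _).2 (by
      rintro _ (rfl | rfl)
      · exact hz.2
      · exact mem_centralizer_singleton_iff.2 hz'x.eq))
  have e3 : TT x S₀ = TT x S₃ := hTI _ _ z hz1 hz (hS₃ (subset_closure (by simp)))
  have hz'1 : z' ≠ 1 := fun e => hz1 (by simpa [hz'] using e)
  rw [h.cj_TT]
  refine hTI _ _ z' hz'1 ?_ (e3 ▸ hS₃ (subset_closure (by simp)))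
  rw [← h.cj_TT]
  exact conj_mem_cj hz

theorem LA.ti [Nontrivial V] (S₁ : Sylow 2 H) : TT x S₁ = TT x S₀ := by
  classical
  haveI : Fact (Nat.Prime 2) := ⟨Nat.prime_two⟩
  by_contra hne1
  haveI := Fintype.ofFinite (Sylow 2 H)
  obtain ⟨z, hz, hz1, hzz⟩ : ∃ z ∈ TT x S₀, z ≠ 1 ∧ z * z = 1 := by
    obtain ⟨t, ht, ht1⟩ := hne S₀
    have hb : TT x S₀ ≠ ⊥ := fun e => ht1 (by rwa [e, mem_bot] at ht)
    obtain ⟨n, hn, hc⟩ := (isPGroup_TT x S₀).nontrivial_iff_card.1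
      ((nontrivial_iff_ne_bot _).2 hb)
    obtain ⟨z, hz⟩ := exists_prime_orderOf_dvd_card' (G := TT x S₀) 2
      (by rw [hc]; exact dvd_pow_self 2 hn.ne')
    refine ⟨z, z.2, fun e => ?_, ?_⟩
    · rw [show z = 1 from Subtype.ext e, orderOf_one] at hz; omega
    · have := pow_orderOf_eq_one z
      rw [hz, pow_two] at this
      exact congrArg Subtype.val this
  set q := Nat.card (fx φ (TT x S₀)) with hq
  have hcard : ∀ S : Sylow 2 H, Nat.card (fx φ (TT x S)) = q := fun S => by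
    obtain ⟨c, rfl⟩ := MulAction.exists_smul_eq H S₀ S
    rw [← h.cj_TT, card_fx_cj]
  have hq2 : 2 ≤ q := by
    obtain ⟨v, hv⟩ := exists_ne (1 : V)
    obtain ⟨Sv, hSv⟩ := h.a v
    rw [← hcard Sv]
    exact Finite.one_lt_card_iff_nontrivial.2
      ((nontrivial_iff_exists_ne_one _).2 ⟨v, fun t ht => hSv t ht.1, hv⟩)
  have hV1 : Nat.card V ≤ q ^ 2 := by
    refine (card_le_sq_fixAut h.sq1 (α := φ z) fun v => by rw [← app_mul, hzz, app_one]).trans ?_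
    refine Nat.pow_le_pow_left (card_le_of_le fun v hv => ?_) 2
    by_cases hv1 : v = 1
    · rw [hv1]; exact one_mem _
    · obtain ⟨Sv, hSv⟩ := h.a v
      rw [hTI S₀ Sv z hz1 hz ⟨h.toAB.mem_of_fix hv1 hSv hzz hv, hz.2⟩]
      exact fun t ht => hSv t ht.1
  have hV2 : q ^ 2 ≤ Nat.card V := by
    rw [← card_top (G := V), pow_two]
    nth_rewrite 1 [← hcard S₁]
    refine card_mul_le_of_disjoint le_top le_top fun v h1 h2 => ?_
    by_contra hv
    exact hne1 (h.uniq hTI hne hv h1 h2)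
  let Ω : Finset (Subgroup H) := Finset.univ.image (TT x)
  have hΩ : ∀ P, P ∈ Ω ↔ ∃ S, TT x S = P := fun P => by simp [Ω]
  have hn : Ω.card * (q - 1) ≤ q ^ 2 - 1 := by
    refine (count_disjoint Ω (fx φ) ?_ q ?_).trans (Nat.sub_le_sub_right hV1 1)
    · intro i hi j hj v hv h1 h2
      obtain ⟨S, rfl⟩ := (hΩ i).1 hi
      obtain ⟨S', rfl⟩ := (hΩ j).1 hj
      exact h.uniq hTI hne hv h1 h2
    · intro i hi
      obtain ⟨S, rfl⟩ := (hΩ i).1 hi
      exact hcard S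
  have hfix : ∀ s : H, s * s = 1 → s * x * s⁻¹ = x⁻¹ →
      q - 1 ≤ (Ω.filter fun P => cj s P = P).card * (q.sqrt - 1) := by
    intro s hs hsx
    refine le_trans (Nat.sub_le_sub_right ?_ 1) (count_cover _ (fx φ) (fixAut (φ s)) _ ?_ ?_)
    · have := hV2.trans (card_le_sq_fixAut h.sq1 (α := φ s)
        fun v => by rw [← app_mul, hs, app_one])
      exact (Nat.pow_le_pow_iff_left two_ne_zero).1 this
    · intro v hv hv1
      obtain ⟨Sv, hSv⟩ := h.a v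
      have h1 : v ∈ fx φ (TT x Sv) := fun t ht => hSv t ht.1
      refine ⟨TT x Sv, Finset.mem_filter.2 ⟨(hΩ _).2 ⟨Sv, rfl⟩, ?_⟩, h1⟩
      have h2 := app_mem_fx s h1
      rw [show φ s v = v from hv, h.cj_TT] at h2
      rw [h.cj_TT]
      exact h.uniq hTI hne hv1 h2 h1
    · intro i hi
      obtain ⟨S, rfl⟩ := (hΩ i).1 (Finset.mem_filter.1 hi).1
      rw [Nat.le_sqrt', ← hcard S]
      refine h.toAB.sq_card_le h.odd h.ne hsx fun v hv t ht => ?_
      rw [← app_mul, (mem_TT.1 ht).2, app_mul, hv t ht]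
  have hzu : z * u = u * z := h.cen z hz.1
  have hs : (u * z) * (u * z) = 1 := by
    calc _ = u * (z * u) * z := by group
      _ = (u * u) * (z * z) := by rw [hzu]; group
      _ = 1 := by rw [h.uu, hzz, one_mul]
  have hsx : (u * z) * x * (u * z)⁻¹ = x⁻¹ := by
    calc _ = u * (z * x) * z⁻¹ * u⁻¹ := by group
      _ = u * x * u⁻¹ := by rw [(mem_TT.1 hz).2]; group
      _ = _ := h.inv
  refine arith hq2 (Nat.sqrt_le' q) hn ?_ (hfix u h.uu h.inv) (hfix (u * z) hs hsx)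
  have hch : ∀ P : Subgroup H, ∃ a : H, P ∈ (Ω.filter fun P => cj u P = P) →
      a * x = x * a ∧ a * u = u * a ∧ cj a (TT x S₀) = P := by
    intro P
    by_cases hP : P ∈ (Ω.filter fun P => cj u P = P)
    · obtain ⟨hP1, hP2⟩ := Finset.mem_filter.1 hP
      obtain ⟨S, rfl⟩ := (hΩ P).1 hP1
      obtain ⟨a, ha⟩ := h.exists_conj_fix hTI hne hP2
      exact ⟨a, fun _ => ha⟩
    · exact ⟨1, fun h => absurd h hP⟩
  choose A hA using hch
  rw [← Finset.card_product]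
  refine Finset.card_le_card_of_injOn (fun p => cj (A p.1) p.2) ?_ ?_
  · rintro ⟨P, X⟩ hp
    obtain ⟨-, hX⟩ := Finset.mem_product.1 hp
    obtain ⟨S, rfl⟩ := (hΩ X).1 (Finset.mem_filter.1 hX).1
    exact (hΩ _).2 ⟨_, (h.cj_TT _ _).symm⟩
  · rintro ⟨P, X⟩ hp ⟨P', X'⟩ hp' e
    obtain ⟨hP, hX⟩ := Finset.mem_product.1 hp
    obtain ⟨hP', hX'⟩ := Finset.mem_product.1 hp'
    obtain ⟨hX1, hX2⟩ := Finset.mem_filter.1 hX
    obtain ⟨hX1', hX2'⟩ := Finset.mem_filter.1 hX'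
    obtain ⟨S, rfl⟩ := (hΩ X).1 hX1
    obtain ⟨S', rfl⟩ := (hΩ X').1 hX1'
    obtain ⟨a1, a2, a3⟩ := hA P hP
    obtain ⟨b1, b2, b3⟩ := hA P' hP'
    simp only at e
    have e1 : cj ((A P')⁻¹ * A P) (TT x S) = TT x S' := by
      rw [cj_mul, e, ← cj_mul, inv_mul_cancel, cj_one]
    have e2 := h.key hTI hne hz hz1 hzz
      ((show Commute (A P') x from b1).inv_left.mul_left a1).eq
      ((show Commute (A P') u from b2).inv_left.mul_left a2).eq hX2 hX2' e1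
    have e3 : P = P' := by
      rw [← a3, ← b3, ← mul_inv_cancel_left (A P') (A P), cj_mul, e2]
    subst e3
    rw [cj_injective _ e]

end TI

end

end Cfsg.Agent.H7.RD
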