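import Cfsg.Agent.H7.RealB

/-! The local lemma in general, by induction. -/

set_option autoImplicit false

namespace Cfsg.Agent.H7.RD

open Subgroup Cfsg
open scoped Pointwise

universe u v

section

variable {H V : Type*} [Group H] [Group V] {φ : H →* MulAut V}

theorem card_cj (g : H) (P : Subgroup H) : Nat.card (cj g P) = Nat.card P :=
  (Nat.card_congr (Subgroup.equivSMul (MulAut.conj g) P).toEquiv).symm

theorem cj_inf (g : H) (P Q : Subgroup H) : cj g (P ⊓ Q) = cj g P ⊓ cj g Q := by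
  ext h; simp [mem_cj]

theorem cj_sylow {p : ℕ} (g : H) (S : Sylow p H) :
    cj g (S : Subgroup H) = ((g • S : Sylow p H) : Subgroup H) := by
  ext h; rw [mem_cj, mem_smul_sylow]

theorem le_sylow_of_normal {p : ℕ} {D : Subgroup H} [D.Normal] (hD : IsPGroup p D)
    (S : Sylow p H) : D ≤ S :=
  S.is_maximal' (hD.to_sup_of_normal_left S.isPGroup') le_sup_right ▸ le_sup_left

theorem AB.exists_fix [Finite H] [Nontrivial V] (h : AB φ) (S : Sylow 2 H) :
    ∃ v : V, v ≠ 1 ∧ v ∈ fx φ S := by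
  haveI : Fact (Nat.Prime 2) := ⟨Nat.prime_two⟩
  obtain ⟨v, hv⟩ := exists_ne (1 : V)
  obtain ⟨Sv, hSv⟩ := h.a v
  obtain ⟨c, rfl⟩ := MulAction.exists_smul_eq H Sv S
  refine ⟨φ c v, by simpa using hv, ?_⟩
  rw [← cj_sylow]
  exact app_mem_fx c hSv

theorem coprime_of_odd_of_isPGroup {D : Subgroup H} [Finite D] (hD : IsPGroup 2 D) {n : ℕ}
    (hn : Odd n) : n.Coprime (Nat.card D) := by
  haveI : Fact (Nat.Prime 2) := ⟨Nat.prime_two⟩
  obtain ⟨k, hk⟩ := hD.exists_card_eq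
  rw [hk]
  exact (Nat.coprime_two_right.2 hn).pow_right _

theorem exists_lift_real [Finite H] (D : Subgroup H) [D.Normal] (hD : IsPGroup 2 D)
    {y g : H ⧸ D} (hy : Odd (orderOf y)) (hg : g * y * g⁻¹ = y⁻¹) :
    ∃ y' g' : H, QuotientGroup.mk' D y' = y ∧ orderOf y' = orderOf y ∧ g' * y' * g'⁻¹ = y'⁻¹ := by
  obtain ⟨y', rfl, ho⟩ := H5.exists_lift_orderOf_eq D y (coprime_of_odd_of_isPGroup hD hy)
  obtain ⟨g', -, hg'⟩ := H5.exists_lift_conj_eq_zpow D (x := y') (y := g) (k := -1)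
    (coprime_of_odd_of_isPGroup hD (ho ▸ hy)) (by rw [hg, zpow_neg_one])
  exact ⟨y', g', rfl, ho, by rw [hg', zpow_neg_one]⟩

theorem AB.quot [Finite H] (h : AB φ) (D : Subgroup H) [D.Normal] (hD : IsPGroup 2 D) :
    ∃ ψ : H ⧸ D →* MulAut V, AB ψ := by
  haveI : Fact (Nat.Prime 2) := ⟨Nat.prime_two⟩
  have hker : D ≤ φ.ker := fun d hd => by
    ext v
    obtain ⟨S, hS⟩ := h.a v
    exact hS d (le_sylow_of_normal hD S hd)
  refine ⟨QuotientGroup.lift D φ hker, h.sq1, fun v => ?_, fun y g v hy hg hv => ?_⟩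
  · obtain ⟨S, hS⟩ := h.a v
    refine ⟨S.mapSurjective (QuotientGroup.mk'_surjective D), ?_⟩
    rintro _ ⟨s, hs, rfl⟩
    exact hS s hs
  · obtain ⟨y', g', rfl, ho, hg'⟩ := exists_lift_real D hD hy hg
    rcases h.b y' g' v (ho ▸ hy) hg' hv with e | e
    · left; rw [e, map_one]
    · exact Or.inr e

theorem AB.res (h : AB φ) (K : Subgroup H) (W : Subgroup V) (hW : ∀ g : K, ∀ w ∈ W, φ g w ∈ W)
    (ha : ∀ v ∈ W, ∃ P : Sylow 2 K, ∀ s ∈ (P : Subgroup K), φ s v = v) :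
    AB (resAut (φ.comp K.subtype) W hW) := by
  refine ⟨fun v => Subtype.ext (h.sq1 v), fun v => ?_, fun y g v hy hg hv => ?_⟩
  · obtain ⟨P, hP⟩ := ha v v.2
    exact ⟨P, fun s hs => Subtype.ext (hP s hs)⟩
  · rcases h.b y g v (by rwa [orderOf_coe]) (by exact_mod_cast congrArg Subtype.val hg)
      (congrArg Subtype.val hv) with e | e
    · exact Or.inl (Subtype.ext e)
    · exact Or.inr (Subtype.ext e)

end

theorem LA.closed_aux (n : ℕ) : ∀ (H : Type u) [Group H] [Finite H] (V : Type v) [Group V]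
    [Finite V] [Nontrivial V] (φ : H →* MulAut V) (x u : H) (S₀ : Sylow 2 H),
    Nat.card H = n → LA φ x u S₀ → ∀ S S' : Sylow 2 H, TT x S = TT x S' := by
  induction n using Nat.strong_induction_on with
  | _ n ih =>
  intro H _ _ V _ _ _ φ x u S₀ hn h
  haveI : Fact (Nat.Prime 2) := ⟨Nat.prime_two⟩
  by_contra hcon
  push Not at hcon
  obtain ⟨⟨S₁, S₂⟩, hne12, hmax⟩ := Set.exists_max_image
    {p : Sylow 2 H × Sylow 2 H | TT x p.1 ≠ TT x p.2}
    (fun p => Nat.card (TT x p.1 ⊓ TT x p.2 : Subgroup H)) (Set.toFinite _)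
    (by obtain ⟨S, S', e⟩ := hcon; exact ⟨(S, S'), e⟩)
  obtain ⟨c, hc⟩ := MulAction.exists_smul_eq H S₁ S₀
  set S₃ := c • S₂ with hS₃
  have hne03 : TT x S₀ ≠ TT x S₃ := by
    intro e
    rw [← hc, hS₃, ← h.cj_TT, ← h.cj_TT] at e
    exact hne12 (cj_injective c e)
  set D := TT x S₀ ⊓ TT x S₃ with hD
  have hDc : Nat.card D = Nat.card (TT x S₁ ⊓ TT x S₂ : Subgroup H) := by
    rw [hD, ← hc, hS₃, ← h.cj_TT, ← h.cj_TT, ← cj_inf, card_cj]
  have hD2 : IsPGroup 2 D := (isPGroup_TT x S₀).to_inf_left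
  have hDx : D ≤ centralizer {x} := fun d hd => hd.1.2
  have hmax' : ∀ (S S' : Sylow 2 H) (t : H), D ≤ S → D ≤ S' → t ∉ D → t ∈ TT x S → t ∈ TT x S' →
      TT x S = TT x S' := by
    intro S S' t h1 h2 h3 h4 h5
    by_contra e
    have h6 := hmax (S, S') e
    simp only at h6
    rw [← hDc] at h6
    have h7 : D ≤ TT x S ⊓ TT x S' := le_inf (le_inf h1 hDx) (le_inf h2 hDx)
    exact h3 (eq_of_le_of_card_ge h7 h6 ▸ (⟨h4, h5⟩ : t ∈ TT x S ⊓ TT x S'))
  have hcardT : ∀ S : Sylow 2 H, Nat.card (TT x S) = Nat.card (TT x S₀) := fun S => by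
    obtain ⟨c, rfl⟩ := MulAction.exists_smul_eq H S₀ S
    rw [← h.cj_TT, card_cj]
  have hlt : ∀ S : Sylow 2 H, D ≤ S → D < TT x S := by
    intro S hS
    refine lt_of_le_of_ne (le_inf hS hDx) fun e => hne03 ?_
    have h1 : D = TT x S₀ := eq_of_le_of_card_ge inf_le_left (by rw [e, hcardT S])
    exact eq_of_le_of_card_ge (h1 ▸ inf_le_right) (hcardT S₃).le
  by_cases hbot : D = ⊥
  · refine hne03 (h.ti ?_ ?_ S₃).symm
    · intro S S' t ht h1 h2
      exact hmax' S S' t (hbot ▸ bot_le) (hbot ▸ bot_le) (by rwa [hbot, mem_bot]) h1 h2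
    · intro S
      obtain ⟨t, h1, h2⟩ := SetLike.exists_of_lt (hlt S (hbot ▸ bot_le))
      exact ⟨t, h1, by rwa [hbot, mem_bot] at h2⟩
  by_cases hnorm : D.Normal
  · obtain ⟨ψ, hψ⟩ := h.toAB.quot D hD2
    have hco := coprime_of_odd_of_isPGroup hD2 h.odd
    have hL : LA ψ (QuotientGroup.mk' D x) (QuotientGroup.mk' D u)
        (S₀.mapSurjective (QuotientGroup.mk'_surjective D)) :=
      { toAB := hψ
        odd := h.odd.of_dvd_nat (orderOf_map_dvd _ x)
        ne := fun e => h.ne (by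
          have h1 : x ∈ D := (QuotientGroup.eq_one_iff x).1 e
          exact orderOf_eq_one_iff.1 (hco.eq_one_of_dvd (orderOf_dvd_natCard D h1)))
        norm := fun g => by
          obtain ⟨g, rfl⟩ := QuotientGroup.mk'_surjective D g
          rw [← map_inv, ← map_mul, ← map_mul, ← map_inv]
          rcases h.norm g with e | e <;> rw [e] <;> simp
        uu := by rw [← map_mul, h.uu, map_one]
        mem := mem_map_of_mem _ h.mem
        cen := by
          rintro _ ⟨s, hs, rfl⟩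
          rw [← map_mul, ← map_mul, h.cen s hs]
        inv := by rw [← map_inv, ← map_mul, ← map_mul, h.inv, map_inv] }
    have hlt' : Nat.card (H ⧸ D) < n := by
      rw [← hn, ← index_eq_card, ← D.card_mul_index]
      have h1 : 1 < Nat.card D := Finite.one_lt_card_iff_nontrivial.2
        ((nontrivial_iff_ne_bot _).2 hbot)
      exact lt_mul_of_one_lt_left (Nat.pos_of_ne_zero index_ne_zero_of_finite) h1
    have key := ih _ hlt' (H ⧸ D) V ψ _ _ _ rfl hL
    obtain ⟨t, h1, h2⟩ := SetLike.exists_of_lt (hlt S₀ fun d hd => hd.1.1)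
    have h3 : QuotientGroup.mk' D t ∈ TT (QuotientGroup.mk' D x)
        (S₀.mapSurjective (QuotientGroup.mk'_surjective D)) :=
      mem_TT.2 ⟨mem_map_of_mem _ h1.1, by rw [← map_mul, ← map_mul, (mem_TT.1 h1).2]⟩
    rw [key _ (S₃.mapSurjective (QuotientGroup.mk'_surjective D))] at h3
    obtain ⟨s, hs, e⟩ := h3.1
    have h4 : s⁻¹ * t ∈ D := QuotientGroup.eq.1 e
    have h5 : t ∈ (S₃ : Subgroup H) := (mul_mem_cancel_left (inv_mem hs)).1 h4.2.1
    exact h2 ⟨h1, h5, h1.2⟩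
  · set N := normalizer (D : Set H) with hN
    have hgrow : ∀ S : Sylow 2 H, D ≤ S → ∃ t ∈ TT x S, t ∈ N ∧ t ∉ D := by
      intro S hS
      haveI := (isPGroup_TT x S).isNilpotent
      obtain ⟨t, h1, h2⟩ := SetLike.exists_of_lt (L.lt_inf_normalizer_of_isNilpotent (hlt S hS))
      exact ⟨t, h1.1, h1.2, h2⟩
    have hcN : ∀ g : H, (∀ d ∈ D, d * g = g * d) → g ∈ N := fun g hg =>
      centralizer_le_normalizer (D : Set H) (mem_centralizer_iff.2 hg)
    have hsyl : ∀ S : Sylow 2 H, D ≤ S →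
        ∃ P : Sylow 2 N, (P : Subgroup N) = (S : Subgroup H).comap N.subtype := by
      intro S hS
      refine ⟨⟨(S : Subgroup H).comap N.subtype, S.isPGroup'.comap_subtype, fun {Q} hQ hle => ?_⟩,
        rfl⟩
      obtain ⟨S'', hS''⟩ := (hQ.map N.subtype).exists_le_sylow
      obtain ⟨t, h1, h2, h3⟩ := hgrow S hS
      have hQS : ∀ q ∈ Q, (q : H) ∈ (S'' : Subgroup H) := fun q hq => hS'' (mem_map_of_mem _ hq)
      have e : TT x S = TT x S'' := hmax' S S'' t hS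
        (fun d hd => hQS ⟨d, le_normalizer hd⟩ (hle (hS hd))) h3 h1
        ⟨hQS ⟨t, h2⟩ (hle h1.1), h1.2⟩
      have hQC : ∀ q ∈ Q, (q : H) * x = x * q → (q : H) ∈ (S : Subgroup H) := fun q hq hqx =>
        (e ▸ (mem_TT.2 ⟨hQS q hq, hqx⟩) : (q : H) ∈ TT x S).1
      refine le_antisymm (fun q hq => ?_) hle
      rcases h.norm q with e1 | e1
      · exact hQC q hq (mul_inv_eq_iff_eq_mul.1 e1)
      · obtain ⟨g, hg, -, hgc, hgx⟩ := h.exists_central S
        have hgN : g ∈ N := hcN g fun d hd => hgc d (hS hd)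
        have := hQC (⟨g, hgN⟩ * q) (mul_mem (hle hg) hq) (comm_of_inv_inv hgx e1)
        exact (mul_mem_cancel_left hg).1 this
    have hW : ∀ g : N, ∀ w ∈ fx φ D, φ g w ∈ fx φ D := by
      intro g w hw t ht
      refine app_mem_fx (g : H) hw t (mem_cj.2 ?_)
      have := (mem_normalizer_iff.1 (inv_mem g.2) t).1 ht
      rwa [inv_inv] at this
    have hAB := h.toAB.res N (fx φ D) hW (by
      intro v hv
      by_cases hv1 : v = 1
      · obtain ⟨P⟩ := (inferInstance : Nonempty (Sylow 2 N))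
        exact ⟨P, fun s _ => by rw [hv1, map_one]⟩
      · obtain ⟨S, hS⟩ := h.a v
        obtain ⟨P, hP⟩ := hsyl S (h.toAB.le_of_fix hv1 hS hD2 hv)
        exact ⟨P, fun s hs => hS s (by rwa [hP] at hs)⟩)
    haveI : Nontrivial (fx φ D) := by
      obtain ⟨v, hv, hvS⟩ := h.toAB.exists_fix S₀
      exact (nontrivial_iff_exists_ne_one _).2 ⟨v, fun d hd => hvS d hd.1.1, hv⟩
    have hxN : x ∈ N := hcN x fun d hd => mem_centralizer_singleton_iff.1 (hDx hd)
    have huN : u ∈ N := hcN u fun d hd => h.cen d hd.1.1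
    obtain ⟨P₀, hP₀⟩ := hsyl S₀ fun d hd => hd.1.1
    obtain ⟨P₃, hP₃⟩ := hsyl S₃ fun d hd => hd.2.1
    have hL : LA (resAut (φ.comp N.subtype) (fx φ D) hW) ⟨x, hxN⟩ ⟨u, huN⟩ P₀ :=
      { toAB := hAB
        odd := by rw [orderOf_mk]; exact h.odd
        ne := fun e => h.ne (congrArg Subtype.val e)
        norm := fun g => (h.norm g).imp Subtype.ext Subtype.ext
        uu := Subtype.ext h.uu
        mem := by rw [hP₀]; exact h.mem
        cen := fun s hs => Subtype.ext (h.cen s (by rwa [hP₀] at hs))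
        inv := Subtype.ext h.inv }
    have hlt' : Nat.card N < n := by
      rw [← hn, ← card_top (G := H)]
      exact L.card_lt_of_lt (lt_top_iff_ne_top.2 fun e => hnorm (normalizer_eq_top_iff.1 e))
    have key := ih _ hlt' N (fx φ D) _ _ _ _ rfl hL P₀ P₃
    obtain ⟨t, h1, h2, h3⟩ := hgrow S₀ fun d hd => hd.1.1
    have h4 : (⟨t, h2⟩ : N) ∈ TT (⟨x, hxN⟩ : N) P₀ :=
      mem_TT.2 ⟨by rw [hP₀]; exact h1.1, Subtype.ext (mem_TT.1 h1).2⟩
    rw [key, mem_TT, hP₃] at h4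
    exact h3 ⟨h1, h4.1, h1.2⟩

end Cfsg.Agent.H7.RD
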