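import Cfsg.Agent.H7.RealC
import Cfsg.Agent.H7.FTCor
import Cfsg.Agent.H7.ClassAux

/-! Solvability of groups with the three properties, modulo the odd order theorem. -/

set_option autoImplicit false

namespace Cfsg.Agent.H7.RD

open Subgroup Cfsg
open scoped Pointwise

universe u v

/-- centralizers of real elements of odd order are transitive on the Sylow `2`-subgroups -/
def CT (G : Type*) [Group G] : Prop :=
  ∀ y g : G, Odd (orderOf y) → g * y * g⁻¹ = y⁻¹ → ∀ S S' : Sylow 2 G,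
    ∃ c : G, c * y = y * c ∧ c • S = S'

section

variable {G V : Type*} [Group G] [Group V] {φ : G →* MulAut V}

theorem CT.quot [Finite G] (h : CT G) (D : Subgroup G) [D.Normal] (hD : IsPGroup 2 D) :
    CT (G ⧸ D) := by
  haveI : Fact (Nat.Prime 2) := ⟨Nat.prime_two⟩
  intro y g hy hg S S'
  obtain ⟨y', g', rfl, ho, hg'⟩ := exists_lift_real D hD hy hg
  obtain ⟨S, rfl⟩ := Sylow.mapSurjective_surjective (QuotientGroup.mk'_surjective D) 2 S
  obtain ⟨S', rfl⟩ := Sylow.mapSurjective_surjective (QuotientGroup.mk'_surjective D) 2 S'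
  obtain ⟨c, hc, rfl⟩ := h y' g' (ho ▸ hy) hg' S S'
  refine ⟨QuotientGroup.mk' D c, by rw [← map_mul, ← map_mul, hc], Sylow.ext ?_⟩
  ext a
  rw [mem_smul_sylow, Sylow.coe_mapSurjective, Sylow.coe_mapSurjective]
  constructor
  · rintro ⟨s, hs, e⟩
    refine ⟨c * s * c⁻¹, mem_smul_sylow.2 (by
      rw [show c⁻¹ * (c * s * c⁻¹) * c = s by group]; exact hs), ?_⟩
    rw [map_mul, map_mul, e, map_inv]; group
  · rintro ⟨s, hs, rfl⟩
    exact ⟨_, mem_smul_sylow.1 hs, by rw [map_mul, map_mul, map_inv]⟩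

theorem lemmaA [Finite G] [Finite V] [Nontrivial V] (hAB : AB φ) (hC : CT G)
    (hO : pCore 2 G = ⊥) {x u : G} {S₀ : Sylow 2 G} (hx : Odd (orderOf x)) (hx1 : x ≠ 1)
    (huu : u * u = 1) (hu : u ∈ (S₀ : Subgroup G)) (hcen : ∀ s ∈ (S₀ : Subgroup G), s * u = u * s)
    (hinv : u * x * u⁻¹ = x⁻¹) {S : Sylow 2 G} {t : G} (ht : t ∈ (S : Subgroup G))
    (htx : t * x = x * t) : t = 1 := by
  haveI : Fact (Nat.Prime 2) := ⟨Nat.prime_two⟩
  have hcH : ∀ c : G, c * x = x * c → c ∈ ecen x := fun c hc =>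
    Or.inl (by rw [hc]; group)
  have hsyl : ∀ S : Sylow 2 G, ∃ P : Sylow 2 (ecen x),
      (P : Subgroup (ecen x)) = (S : Subgroup G).comap (ecen x).subtype := by
    intro S
    obtain ⟨P₁⟩ := (inferInstance : Nonempty (Sylow 2 (ecen x)))
    obtain ⟨S₁, hS₁⟩ := P₁.exists_comap_subtype_eq
    obtain ⟨c, hc, rfl⟩ := hC x u hx hinv S₁ S
    refine ⟨(⟨c, hcH c hc⟩ : ecen x) • P₁, ?_⟩
    ext a
    rw [mem_smul_sylow, ← hS₁, mem_comap, mem_comap, mem_smul_sylow]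
    rfl
  have hAB' := hAB.res (ecen x) ⊤ (fun _ _ _ => mem_top _) (by
    intro v _
    obtain ⟨S, hS⟩ := hAB.a v
    obtain ⟨P, hP⟩ := hsyl S
    exact ⟨P, fun s hs => hS s (by rwa [hP] at hs)⟩)
  haveI : Nontrivial (⊤ : Subgroup V) := topEquiv.toEquiv.nontrivial
  obtain ⟨P₀, hP₀⟩ := hsyl S₀
  have hL : LA (resAut (φ.comp (ecen x).subtype) ⊤ (fun _ _ _ => mem_top _)) ⟨x, hcH x rfl⟩
      ⟨u, Or.inr hinv⟩ P₀ :=
    { toAB := hAB'
      odd := by rw [orderOf_mk]; exact hx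
      ne := fun e => hx1 (congrArg Subtype.val e)
      norm := fun g => g.2.imp Subtype.ext Subtype.ext
      uu := Subtype.ext huu
      mem := by rw [hP₀]; exact hu
      cen := fun s hs => Subtype.ext (hcen s (by rwa [hP₀] at hs))
      inv := Subtype.ext hinv }
  have key := LA.closed_aux _ _ _ _ _ _ _ rfl hL
  rw [← mem_bot, ← hO, L.mem_pCore_iff]
  intro S'
  obtain ⟨P, hP⟩ := hsyl S
  obtain ⟨P', hP'⟩ := hsyl S'
  have h1 : (⟨t, hcH t htx⟩ : ecen x) ∈ TT (⟨x, hcH x rfl⟩ : ecen x) P :=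
    mem_TT.2 ⟨by rw [hP]; exact ht, Subtype.ext htx⟩
  rw [key P P', mem_TT, hP'] at h1
  exact h1.1

theorem inverts_of_mem_zpowers {k d b : G} (h : k * d * k⁻¹ = d⁻¹) (hb : b ∈ zpowers d) :
    k * b * k⁻¹ = b⁻¹ := by
  obtain ⟨n, rfl⟩ := hb
  simp only
  rw [← conj_zpow, h, inv_zpow]

theorem inverts_mul {k₁ k₂ : G} (h₁ : k₁ * k₁ = 1) (h₂ : k₂ * k₂ = 1) :
    k₁ * (k₁ * k₂) * k₁⁻¹ = (k₁ * k₂)⁻¹ := by
  rw [mul_inv_rev, inv_eq_of_mul_eq_one_right h₁, inv_eq_of_mul_eq_one_right h₂, ← mul_assoc, h₁,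
    one_mul]

theorem inverts_mul' {k₁ k₂ : G} (h₁ : k₁ * k₁ = 1) (h₂ : k₂ * k₂ = 1) :
    k₂ * (k₁ * k₂) * k₂⁻¹ = (k₁ * k₂)⁻¹ := by
  rw [mul_inv_rev, inv_eq_of_mul_eq_one_right h₁, inv_eq_of_mul_eq_one_right h₂, mul_assoc,
    mul_assoc, h₂, mul_one]

theorem exists_conj_dihedral {k x : G} (hx : Odd (orderOf x)) (h : k * x * k⁻¹ = x⁻¹) :
    ∃ y ∈ zpowers x, y * k * y⁻¹ = x * k := by
  obtain ⟨m, hm⟩ := hx
  refine ⟨x ^ (m + 1), npow_mem_zpowers x _, ?_⟩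
  have h1 := conj_inv_of_conj_eq_inv (inverts_of_mem_zpowers h (npow_mem_zpowers x (m + 1)))
  have h2 : x ^ (m + 1) * x ^ (m + 1) = x := by
    rw [← pow_add, show m + 1 + (m + 1) = orderOf x + 1 by omega, pow_succ, pow_orderOf_eq_one,
      one_mul]
  calc _ = x ^ (m + 1) * (k * (x ^ (m + 1))⁻¹ * k⁻¹) * k := by group
    _ = _ := by rw [h1, h2]

theorem odd_of_mem_zpowers {d b : G} (hd : Odd (orderOf d)) (hb : b ∈ zpowers d) :
    Odd (orderOf b) := hd.of_dvd_nat (orderOf_dvd_of_mem_zpowers hb)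

section Main

variable [Finite G] [Finite V] [Nontrivial V] (hAB : AB φ) (hC : CT G) (hO : pCore 2 G = ⊥)
  {u : G} {S₀ : Sylow 2 G} (hu1 : u ≠ 1) (huu : u * u = 1) (hu : u ∈ (S₀ : Subgroup G))
  (hcen : ∀ s ∈ (S₀ : Subgroup G), s * u = u * s)

omit [Finite G] in
include huu hu hcen in
theorem K0 {k : G} (hk : IsConj u k) : k * k = 1 ∧ ∃ S : Sylow 2 G, k ∈ (S : Subgroup G) ∧
    ∀ s ∈ (S : Subgroup G), s * k = k * s := by
  obtain ⟨c, rfl⟩ := isConj_iff.1 hk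
  refine ⟨?_, c • S₀, by rw [mem_smul_sylow]; simpa [mul_assoc] using hu, fun s hs => ?_⟩
  · calc _ = c * (u * u) * c⁻¹ := by group
      _ = 1 := by rw [huu]; group
  · have := hcen _ (mem_smul_sylow.1 hs)
    calc s * (c * u * c⁻¹) = c * (c⁻¹ * s * c * u) * c⁻¹ := by group
      _ = _ := by rw [this]; group

omit [Finite G] in
include hu1 in
theorem Kne {k : G} (hk : IsConj u k) : k ≠ 1 := fun e => hu1 (isConj_one_left.1 (e ▸ hk))

include hAB hC hO huu hu hcen in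
theorem KA {k x : G} (hk : IsConj u k) (hx : Odd (orderOf x)) (hx1 : x ≠ 1)
    (hinv : k * x * k⁻¹ = x⁻¹) {S : Sylow 2 G} {t : G} (ht : t ∈ (S : Subgroup G))
    (htx : t * x = x * t) : t = 1 := by
  obtain ⟨hkk, S₁, h1, h2⟩ := K0 huu hu hcen hk
  exact lemmaA hAB hC hO hx hx1 hkk h1 h2 hinv ht htx

omit [Finite G] in
include hC huu hu hcen in
theorem K1 {k x : G} (hk : IsConj u k) (hx : Odd (orderOf x)) (hinv : k * x * k⁻¹ = x⁻¹)
    (S : Sylow 2 G) : ∃ k', IsConj u k' ∧ k' ∈ (S : Subgroup G) ∧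
      (∀ s ∈ (S : Subgroup G), s * k' = k' * s) ∧ k' * x * k'⁻¹ = x⁻¹ := by
  obtain ⟨-, S₁, h1, h2⟩ := K0 huu hu hcen hk
  obtain ⟨c, hc, rfl⟩ := hC x k hx hinv S₁ S
  refine ⟨c * k * c⁻¹, hk.trans (isConj_iff.2 ⟨c, rfl⟩),
    by rw [mem_smul_sylow]; simpa [mul_assoc] using h1, fun s hs => ?_,
    conj_inverts (Or.inl (by rw [hc]; group)) hinv⟩
  have := h2 _ (mem_smul_sylow.1 hs)
  calc s * (c * k * c⁻¹) = c * (c⁻¹ * s * c * k) * c⁻¹ := by group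
    _ = _ := by rw [this]; group

omit [Finite V] [Nontrivial V] in
include hO hu1 huu hu hcen in
theorem Kinv {k : G} (hk : IsConj u k) :
    ∃ x : G, Odd (orderOf x) ∧ x ≠ 1 ∧ k * x * k⁻¹ = x⁻¹ := by
  obtain ⟨x, h1, h2, h3, -⟩ := L.exists_inverted_of_not_mem_pCore (K0 huu hu hcen hk).1
    (by rw [hO, mem_bot]; exact Kne hu1 hk)
  refine ⟨x, h1.odd_of_ne_two h2, fun e => ?_, h3⟩
  rw [e, orderOf_one] at h1
  exact Nat.not_prime_one h1

include hAB hC hO hu1 huu hu hcen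

theorem K2 {k : G} (hk : IsConj u k) {S : Sylow 2 G} (hS : k ∈ (S : Subgroup G)) :
    ∀ s ∈ (S : Subgroup G), s * k = k * s := by
  obtain ⟨x, h1, h2, h3⟩ := Kinv hO hu1 huu hu hcen hk
  obtain ⟨k', h4, h5, h6, h7⟩ := K1 hC huu hu hcen hk h1 h3 S
  have := KA hAB hC hO huu hu hcen hk h1 h2 h3 (mul_mem hS h5) (comm_of_inv_inv h3 h7)
  rwa [mul_left_cancel (this.trans (K0 huu hu hcen hk).1.symm)] at h6

theorem K2' {k t : G} (hk : IsConj u k) (ht : t * t = 1) {n : ℕ} (h : (k * t) ^ 2 ^ n = 1) :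
    t * k = k * t := by
  obtain ⟨S, hS⟩ := (L.isPGroup_two_closure_of_involutions (K0 huu hu hcen hk).1 ht
    h).exists_le_sylow
  exact K2 hAB hC hO hu1 huu hu hcen hk (hS (subset_closure (by simp))) t
    (hS (subset_closure (by simp)))

theorem K3 {k₁ k₂ : G} (h₁ : IsConj u k₁) (h₂ : IsConj u k₂) :
    k₂ * k₁ = k₁ * k₂ ∨ Odd (orderOf (k₁ * k₂)) := by
  obtain ⟨a, b, ha, hb, e, hab, ⟨n, hn⟩, hbo⟩ := H8.exists_pPart_pPrimePart Nat.prime_two (k₁ * k₂)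
  have hbo' : Odd (orderOf b) := Nat.coprime_two_right.1 hbo
  by_cases hb1 : b = 1
  · left
    refine K2' hAB hC hO hu1 huu hu hcen h₁ (K0 huu hu hcen h₂).1 (n := n) ?_
    rw [e, hb1, mul_one, ← hn, pow_orderOf_eq_one]
  · right
    obtain ⟨S, hS⟩ := (H8.isPGroup_zpowers_of_orderOf hn).exists_le_sylow
    have := KA hAB hC hO huu hu hcen h₁ hbo' hb1 (inverts_of_mem_zpowers
      (inverts_mul (K0 huu hu hcen h₁).1 (K0 huu hu hcen h₂).1) hb) (hS (mem_zpowers a)) hab.eq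
    rwa [e, this, one_mul]

omit [Finite G] [Finite V] [Nontrivial V] hAB hC hO hu1 huu hu hcen in
theorem Kmul {k x : G} (hk : IsConj u k) (hx : Odd (orderOf x)) (h : k * x * k⁻¹ = x⁻¹) :
    IsConj u (x * k) := by
  obtain ⟨y, -, hy⟩ := exists_conj_dihedral hx h
  exact hk.trans (isConj_iff.2 ⟨y, hy⟩)

theorem K4 {k₁ k₂ : G} (h₁ : IsConj u k₁) (h₂ : IsConj u k₂) (h : k₂ * k₁ ≠ k₁ * k₂) :
    ∃ j, IsConj u j ∧ j * k₂ * j⁻¹ = k₁ := by
  have ho := (K3 hAB hC hO hu1 huu hu hcen h₁ h₂).resolve_left h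
  have e₁ := (K0 huu hu hcen h₁).1
  have e₂ := (K0 huu hu hcen h₂).1
  obtain ⟨y, hy, e⟩ := exists_conj_dihedral ho (inverts_mul' e₁ e₂)
  refine ⟨y * k₂, Kmul h₂ (odd_of_mem_zpowers ho hy)
    (inverts_of_mem_zpowers (inverts_mul' e₁ e₂) hy), ?_⟩
  calc _ = y * k₂ * y⁻¹ := by group
    _ = k₁ := by rw [e, mul_assoc, e₂, mul_one]

theorem K5 {k₁ k₂ : G} (h₁ : IsConj u k₁) (h₂ : IsConj u k₂) (h : k₂ * k₁ = k₁ * k₂) :
    k₁ = k₂ := by
  by_contra hne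
  obtain ⟨e₁, S₁, hS₁, -⟩ := K0 huu hu hcen h₁
  obtain ⟨e₂, S₂, hS₂, -⟩ := K0 huu hu hcen h₂
  obtain ⟨x, hx, hx1, hinv⟩ := Kinv hO hu1 huu hu hcen h₁
  have hk' := Kmul h₁ hx hinv
  have n₁ : x * k₁ * k₁ ≠ k₁ * (x * k₁) := fun e =>
    Kne hu1 h₁ (KA hAB hC hO huu hu hcen h₁ hx hx1 hinv hS₁
      (mul_right_cancel (b := k₁) (by rw [e, mul_assoc])))
  have n₂ : x * k₁ * k₂ ≠ k₂ * (x * k₁) := fun e =>
    Kne hu1 h₂ (KA hAB hC hO huu hu hcen h₁ hx hx1 hinv hS₂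
      (mul_right_cancel (b := k₁) (by rw [mul_assoc, ← e, mul_assoc, mul_assoc, h])))
  obtain ⟨j, hj, ej⟩ := K4 hAB hC hO hu1 huu hu hcen h₁ hk' n₁
  obtain ⟨j₁, hj₁, ej₁⟩ := K4 hAB hC hO hu1 huu hu hcen h₂ hk' n₂
  have hjj := (K0 huu hu hcen hj).1
  have hjj₁ := (K0 huu hu hcen hj₁).1
  have ht : (j₁ * j) * k₁ * (j₁ * j)⁻¹ = k₂ := by
    rw [← ej, ← ej₁]
    calc _ = j₁ * ((j * j) * (x * k₁) * (j * j)⁻¹) * j₁⁻¹ := by group
      _ = _ := by rw [hjj]; group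
  have h12 : (k₁ * k₂) * (k₁ * k₂) = 1 := by
    calc _ = k₁ * (k₂ * k₁) * k₂ := by group
      _ = (k₁ * k₁) * (k₂ * k₂) := by rw [h]; group
      _ = 1 := by rw [e₁, e₂, one_mul]
  rcases K3 hAB hC hO hu1 huu hu hcen hj₁ hj with hc | ho
  · have htt : (j₁ * j) * (j₁ * j) = 1 := by
      calc _ = j₁ * (j * j₁) * j := by group
        _ = (j₁ * j₁) * (j * j) := by rw [hc]; group
        _ = 1 := by rw [hjj, hjj₁, one_mul]
    have := K2' hAB hC hO hu1 huu hu hcen h₁ htt (n := 2) (by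
      have : (k₁ * (j₁ * j)) ^ 2 = k₁ * k₂ := by
        rw [← ht, inv_eq_of_mul_eq_one_right htt, pow_two]; group
      rw [show 2 ^ 2 = 2 * 2 by norm_num, pow_mul, this, pow_two, h12])
    exact hne (by rw [← ht, this]; group)
  · set t := j₁ * j with htdef
    have hti : j₁ * t * j₁⁻¹ = t⁻¹ := inverts_mul hjj₁ hjj
    obtain ⟨S, hS⟩ := (L.isPGroup_two_closure_of_involutions e₁ e₂ (k := 1)
      (by rw [pow_one, pow_two, h12])).exists_le_sylow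
    obtain ⟨k₃, -, -, h6, h7⟩ := K1 hC huu hu hcen hj₁ ho hti S
    have c₁ := h6 k₁ (hS (subset_closure (by simp)))
    have c₂ := h6 k₂ (hS (subset_closure (by simp)))
    have h8 : t⁻¹ * k₁ * t = k₂ := by
      calc t⁻¹ * k₁ * t = t⁻¹ * k₁ * t⁻¹⁻¹ := by group
        _ = (k₃ * t * k₃⁻¹) * k₁ * (k₃ * t * k₃⁻¹)⁻¹ := by rw [h7]
        _ = k₃ * (t * (k₃⁻¹ * (k₁ * k₃)) * t⁻¹) * k₃⁻¹ := by group
        _ = k₃ * k₂ * k₃⁻¹ := by rw [c₁, inv_mul_cancel_left, ht]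
        _ = k₂ := by rw [← c₂]; group
    have h9 : k₁ * t ^ 2 = t ^ 2 * k₁ := by
      calc k₁ * t ^ 2 = t * (t⁻¹ * k₁ * t) * t := by rw [pow_two]; group
        _ = t * (t * k₁ * t⁻¹) * t := by rw [h8, ht]
        _ = _ := by rw [pow_two]; group
    refine Kne hu1 h₁ (KA hAB hC hO huu hu hcen hj₁ (odd_of_mem_zpowers ho (npow_mem_zpowers t 2))
      (fun e => hne ?_) (inverts_of_mem_zpowers hti (npow_mem_zpowers t 2)) hS₁ h9)
    have : t = 1 := H5.eq_one_of_odd_of_eq_inv ho (eq_inv_of_mul_eq_one_left (by rwa [← pow_two]))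
    rw [← ht, this]; group

theorem K3' {k₁ k₂ : G} (h₁ : IsConj u k₁) (h₂ : IsConj u k₂) : Odd (orderOf (k₁ * k₂)) := by
  rcases K3 hAB hC hO hu1 huu hu hcen h₁ h₂ with h | h
  · rw [K5 hAB hC hO hu1 huu hu hcen h₁ h₂ h, (K0 huu hu hcen h₂).1, orderOf_one]
    exact odd_one
  · exact h

theorem K6 {k₁ k₂ k₃ : G} (h₁ : IsConj u k₁) (h₂ : IsConj u k₂) (h₃ : IsConj u k₃) :
    k₃ * (k₁ * k₂) * k₃⁻¹ = (k₁ * k₂)⁻¹ := by
  obtain ⟨-, S, hS, -⟩ := K0 huu hu hcen h₃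
  obtain ⟨k, h4, -, h6, h7⟩ := K1 hC huu hu hcen h₁ (K3' hAB hC hO hu1 huu hu hcen h₁ h₂)
    (inverts_mul (K0 huu hu hcen h₁).1 (K0 huu hu hcen h₂).1) S
  rwa [K5 hAB hC hO hu1 huu hu hcen h4 h₃ (h6 k₃ hS)] at h7

theorem solvable_of_centralizer (hs : Group.IsSolvable (centralizer ({u} : Set G))) :
    Group.IsSolvable G := by
  have hKK := fun {k : G} (hk : IsConj u k) => (K0 huu hu hcen hk).1
  let X : Subgroup G :=
    { carrier := {x | ∃ k₁ k₂, IsConj u k₁ ∧ IsConj u k₂ ∧ x = k₁ * k₂}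
      one_mem' := ⟨u, u, IsConj.refl u, IsConj.refl u, huu.symm⟩
      mul_mem' := by
        rintro _ _ ⟨k₁, k₂, h₁, h₂, rfl⟩ ⟨k₃, k₄, h₃, h₄, rfl⟩
        refine ⟨k₁ * k₂ * k₃, k₄, Kmul h₃ (K3' hAB hC hO hu1 huu hu hcen h₁ h₂)
          (K6 hAB hC hO hu1 huu hu hcen h₁ h₂ h₃), h₄, by group⟩
      inv_mem' := by
        rintro _ ⟨k₁, k₂, h₁, h₂, rfl⟩
        exact ⟨k₂, k₁, h₂, h₁, by rw [mul_inv_rev, inv_eq_of_mul_eq_one_right (hKK h₁),
          inv_eq_of_mul_eq_one_right (hKK h₂)]⟩ }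
  haveI : X.Normal := ⟨by
    rintro _ ⟨k₁, k₂, h₁, h₂, rfl⟩ g
    exact ⟨g * k₁ * g⁻¹, g * k₂ * g⁻¹, h₁.trans (isConj_iff.2 ⟨g, rfl⟩),
      h₂.trans (isConj_iff.2 ⟨g, rfl⟩), by group⟩⟩
  have hinv : ∀ x ∈ X, u * x * u⁻¹ = x⁻¹ := by
    rintro _ ⟨k₁, k₂, h₁, h₂, rfl⟩
    exact K6 hAB hC hO hu1 huu hu hcen h₁ h₂ (IsConj.refl u)
  have hX : Group.IsSolvable X := Group.isSolvable_of_comm fun a b => Subtype.ext (by
    have h1 := hinv _ (mul_mem a.2 b.2)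
    have h2 : u * (a * b) * u⁻¹ = (u * a * u⁻¹) * (u * b * u⁻¹) := by group
    rw [h2, hinv _ a.2, hinv _ b.2, ← mul_inv_rev] at h1
    exact (inv_injective h1).symm)
  refine L.isSolvable_of_normal_of_quotient X hX (Group.isSolvable_of_surjective
    (f := (QuotientGroup.mk' X).comp (centralizer ({u} : Set G)).subtype) fun q => ?_)
  obtain ⟨g, rfl⟩ := QuotientGroup.mk'_surjective X q
  have hk : IsConj u (g * u * g⁻¹) := isConj_iff.2 ⟨g, rfl⟩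
  have hx : g * u * g⁻¹ * u ∈ X := ⟨_, _, hk, IsConj.refl u, rfl⟩
  obtain ⟨y, hy, e⟩ := exists_conj_dihedral (K3' hAB hC hO hu1 huu hu hcen hk (IsConj.refl u))
    (hinv _ hx)
  rw [mul_assoc _ u u, huu, mul_one] at e
  have hyX : y ∈ X := zpowers_le.2 hx hy
  refine ⟨⟨y⁻¹ * g, mem_centralizer_singleton_iff.2 ?_⟩, ?_⟩
  · calc y⁻¹ * g * u = y⁻¹ * (g * u * g⁻¹) * g := by group
      _ = _ := by rw [← e]; group
  · change QuotientGroup.mk' X (y⁻¹ * g) = _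
    rw [map_mul, map_inv, show QuotientGroup.mk' X y = 1 from (QuotientGroup.eq_one_iff y).2 hyX,
      inv_one, one_mul]

end Main

end

theorem MT (hFT : FTHyp.{u}) (n : ℕ) : ∀ (G : Type u) [Group G] [Finite G] (V : Type v) [Group V]
    [Finite V] [Nontrivial V] (φ : G →* MulAut V), Nat.card G = n → AB φ → CT G →
    Group.IsSolvable G := by
  induction n using Nat.strong_induction_on with
  | _ n ih =>
  intro G _ _ V _ _ _ φ hn hAB hC
  haveI : Fact (Nat.Prime 2) := ⟨Nat.prime_two⟩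
  by_cases hO : pCore 2 G = ⊥
  swap
  · haveI := L.pCore_characteristic (G := G) Nat.prime_two
    obtain ⟨ψ, hψ⟩ := hAB.quot (pCore 2 G) (L.isPGroup_pCore 2)
    have hnil := (L.isPGroup_pCore (G := G) 2).isNilpotent
    exact L.isSolvable_of_normal_of_quotient (pCore 2 G) IsNilpotent.to_isSolvable
      (ih _ (hn ▸ L.card_quotient_lt _ hO) _ V ψ rfl hψ (hC.quot _ (L.isPGroup_pCore 2)))
  rcases Nat.even_or_odd (Nat.card G) with hev | hodd
  swap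
  · exact hFT G hodd
  obtain ⟨S₀⟩ := (inferInstance : Nonempty (Sylow 2 G))
  obtain ⟨u, hu, hu1, huu, hcen⟩ : ∃ u ∈ (S₀ : Subgroup G), u ≠ 1 ∧ u * u = 1 ∧
      ∀ s ∈ (S₀ : Subgroup G), s * u = u * s := by
    obtain ⟨z, hz, hz1, hzc⟩ := exists_ne_one_central_of_isPGroup S₀.isPGroup'
      (sylow_ne_bot_of_dvd S₀ (even_iff_two_dvd.1 hev))
    obtain ⟨k, hk⟩ := exists_orderOf_eq_pow_of_mem S₀.isPGroup' hz
    obtain _ | k := k
    · exact absurd (orderOf_eq_one_iff.1 hk) hz1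
    refine ⟨z ^ 2 ^ k, pow_mem hz _, fun e => ?_, ?_, fun s hs => ?_⟩
    · have := orderOf_dvd_of_pow_eq_one e
      rw [hk, Nat.pow_dvd_pow_iff_le_right one_lt_two] at this
      omega
    · rw [← pow_add, ← two_mul, ← pow_succ', ← hk, pow_orderOf_eq_one]
    · exact ((show Commute s z from mem_centralizer_singleton_iff.1 (hzc hs)).pow_right _).eq
  refine solvable_of_centralizer hAB hC hO hu1 huu hu hcen ?_
  set C := centralizer ({u} : Set G) with hCdef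
  have hSC : ∀ S : Sylow 2 G, u ∈ (S : Subgroup G) → (S : Subgroup G) ≤ C := fun S hS s hs =>
    mem_centralizer_singleton_iff.2 (K2 hAB hC hO hu1 huu hu hcen (IsConj.refl u) hS s hs)
  have hW : ∀ g : C, ∀ w ∈ fixAut (φ u), φ g w ∈ fixAut (φ u) := by
    intro g w hw
    rw [mem_fixAut] at hw ⊢
    rw [← app_mul, ← mem_centralizer_singleton_iff.1 g.2, app_mul, hw]
  have hAB' := hAB.res C (fixAut (φ u)) hW (by
    intro v hv
    by_cases hv1 : v = 1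
    · obtain ⟨P⟩ := (inferInstance : Nonempty (Sylow 2 C))
      exact ⟨P, fun s _ => by rw [hv1, map_one]⟩
    · obtain ⟨S, hS⟩ := hAB.a v
      exact ⟨S.subtype (hSC S (hAB.mem_of_fix hv1 hS huu hv)), fun s hs => hS s hs⟩)
  haveI : Nontrivial (fixAut (φ u)) := by
    obtain ⟨v, hv, hvS⟩ := hAB.exists_fix S₀
    exact (nontrivial_iff_exists_ne_one _).2 ⟨v, hvS u hu, hv⟩
  have hCT : CT C := by
    intro y g hy hg P P'
    obtain ⟨S, hS⟩ := P.exists_comap_subtype_eq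
    obtain ⟨S', hS'⟩ := P'.exists_comap_subtype_eq
    have huC : u ∈ C := mem_centralizer_singleton_iff.2 rfl
    have hmem : ∀ P : Sylow 2 C, (⟨u, huC⟩ : C) ∈ (P : Subgroup C) := fun P => by
      haveI : (zpowers (⟨u, huC⟩ : C)).Normal := by
        have hz : zpowers (⟨u, huC⟩ : C) ≤ center C :=
          zpowers_le.2 (mem_center_iff.2 fun g => Subtype.ext (mem_centralizer_singleton_iff.1 g.2))
        exact ⟨fun a ha g => by rwa [mem_center_iff.1 (hz ha) g, mul_inv_cancel_right]⟩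
      exact le_sylow_of_normal (isPGroup_zpowers_of_mul_self (Subtype.ext huu)) P (mem_zpowers _)
    have huS : u ∈ (S : Subgroup G) := by have := hmem P; rwa [← hS] at this
    have huS' : u ∈ (S' : Subgroup G) := by have := hmem P'; rwa [← hS'] at this
    obtain ⟨c, hc, e⟩ := hC y g (by rwa [orderOf_coe])
      (by exact_mod_cast congrArg Subtype.val hg) S S'
    have hk : IsConj u (c * u * c⁻¹) := isConj_iff.2 ⟨c, rfl⟩
    have h1 : c * u * c⁻¹ ∈ (S' : Subgroup G) := by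
      rw [← e, mem_smul_sylow]; simpa [mul_assoc] using huS
    have h2 := K5 hAB hC hO hu1 huu hu hcen (IsConj.refl u) hk
      (mem_centralizer_singleton_iff.1 (hSC S' huS' h1))
    have hcC : c ∈ C := mem_centralizer_singleton_iff.2 (mul_inv_eq_iff_eq_mul.1 h2.symm)
    refine ⟨⟨c, hcC⟩, Subtype.ext hc, Sylow.ext ?_⟩
    ext a
    rw [mem_smul_sylow, ← hS, ← hS', mem_comap, mem_comap, ← e, mem_smul_sylow]
    rfl
  refine ih _ (hn ▸ L.card_lt_of_ne_top fun e => ?_) C _ _ rfl hAB' hCT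
  obtain ⟨x, hx, hx1, hinv⟩ := Kinv hO hu1 huu hu hcen (IsConj.refl u)
  have : x ∈ C := e ▸ mem_top x
  exact hu1 (KA hAB hC hO huu hu hcen (IsConj.refl u) hx hx1 hinv hu
    (mem_centralizer_singleton_iff.1 this).symm)

end Cfsg.Agent.H7.RD
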