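import Cfsg.Agent.H7.RealD
import Cfsg.Agent.H7.ClassProd

/-! Groups whose prime graph on real class sizes is disconnected. -/

set_option autoImplicit false

namespace Cfsg.Agent.H7.RD

open Subgroup Cfsg
open scoped Pointwise

universe u

section

variable {G : Type*} [Group G] [Finite G]

theorem exists_lift_real_odd (N : Subgroup G) [N.Normal] (hN : Odd (Nat.card N)) {y g : G ⧸ N}
    (hg : g * y * g⁻¹ = y⁻¹) :
    ∃ y' g' : G, QuotientGroup.mk' N y' = y ∧ g' * y' * g'⁻¹ = y'⁻¹ := by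
  classical
  haveI : Fact (Nat.Prime 2) := ⟨Nat.prime_two⟩
  obtain ⟨a', -, ⟨k', hk'⟩, ha'⟩ := H5.exists_two_element_inverts hg
  obtain ⟨a, ⟨k, hk⟩, rfl⟩ := H9.exists_pElement_map_eq (QuotientGroup.mk'_surjective N)
    Nat.prime_two hk'
  let σ : Equiv.Perm {z : G // QuotientGroup.mk' N z = y} :=
    { toFun := fun z => ⟨(a * z * a⁻¹)⁻¹, by
        rw [map_inv, map_mul, map_mul, map_inv, z.2, ha', inv_inv]⟩
      invFun := fun z => ⟨a⁻¹ * (z : G)⁻¹ * a, by
        rw [map_mul, map_mul, map_inv, map_inv, z.2, ← ha']; group⟩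
      left_inv := fun z => Subtype.ext (by group)
      right_inv := fun z => Subtype.ext (by group) }
  have h2 : ∀ (n : ℕ) z, (((σ ^ 2) ^ n) z : G) = (a ^ 2) ^ n * z * ((a ^ 2) ^ n)⁻¹ := by
    intro n
    induction n with
    | zero => intro z; rw [pow_zero, pow_zero, Equiv.Perm.one_apply]; group
    | succ n ih =>
      intro z
      rw [pow_succ, Equiv.Perm.mul_apply, ih, pow_succ (a ^ 2)]
      change _ * (a * (a * z * a⁻¹)⁻¹ * a⁻¹)⁻¹ * _ = _
      generalize (a ^ 2) ^ n = b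
      simp only [pow_two, mul_inv_rev, inv_inv, mul_assoc]
  haveI := Fintype.ofFinite {z : G // QuotientGroup.mk' N z = y}
  have hcard : Fintype.card {z : G // QuotientGroup.mk' N z = y} = Nat.card N := by
    have := QuotientGroup.card_preimage_mk N {y}
    rw [Nat.card_unique (α := ({y} : Set (G ⧸ N))), mul_one] at this
    rw [← this, ← Nat.card_eq_fintype_card]
    rfl
  obtain ⟨z, hz⟩ := Equiv.Perm.exists_fixed_point_of_prime (p := 2) (n := k + 1) (σ := σ)
    (by rw [hcard, ← even_iff_two_dvd]; exact Nat.not_even_iff_odd.2 hN) (by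
      ext z
      rw [pow_succ', pow_mul, h2, ← pow_mul, mul_comm, pow_mul, ← hk, pow_orderOf_eq_one,
        Equiv.Perm.one_apply]
      group)
  exact ⟨z, a, z.2, inv_eq_iff_eq_inv.1 (congrArg Subtype.val hz)⟩

theorem sylow_normal_quotient (N : Subgroup G) [N.Normal] (hN : Odd (Nat.card N))
    (h : ∀ y g : G, Odd (orderOf y) → g * y * g⁻¹ = y⁻¹ → y ∈ N) (S : Sylow 2 (G ⧸ N)) :
    (S : Subgroup (G ⧸ N)).Normal := by
  refine H5.sylow_two_normal_of_not_real (fun y g hy hg => ?_) S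
  obtain ⟨y', g', rfl, hg'⟩ := exists_lift_real_odd N hN hg
  refine (QuotientGroup.eq_one_iff y').2 (h y' g' ?_ hg')
  refine (hy.mul hN).of_dvd_nat (orderOf_dvd_of_pow_eq_one ?_)
  have : y' ^ orderOf (QuotientGroup.mk' N y') ∈ N :=
    (QuotientGroup.eq_one_iff _).1 (by
      change QuotientGroup.mk' N _ = 1
      rw [map_pow, pow_orderOf_eq_one])
  rw [pow_mul]
  exact orderOf_dvd_iff_pow_eq_one.1 (orderOf_dvd_natCard N this)

end

theorem exists_real_of_prime {r : ℕ} (hr : r.Prime) (hr2 : r ≠ 2) (n : ℕ) :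
    ∀ (G : Type u) [Group G] [Finite G] [Group.IsSolvable G], Nat.card G = n →
      closure {g : G | ∃ k : ℕ, orderOf g = 2 ^ k} = ⊤ → r ∣ Nat.card G →
      ∃ y g : G, orderOf y = r ∧ g * y * g⁻¹ = y⁻¹ := by
  induction n using Nat.strong_induction_on with
  | _ n ih =>
  intro G _ _ _ hn hgen hdvd
  haveI : Nontrivial G := Finite.one_lt_card_iff_nontrivial.1
    (hr.one_lt.trans_le (Nat.le_of_dvd Nat.card_pos hdvd))
  obtain ⟨N, p, hN, hp, hE⟩ := L.exists_isMinNormal_isElementaryAbelian (G := G)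
  haveI := hN.1
  haveI := Fact.mk hp
  have hNp := L.IsElementaryAbelian.isPGroup hE
  by_cases hq : r ∣ Nat.card (G ⧸ N)
  · obtain ⟨y, g, hy, hg⟩ := ih _ (hn ▸ L.card_quotient_lt N hN.2.1) (G ⧸ N) rfl (by
      rw [eq_top_iff, ← map_top_of_surjective _ (QuotientGroup.mk'_surjective N), ← hgen,
        MonoidHom.map_closure]
      refine closure_mono ?_
      rintro _ ⟨a, ⟨k, hk⟩, rfl⟩
      exact H5.exists_eq_pow_of_dvd_pow Nat.prime_two (hk ▸ orderOf_map_dvd _ a)) hq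
    by_cases hp2 : p = 2
    · subst hp2
      obtain ⟨y', g', -, ho, hg'⟩ := exists_lift_real N hNp (hy ▸ hr.odd_of_ne_two hr2) hg
      exact ⟨y', g', ho.trans hy, hg'⟩
    · obtain ⟨m, hm⟩ := hNp.exists_card_eq
      obtain ⟨y', g', rfl, hg'⟩ := exists_lift_real_odd N
        (hm ▸ (hp.odd_of_ne_two hp2).pow) hg
      exact ⟨y' ^ (orderOf y' / r), g', orderOf_pow_orderOf_div (orderOf_pos y').ne'
        (hy ▸ orderOf_map_dvd _ y'), inverts_of_mem_zpowers hg' (npow_mem_zpowers _ _)⟩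
  · obtain ⟨m, hm⟩ := hNp.exists_card_eq
    have hpr : r = p := by
      rw [← N.card_mul_index, hm] at hdvd
      exact (Nat.prime_dvd_prime_iff_eq hr hp).1
        (hr.dvd_of_dvd_pow ((hr.dvd_mul.1 hdvd).resolve_right hq))
    subst hpr
    by_cases hc : ∀ a : G, (∃ k : ℕ, orderOf a = 2 ^ k) → a ∈ centralizer (N : Set G)
    · exfalso
      have hc' : ∀ a : G, ∀ x ∈ N, x * a = a * x := fun a =>
        mem_centralizer_iff.1 (((closure_le _).2 hc : _ ≤ centralizer (N : Set G))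
          (hgen ▸ mem_top a))
      obtain ⟨H, hH⟩ := exists_right_complement'_of_coprime (N := N)
        (by rw [hm]; exact ((Nat.Prime.coprime_iff_not_dvd hr).2 hq).pow_left _)
      haveI : H.Normal := ⟨fun h hh g => by
        obtain ⟨⟨⟨x, hx⟩, ⟨h', hh'⟩⟩, rfl⟩ := hH.existsUnique g |>.exists
        have : x * h' * h * (x * h')⁻¹ = h' * h * h'⁻¹ := by
          calc _ = (x * (h' * h * h'⁻¹)) * x⁻¹ := by group
            _ = _ := by rw [hc' _ x hx]; group
        simp only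
        rw [this]
        exact mul_mem (mul_mem hh' hh) (inv_mem hh')⟩
      have hHtop : H = ⊤ := by
        rw [eq_top_iff, ← hgen, closure_le]
        rintro a ⟨k, hk⟩
        refine H8.mem_of_coprime_index ?_
        rw [hH.index_eq_card, hk, hm]
        exact Nat.Coprime.pow _ _ ((Nat.coprime_primes Nat.prime_two hr).2 hr2.symm)
      exact hN.2.1 (by simpa [hHtop] using hH.disjoint)
    · push Not at hc
      obtain ⟨a, ⟨k, hk⟩, ha⟩ := hc
      have hex : ∃ j : ℕ, a ^ 2 ^ j ∈ centralizer (N : Set G) :=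
        ⟨k, by rw [← hk, pow_orderOf_eq_one]; exact one_mem _⟩
      classical
      have hj := Nat.find_spec hex
      obtain hj0 | ⟨j, hj'⟩ := Nat.eq_zero_or_eq_succ_pred (Nat.find hex) |>.imp_right
        fun h => (⟨_, h⟩ : ∃ j, Nat.find hex = j + 1)
      · rw [hj0] at hj; exact absurd (by simpa using hj) ha
      have hb := Nat.find_min hex (m := j) (by omega)
      rw [hj', pow_succ, pow_mul] at hj
      set b := a ^ 2 ^ j
      rw [mem_centralizer_iff] at hb
      push Not at hb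
      obtain ⟨x, hx, hxb⟩ := hb
      have hbx : b * x * b⁻¹ ∈ N := hN.1.conj_mem x hx b
      have hy : x⁻¹ * (b * x * b⁻¹) ∈ N := mul_mem (inv_mem hx) hbx
      haveI := Fact.mk hr
      refine ⟨x⁻¹ * (b * x * b⁻¹), b, orderOf_eq_prime (hE.2 _ hy) fun e => hxb ?_, ?_⟩
      · rw [inv_mul_eq_one, eq_mul_inv_iff_mul_eq] at e
        exact e
      · have h1 := mem_centralizer_iff.1 hj x hx
        calc _ = (b * x * b⁻¹)⁻¹ * (b ^ 2 * x) * (b ^ 2)⁻¹ := by rw [pow_two]; group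
          _ = _ := by rw [← h1]; group

section

variable {G : Type*} [Group G] [Finite G]

/-- class size is a `ρ`-number -/
def RR (ρ : Set ℕ) {G : Type*} [Group G] (x : G) : Prop := ∀ p : ℕ, p.Prime → p ∣ cs x → p ∈ ρ

/-- class size is a `ρ'`-number -/
def PP (ρ : Set ℕ) {G : Type*} [Group G] (x : G) : Prop := ∀ p : ℕ, p.Prime → p ∣ cs x → p ∉ ρ

/-- every real class size is a `ρ`-number or a `ρ'`-number -/
def Hyp (ρ : Set ℕ) (G : Type*) [Group G] : Prop :=
  ∀ x g : G, g * x * g⁻¹ = x⁻¹ → RR ρ x ∨ PP ρ x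

variable {ρ : Set ℕ}

omit [Finite G] in
theorem coprime_PR {x y : G} (hx : PP ρ x) (hy : RR ρ y) : (cs x).Coprime (cs y) :=
  Nat.coprime_of_dvd fun p hp h1 h2 => hx p hp h1 (hy p hp h2)

omit [Finite G] in
theorem cs_conj (g x : G) : cs (g * x * g⁻¹) = cs x := H9.index_centralizer_conj g x

omit [Finite G] in
theorem RR.conj {x y : G} (h : RR ρ x) (hc : IsConj x y) : RR ρ y := by
  obtain ⟨g, rfl⟩ := isConj_iff.1 hc
  intro p hp hd
  exact h p hp (cs_conj g x ▸ hd)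

omit [Finite G] in
theorem exists_prime_dvd_cs {w : G} (hw : w ∉ center G) : ∃ p : ℕ, p.Prime ∧ p ∣ cs w :=
  Nat.exists_prime_and_dvd fun e => hw (H9.index_centralizer_eq_one_iff.1 e)

omit [Finite G] in
theorem RR_of_mem_center {v : G} (h : v ∈ center G) : RR ρ v := fun p hp hd => by
  rw [cs, H9.index_centralizer_eq_one_iff.2 h] at hd
  exact absurd (Nat.dvd_one.1 hd) hp.ne_one

theorem two_dvd_cs {y g : G} (hy : Odd (orderOf y)) (hy1 : y ≠ 1) (hg : g * y * g⁻¹ = y⁻¹) :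
    2 ∣ cs y := by
  by_contra h
  exact hy1 (H5.eq_one_of_odd_of_eq_inv hy (H5.eq_inv_of_odd_index hg h))

variable (h2 : 2 ∉ ρ) (hH : Hyp ρ G)
include h2 hH

theorem B0 {y g : G} (hy : Odd (orderOf y)) (hy1 : y ≠ 1) (hg : g * y * g⁻¹ = y⁻¹) : PP ρ y :=
  (hH y g hg).resolve_left fun h => h2 (h 2 Nat.prime_two (two_dvd_cs hy hy1 hg))

theorem B1 {w : G} (hww : w * w = 1) (hw : RR ρ w) (hwZ : w ∉ center G) {y g : G}
    (hy : Odd (orderOf y)) (hg : g * y * g⁻¹ = y⁻¹) (hc : y * w = w * y) : y = 1 := by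
  haveI : Fact (Nat.Prime 2) := ⟨Nat.prime_two⟩
  by_contra hy1
  have hP := B0 h2 hH hy hy1 hg
  obtain ⟨a, -, ⟨k, hk⟩, ha⟩ := H5.exists_two_element_inverts hg
  obtain ⟨c, hc'⟩ := exists_conj_mem_of_not_dvd_index hk (C := centralizer {w})
    fun hd => h2 (hw 2 Nat.prime_two hd)
  have h1 : Commute (c * y * c⁻¹) (1 * w * 1⁻¹) :=
    commute_conj_of_coprime (coprime_PR hP hw) (g₀ := 1) (h₀ := 1)
      (by rw [one_mul, one_mul, inv_one, mul_one, mul_one]; exact hc) c 1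
  rw [one_mul, inv_one, mul_one] at h1
  have hw2 : orderOf w ∣ 2 := orderOf_dvd_of_pow_eq_one (by rw [pow_two, hww])
  have hco : (orderOf (c * y * c⁻¹)).Coprime (orderOf w) := by
    rw [← MulAut.conj_apply, MulEquiv.orderOf_eq]
    exact (Nat.coprime_two_right.2 hy).coprime_dvd_right hw2
  have h3 := H9.index_centralizer_dvd_of_mem_zpowers (H9.mem_zpowers_mul_of_coprime h1 hco)
  have h4 := H9.index_centralizer_dvd_of_mem_zpowers (H9.mem_zpowers_mul_of_coprime' h1 hco)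
  have h5 : c * a * c⁻¹ * (c * y * c⁻¹ * w) * (c * a * c⁻¹)⁻¹ = (c * y * c⁻¹ * w)⁻¹ := by
    have h6 := mem_centralizer_singleton_iff.1 hc'
    calc _ = c * (a * y * a⁻¹) * c⁻¹ * (c * a * c⁻¹ * w) * (c * a * c⁻¹)⁻¹ := by group
      _ = (c * y * c⁻¹)⁻¹ * w := by rw [ha, h6]; group
      _ = _ := by rw [h1.eq, mul_inv_rev w, inv_eq_of_mul_eq_one_right hww]
  rcases hH _ _ h5 with h | h
  · exact h2 (h 2 Nat.prime_two ((cs_conj c y ▸ two_dvd_cs hy hy1 hg).trans h3))
  · obtain ⟨p, hp, hd⟩ := exists_prime_dvd_cs hwZ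
    exact h p hp (hd.trans h4) (hw p hp hd)

theorem B2 {w : G} (hww : w * w = 1) (hw : RR ρ w) (hwZ : w ∉ center G) {y g : G} {q : ℕ}
    (hq : q.Prime) (hq2 : q ≠ 2) (hy : orderOf y = q) (hg : g * y * g⁻¹ = y⁻¹) : q ∈ ρ := by
  haveI := Fact.mk hq
  refine hw q hq ?_
  by_contra hd
  obtain ⟨c, hc⟩ := exists_conj_mem_of_not_dvd_index (k := 1) (by rw [hy, pow_one])
    (C := centralizer {w}) hd
  have ho : orderOf (c * y * c⁻¹) = q := by rw [← MulAut.conj_apply, MulEquiv.orderOf_eq, hy]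
  have := B1 h2 hH hww hw hwZ (ho ▸ hq.odd_of_ne_two hq2) (g := c * g * c⁻¹)
    (by
      calc _ = c * (g * y * g⁻¹) * c⁻¹ := by group
        _ = _ := by rw [hg]; group) (mem_centralizer_singleton_iff.1 hc)
  rw [this, orderOf_one] at ho
  exact hq.one_lt.ne ho

theorem case1 {w : G} (hww : w * w = 1) (hw : RR ρ w) (hO : w ∉ pCore 2 G) {y g : G}
    (hy : Odd (orderOf y)) (hg : g * y * g⁻¹ = y⁻¹) : y ∈ pPrimeCore 2 G := by
  haveI : Fact (Nat.Prime 2) := ⟨Nat.prime_two⟩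
  haveI := L.pCore_characteristic (G := G) Nat.prime_two
  by_cases hy1 : y = 1
  · rw [hy1]; exact one_mem _
  obtain ⟨a, -, ⟨k, hk⟩, ha⟩ := H5.exists_two_element_inverts hg
  obtain ⟨w, hww, hw, hO, haw⟩ : ∃ w : G, w * w = 1 ∧ RR ρ w ∧ w ∉ pCore 2 G ∧ a * w = w * a := by
    obtain ⟨c, hc'⟩ := exists_conj_mem_of_not_dvd_index hk (C := centralizer {w})
      fun hd => h2 (hw 2 Nat.prime_two hd)
    refine ⟨c⁻¹ * w * c⁻¹⁻¹, ?_, hw.conj (isConj_iff.2 ⟨_, rfl⟩), fun h => hO ?_, ?_⟩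
    · calc _ = c⁻¹ * (w * w) * c := by group
        _ = 1 := by rw [hww]; group
    · have := (inferInstance : (pCore 2 G).Normal).conj_mem _ h c
      simpa [mul_assoc] using this
    · have h6 := mem_centralizer_singleton_iff.1 hc'
      calc _ = c⁻¹ * (c * a * c⁻¹ * w) * c := by group
        _ = _ := by rw [h6]; group
  have hwi : w⁻¹ = w := inv_eq_of_mul_eq_one_right hww
  have hwZ : w ∉ center G := fun h => hO (L.le_pCore (N := zpowers w)
    ⟨fun a ha g => by
      rwa [mem_center_iff.1 (zpowers_le.2 h ha) g, mul_inv_cancel_right]⟩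
    (isPGroup_zpowers_of_mul_self hww) (mem_zpowers w))
  obtain ⟨y₀, hy₀p, hy₀2, hy₀, -⟩ := L.exists_inverted_of_not_mem_pCore hww hO
  have hy₀o := hy₀p.odd_of_ne_two hy₀2
  have hy₀1 : y₀ ≠ 1 := fun e => by rw [e, orderOf_one] at hy₀p; exact Nat.not_prime_one hy₀p
  have hall : ∀ c : G, c * w * c⁻¹ * y₀ * (c * w * c⁻¹)⁻¹ = y₀⁻¹ := by
    intro c
    obtain ⟨k, e1, e2⟩ := exists_conj_pair (coprime_PR (B0 h2 hH hy₀o hy₀1 hy₀) hw) 1 c
    rw [← e2]
    exact conj_inverts (Or.inl (by simpa using e1)) hy₀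
  obtain ⟨M, hMn, hMc, hM⟩ := exists_normal_classStab w
  have hMo : Odd (Nat.card M) := by
    rw [← Nat.not_even_iff_odd, even_iff_two_dvd]
    exact fun h => h2 (hw 2 Nat.prime_two (h.trans hMc))
  have hP := B0 h2 hH hy hy1 hg
  have hMy : M ≤ centralizer {y} :=
    le_of_normal_of_coprime_index ((coprime_PR hP hw).symm.coprime_dvd_left hMc)
  have hmemM : ∀ x : G, Odd (orderOf (QuotientGroup.mk' M x)) → PP ρ x → IsConj w (x * w) →
      w * x * w⁻¹ = x⁻¹ → x ∈ M := by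
    intro x hxo hxP hxw hwx
    have h1 := hM x (coprime_PR hxP hw) (coprime_PR hxP (hw.conj hxw)) w
    rw [hwx, ← mul_inv_rev, inv_mem_iff] at h1
    refine (QuotientGroup.eq_one_iff x).1 (H5.eq_one_of_odd_of_eq_inv hxo ?_)
    rw [eq_inv_iff_mul_eq_one, ← QuotientGroup.mk_mul]
    exact (QuotientGroup.eq_one_iff _).2 h1
  set d := y⁻¹ * (w * y * w⁻¹) with hd
  have hdw : d * w = y⁻¹ * w * y⁻¹⁻¹ := by rw [hd]; group
  have hd' : d = (y⁻¹ * w * y⁻¹⁻¹) * w := by rw [← hdw, mul_assoc, hww, mul_one]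
  have hwd : w * d * w⁻¹ = d⁻¹ := by
    rw [hd']
    refine inverts_mul' ?_ hww
    calc _ = y⁻¹ * (w * w) * y := by group
      _ = 1 := by rw [hww]; group
  have hcomm : y * d = d * y := by
    by_cases hdZ : d ∈ center G
    · exact mem_center_iff.1 hdZ y
    rcases hH d w hwd with hR | hP'
    · exfalso
      have hdd : d = d⁻¹ := H5.eq_inv_of_odd_index hwd fun hd => h2 (hR 2 Nat.prime_two hd)
      refine hy₀1 (B1 h2 hH (eq_inv_iff_mul_eq_one.1 hdd) hR hdZ hy₀o hy₀ ?_)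
      rw [hd']
      exact (comm_of_inv_inv (hall y⁻¹) hy₀).symm
    · have hconj : IsConj w (d * w) := isConj_iff.2 ⟨y⁻¹, hdw.symm⟩
      have h1 := hM d (coprime_PR hP' hw) (coprime_PR hP' (hw.conj hconj)) y
      refine (mem_centralizer_singleton_iff.1 (hMy (hmemM d ?_ hP' hconj hwd))).symm
      set f := QuotientGroup.mk' M
      have h3 : Commute (f y) (f d) := by
        have h4 : f (d⁻¹ * (y * d * y⁻¹)) = 1 := (QuotientGroup.eq_one_iff _).2 h1
        rw [map_mul, map_mul, map_mul, map_inv, map_inv, inv_mul_eq_one,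
          eq_mul_inv_iff_mul_eq] at h4
        exact h4.symm
      have h5 : f d = (f y)⁻¹ * (f w * f y * (f w)⁻¹) := by
        rw [hd, map_mul, map_mul, map_mul, map_inv, map_inv]
      have h6 : Commute (f y)⁻¹ (f w * f y * (f w)⁻¹) := by
        have : f w * f y * (f w)⁻¹ = f y * f d := by rw [h5]; group
        rw [this]
        exact ((Commute.refl _).mul_right h3).inv_left
      have h7 : Odd (orderOf (f y)) := hy.of_dvd_nat (orderOf_map_dvd f y)
      rw [h5]
      refine (h7.mul h7).of_dvd_nat (h6.orderOf_mul_dvd_mul_orderOf.trans ?_)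
      rw [orderOf_inv, ← MulAut.conj_apply, MulEquiv.orderOf_eq]
  have hc2 : Commute y (w * y * w⁻¹) := by
    have : w * y * w⁻¹ = y * d := by rw [hd]; group
    rw [this]
    exact (Commute.refl y).mul_right hcomm
  have hz : y * (w * y * w⁻¹) = 1 := by
    refine B1 h2 hH hww hw hwZ (g := a) ?_ ?_ ?_
    · refine (hy.mul hy).of_dvd_nat (hc2.orderOf_mul_dvd_mul_orderOf.trans ?_)
      rw [← MulAut.conj_apply, MulEquiv.orderOf_eq]
    · calc _ = (a * y * a⁻¹) * ((a * w) * y * (a * w)⁻¹) := by group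
        _ = (a * y * a⁻¹) * (w * (a * y * a⁻¹) * w⁻¹) := by rw [haw]; group
        _ = (w * y * w⁻¹ * y)⁻¹ := by rw [ha]; group
        _ = _ := by rw [hc2.eq]
    · calc y * (w * y * w⁻¹) * w = (w * w) * y * w * y := by rw [hww]; group
        _ = w * (w * y * w⁻¹ * y) := by rw [hwi]; group
        _ = _ := by rw [hc2.eq]
  have hwy : w * y * w⁻¹ = y⁻¹ := eq_inv_of_mul_eq_one_right hz
  exact L.le_pPrimeCore hMn (Nat.coprime_two_right.2 hMo)
    (hmemM y (hy.of_dvd_nat (orderOf_map_dvd _ y)) hP (Kmul (IsConj.refl w) hy hwy) hwy)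

end

end Cfsg.Agent.H7.RD
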