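/-
Centerless groups with at most three nontrivial class sizes, I: a self-centralizing abelian
subgroup of even order, and the case of pairwise non-dividing class sizes.
-/
import Cfsg.Agent.H7.CA
import Cfsg.Agent.H7.ClassProd
import Cfsg.Agent.H7.ClassAux
import Cfsg.Agent.H7.CaminaHerzog
import Cfsg.Agent.H6.TwoSizes
import Cfsg.Agent.H6.Kazarin
import Cfsg.Agent.H5.Kegel
import Cfsg.Agent.H8.ClassMN2

set_option autoImplicit false
set_option linter.unusedSectionVars false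

namespace Cfsg.Agent.H7.Rk3

open Subgroup Cfsg Cfsg.Agent Cfsg.Agent.FT

universe u

variable {G : Type u} [Group G] [Finite G]

/-- The conclusion of the theorem. -/
def Concl (G : Type u) [Group G] : Prop :=
  Group.IsSolvable G ∨ ∃ a : ℕ, 0 < a ∧
    Nonempty (G ≃* Matrix.ProjectiveSpecialLinearGroup (Fin 2) (GaloisField 2 a))

theorem solv_npc2 (h : HasNormalPComplement 2 G) : Group.IsSolvable G :=
  H7.isSolvable_of_hasNPC_two (fun G _ _ => feit_thompson G) h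

theorem mem_norm_of_eq {H : Subgroup G} (hC : ∀ x ∈ H, x ≠ 1 → 𝐂[x] = H) {x g : G} (hx : x ∈ H)
    (h1 : x ≠ 1) (hg : g * x * g⁻¹ ∈ H) : g ∈ 𝐍(H) := by
  have h2 : g * x * g⁻¹ ≠ 1 := fun e => h1 (by simpa [mul_assoc] using conj_eq_one_iff.mp e)
  have := H6.mem_normalizer_of_centralizer_conj ((hC _ hg h2).trans (hC _ hx h1).symm)
  rwa [hC _ hx h1] at this

theorem comm_of_eq {H : Subgroup G} (hC : ∀ x ∈ H, x ≠ 1 → 𝐂[x] = H) {x y : G} (hx : x ∈ H)
    (hy : y ∈ H) : Commute x y := by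
  by_cases h1 : x = 1
  · rw [h1]; exact Commute.one_left y
  · exact CA.mem_cent.mp ((hC x hx h1).symm ▸ hy)

/-- A subgroup of even order which is the centralizer of each of its nonidentity elements. -/
theorem ct {H : Subgroup G} (hC : ∀ x ∈ H, x ≠ 1 → 𝐂[x] = H) (he : Even 𝐨(H)) : Concl G := by
  have := Fact.mk Nat.prime_two
  by_cases hT : H = ⊤
  · left
    exact isSolvable_of_comm fun a b =>
      (comm_of_eq hC (hT ▸ mem_top a) (hT ▸ mem_top b)).eq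
  by_cases hF : fittingSubgroup G = ⊥
  · obtain ⟨K, t, hz, -⟩ := ZA.exists_zt hF (Q := H)
      ⟨fun x hx h1 => (hC x hx h1).le, fun x hx h1 g hg => mem_norm_of_eq hC hx h1 hg, he⟩ hT
    obtain ⟨n, hn, -, -, -, e⟩ := ZA.sl2_of_eq_Z hz
      (ZA.eq_Z_of_comm hz fun x hx y hy => comm_of_eq hC hx hy)
    exact Or.inr ⟨n, by omega, e⟩
  left
  obtain ⟨S, hS, hS1⟩ := L.exists_sylow_le_of_centralizer_eq hC (p := 2) he.two_dvd
  obtain ⟨V, p, hV, -, -, hE⟩ := L.exists_isMinNormal_isElementaryAbelian_le (fittingSubgroup G) hF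
  have hVn := hV.1
  have hVc : ∀ x ∈ V, ∀ y ∈ V, Commute x y := CA.comm_iff.mp hE.1
  by_cases hVH : ∃ x ∈ V, x ∈ H ∧ x ≠ 1
  · obtain ⟨x, hxV, hxH, x1⟩ := hVH
    have hle : V ≤ H := fun y hy => hC x hxH x1 ▸ CA.mem_cent.mpr (hVc x hxV y hy)
    have hn : H.Normal := normalizer_eq_top_iff.mp (top_le_iff.mp fun g _ =>
      mem_norm_of_eq hC hxH x1 (hle (hVn.conj_mem x hxV g)))
    refine L.isSolvable_of_normal_of_quotient H (isSolvable_of_comm fun a b =>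
      Subtype.ext (comm_of_eq hC a.2 b.2).eq) (feit_thompson _ ?_)
    rw [← Nat.not_even_iff_odd, even_iff_two_dvd]
    exact H9.not_dvd_index_iff_exists_sylow_le.mpr ⟨S, hS⟩
  · push Not at hVH
    obtain ⟨⟨v, hv⟩, v1⟩ := (ne_bot_iff_exists_ne_one).mp hV.2.1
    have v1 : v ≠ 1 := fun e => v1 (Subtype.ext e)
    have hinv : ∀ t ∈ H, t ≠ 1 → t * t = 1 → t * v * t = v⁻¹ := fun t ht t1 tt =>
      L.inverts_of_fpf tt (by rw [normalizer_eq_top_iff.mpr hVn]; exact mem_top t)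
        (fun a ha hc => hVH a ha (hC t ht t1 ▸ CA.mem_cent.mpr hc)) v hv
    have huniq : ∀ s ∈ H, s ≠ 1 → s * s = 1 → ∀ t ∈ H, t ≠ 1 → t * t = 1 → s = t := by
      intro s hs s1 ss t ht t1 tt
      by_contra hne
      have h1 : s * t ≠ 1 := fun e => hne (by
        rw [eq_inv_of_mul_eq_one_left e, L.inv_eq_self_of_mul_self tt])
      refine v1 (hVH v hv (hC _ (H.mul_mem hs ht) h1 ▸ CA.mem_cent.mpr ?_))
      have e1 := hinv s hs s1 ss
      have e2 := hinv t ht t1 tt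
      have e3 := L.inv_eq_self_of_mul_self ss
      have e4 := L.inv_eq_self_of_mul_self tt
      calc s * t * v = s * (t * v * t) * t⁻¹ := by group
        _ = (s * v * s⁻¹)⁻¹ * (s * t⁻¹) := by rw [e2]; group
        _ = v * (s * t) := by rw [e3, e1, e4, inv_inv]
    have hev : Even 𝐨((S : Subgroup G)) := by
      obtain ⟨k, hk⟩ := S.isPGroup'.exists_card_eq
      rw [hk]
      refine (Nat.even_pow.mpr ⟨even_two, fun e => hS1 ?_⟩)
      rw [e, pow_zero] at hk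
      exact card_eq_one.mp hk
    obtain ⟨⟨t, ht⟩, t1, tt⟩ := CA.exists_invol hev
    have t1 : t ≠ 1 := fun e => t1 (Subtype.ext e)
    have tt : t * t = 1 := congrArg Subtype.val tt
    refine solv_npc2 (H8.hasNPC_of_normalizer_le_centralizer S fun n hn y hy => ?_)
    have h2 : n * t * n⁻¹ = t := huniq _ (hS ((mem_normalizer_iff.mp hn t).mp ht))
      (fun e => t1 (by simpa [mul_assoc] using conj_eq_one_iff.mp e))
      (by rw [conj_mul, tt, mul_one, mul_inv_cancel]) t (hS ht) t1 tt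
    have h3 : n ∈ H := hC t (hS ht) t1 ▸ CA.mem_cent.mpr (mul_inv_eq_iff_eq_mul.mp h2).symm
    exact (comm_of_eq hC (hS hy) h3).eq

theorem cs_dvd {x w : G} (h : 𝐂[x] ≤ 𝐂[w]) : cs w ∣ cs x := index_dvd_of_le h

theorem cs_ne_zero (x : G) : cs x ≠ 0 := index_ne_zero_of_finite

theorem cop {p q i j : ℕ} (hp : p.Prime) (hq : q.Prime) (h : p ≠ q) {x y : G}
    (hx : orderOf x = p ^ i) (hy : orderOf y = q ^ j) : (orderOf x).Coprime (orderOf y) := by
  rw [hx, hy]; exact Nat.coprime_pow_primes i j hp hq h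

theorem cop' {p q i : ℕ} (hp : p.Prime) (hq : q.Prime) (h : p ≠ q) {x : G}
    (hx : orderOf x = p ^ i) : (orderOf x).Coprime q := by
  rw [hx]; exact ((Nat.coprime_primes hp hq).mpr h).pow_left i

theorem mul_ne_one' {x w : G} (hc : Commute x w) (ho : (orderOf x).Coprime (orderOf w))
    (hx : x ≠ 1) : x * w ≠ 1 := fun e => hx (by
  have := H9.mem_zpowers_mul_of_coprime hc ho
  rwa [e, zpowers_one_eq_bot, mem_bot] at this)

theorem conj_ne_one {x : G} (hx : x ≠ 1) (g : G) : g * x * g⁻¹ ≠ 1 :=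
  fun e => hx (by simpa [mul_assoc] using conj_eq_one_iff.mp e)

theorem le_cent_of_primary {H : Subgroup G}
    (h : ∀ (q k : ℕ) (w : G), q.Prime → w ∈ H → w ≠ 1 → orderOf w = q ^ k → H ≤ 𝐂[w]) {w : G}
    (hw : w ∈ H) : H ≤ 𝐂[w] := by
  have : w ∈ 𝐂(H) := by
    by_contra hn
    obtain ⟨q, k, y, hq, hy, ho, hy'⟩ := H8.exists_primePow_not_mem hn
    exact hy' fun a ha => (CA.mem_cent.mp (h q k y hq (zpowers_le.mpr hw hy)
      (fun e => hy' (e ▸ one_mem _)) ho ha)).symm.eq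
  exact fun a ha => CA.mem_cent.mpr (show Commute a w from this a ha).symm

theorem exists_central {p : ℕ} [Fact p.Prime] (P : Sylow p G) (hp : p ∣ Nat.card G) :
    ∃ (z : G) (k : ℕ), z ∈ (P : Subgroup G) ∧ z ≠ 1 ∧ orderOf z = p ^ k ∧
      (P : Subgroup G) ≤ 𝐂[z] := by
  obtain ⟨z, hz, z1, h⟩ := exists_ne_one_central_of_isPGroup P.isPGroup' (P.ne_bot_of_dvd_card hp)
  obtain ⟨k, hk⟩ := H7.exists_orderOf_eq_pow_of_mem P.isPGroup' hz
  exact ⟨z, k, hz, z1, hk, h⟩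

theorem exists_prime_elt {r : ℕ} (hr : r.Prime) {H : Subgroup G} (h : r ∣ 𝐨(H)) :
    ∃ y ∈ H, y ≠ 1 ∧ orderOf y = r ^ 1 := by
  have := Fact.mk hr
  obtain ⟨y, hy⟩ := exists_prime_orderOf_dvd_card' r h
  rw [← orderOf_coe] at hy
  exact ⟨y, y.2, fun e => hr.one_lt.ne (by rw [← hy, e, orderOf_one]), by rw [hy, pow_one]⟩

theorem dvd_card_of_mem {r k : ℕ} {H : Subgroup G} {y : G} (hy : y ∈ H) (y1 : y ≠ 1)
    (ho : orderOf y = r ^ k) : r ∣ 𝐨(H) := by
  refine (dvd_pow_self r (n := k) fun e => y1 ?_).trans (ho ▸ H.orderOf_dvd_natCard hy)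
  rwa [e, pow_zero, orderOf_eq_one_iff] at ho

/-- `H` is comparable with no other centralizer of a nonidentity element. -/
def Rigid (H : Subgroup G) : Prop := ∀ w : G, w ≠ 1 → H ≤ 𝐂[w] ∨ 𝐂[w] ≤ H → 𝐂[w] = H

theorem Rigid.of_coprime {x w : G} (h : Rigid 𝐂[x]) (x1 : x ≠ 1) (w1 : w ≠ 1) (hw : w ∈ 𝐂[x])
    (ho : (orderOf x).Coprime (orderOf w)) : 𝐂[w] = 𝐂[x] := by
  have hc := CA.mem_cent.mp hw
  have e := H9.centralizer_mul_of_coprime hc ho
  have := h _ (mul_ne_one' hc ho x1) (Or.inr (e ▸ inf_le_left))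
  exact h w w1 (Or.inl (by rw [← this, e]; exact inf_le_right))

theorem Rigid.all {x : G} (h : Rigid 𝐂[x]) (x1 : x ≠ 1) {p i r : ℕ} (hp : p.Prime) (hr : r.Prime)
    (hpr : p ≠ r) (ho : orderOf x = p ^ i) (hd : r ∣ 𝐨(𝐂[x])) : ∀ w ∈ 𝐂[x], w ≠ 1 → 𝐂[w] = 𝐂[x] := by
  obtain ⟨y, hy, y1, hyo⟩ := exists_prime_elt hr hd
  have e := h.of_coprime x1 y1 hy (cop hp hr hpr ho hyo)
  refine fun w hw w1 => h w w1 (Or.inl (le_cent_of_primary (fun q k v hq hv v1 hvo => ?_) hw))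
  by_cases hq' : p = q
  · subst hq'
    exact (((e ▸ h : Rigid 𝐂[y]).of_coprime y1 v1 (e ▸ hv) (cop hr hp hpr.symm hyo hvo)).trans e).ge
  · exact (h.of_coprime x1 v1 hv (cop hp hq hq' ho hvo)).ge

theorem exists_prime_or_pow {p n : ℕ} (hn : n ≠ 0) :
    (∃ r, r.Prime ∧ p ≠ r ∧ r ∣ n) ∨ ∃ k, n = p ^ k := by
  by_cases h : ∃ r, r.Prime ∧ p ≠ r ∧ r ∣ n
  · exact Or.inl h
  · push Not at h
    exact Or.inr ⟨_, Nat.eq_prime_pow_of_unique_prime_dvd hn fun {d} hd hdn => by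
      by_contra e; exact h d hd (Ne.symm e) hdn⟩

theorem cs_dvd_of_card_dvd {x y : G} (h : 𝐨(𝐂[x]) ∣ 𝐨(𝐂[y])) : cs y ∣ cs x := by
  obtain ⟨m, hm⟩ := h
  refine ⟨m, Nat.eq_of_mul_eq_mul_left (Nat.card_pos (α := 𝐂[x])) ?_⟩
  rw [card_mul_index, ← (𝐂[y]).card_mul_index, hm]; ring

/-- Pairwise non-dividing class sizes. -/
theorem antichain (h : ∀ x y : G, x ≠ 1 → y ≠ 1 → cs x ∣ cs y → cs x = cs y) : Concl G := by
  have := Fact.mk Nat.prime_two
  have hR : ∀ x : G, x ≠ 1 → Rigid 𝐂[x] := fun x x1 w w1 hw => by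
    rcases hw with hw | hw
    · exact (H8.eq_of_le_of_index_eq hw (h w x w1 x1 (cs_dvd hw)).symm).symm
    · exact H8.eq_of_le_of_index_eq hw (h x w x1 w1 (cs_dvd hw)).symm
  rcases Nat.even_or_odd (Nat.card G) with he | ho
  swap
  · exact Or.inl (feit_thompson G ho)
  obtain ⟨S⟩ : Nonempty (Sylow 2 G) := inferInstance
  obtain ⟨z, k, hz, z1, ho, hS⟩ := exists_central S he.two_dvd
  have hev : Even 𝐨(𝐂[z]) := even_iff_two_dvd.mpr (dvd_card_of_mem (H8.mem_cent_self z) z1 ho)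
  rcases exists_prime_or_pow (p := 2) (Nat.card_pos (α := 𝐂[z])).ne' with ⟨r, hr, h2, hd⟩ | ⟨m, hm⟩
  · exact ct ((hR z z1).all z1 Nat.prime_two hr h2 ho hd) hev
  have hz2 : ¬ 2 ∣ cs z := H9.not_dvd_index_iff_exists_sylow_le.mpr ⟨S, hS⟩
  have hSe : 𝐂[z] = S := S.is_maximal' (IsPGroup.of_card hm) hS
  have hodd : ∀ x : G, (∃ k : ℕ, orderOf x = 2 ^ k) → ¬ 2 ∣ cs x := by
    rintro x ⟨j, hj⟩
    obtain ⟨g, hg⟩ := exists_conj_mem_of_not_dvd_index hj hz2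
    rw [cs, ← H9.index_centralizer_conj g x]
    rw [← H8.orderOf_conj' g x] at hj
    generalize g * x * g⁻¹ = y at hg hj
    by_cases y1 : y = 1
    · rw [y1, H9.index_centralizer_eq_one_iff.mpr (one_mem _)]; decide
    rcases exists_prime_or_pow (p := 2) (Nat.card_pos (α := 𝐂[y])).ne' with
      ⟨r, hr, h2, hd⟩ | ⟨m', hm'⟩
    · rw [← (hR y y1).all y1 Nat.prime_two hr h2 hj hd z (H8.mem_cent_comm.mp hg) z1]
      exact hz2
    · have : 𝐨(𝐂[y]) ∣ 𝐨(𝐂[z]) := by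
        rw [hSe, S.card_eq_multiplicity, hm']
        exact pow_dvd_pow 2 (Nat.prime_two.pow_dvd_iff_le_factorization Nat.card_pos.ne' |>.mp
          (hm' ▸ card_subgroup_dvd_card _))
      change ¬ 2 ∣ cs y
      rw [← h z y z1 y1 (cs_dvd_of_card_dvd this)]
      exact hz2
  have hab := CA.comm_iff.mp (sylow_two_comm_of_odd_class hodd S)
  exact ct (fun x hx x1 => hR z z1 x x1 (Or.inl fun y hy =>
    CA.mem_cent.mpr (hab x (hSe ▸ hx) y (hSe ▸ hy)))) hev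

end Cfsg.Agent.H7.Rk3
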