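/-
Centerless groups with at most three nontrivial class sizes, II: class sizes `a ∣ c` and `b`.
-/
import Cfsg.Agent.H7.Rk3A

set_option autoImplicit false
set_option linter.unusedSectionVars false

namespace Cfsg.Agent.H7.Rk3

open Subgroup Cfsg Cfsg.Agent Cfsg.Agent.FT

universe u

variable {G : Type u} [Group G] [Finite G]

theorem cs_conj (g x : G) : cs (g * x * g⁻¹) = cs x := H9.index_centralizer_conj g x

theorem cs_eq_one {x : G} : cs x = 1 ↔ x ∈ center G := H9.index_centralizer_eq_one_iff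

theorem conj_mem_cent {x y : G} (h : y ∈ 𝐂[x]) (g : G) : g * y * g⁻¹ ∈ 𝐂[g * x * g⁻¹] :=
  CA.mem_cent.mpr (by
    have := (CA.mem_cent.mp h).eq
    calc g * x * g⁻¹ * (g * y * g⁻¹) = g * (x * y) * g⁻¹ := by group
      _ = g * y * g⁻¹ * (g * x * g⁻¹) := by rw [this]; group)

theorem cam_abs {q r k j : ℕ} (hq : q.Prime) (hr : r.Prime) (hqr : q ≠ r)
    (hP : ∀ (p i : ℕ) (w : G), p.Prime → orderOf w = p ^ i → cs w = 1 ∨ cs w = k) (qk : q ∣ k)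
    (rk : r ∣ k) {y : G} (hy : orderOf y = q ^ j) (hk : cs y = k)
    (hM : ∀ g w : G, w ∈ 𝐂[g * y * g⁻¹] → (orderOf y).Coprime (orderOf w) →
      𝐂[g * y * g⁻¹] ≤ 𝐂[w]) : False := by
  have := Fact.mk hq
  have := Fact.mk hr
  have hM1 : ∀ w : G, w ∈ 𝐂[y] → (orderOf y).Coprime (orderOf w) → 𝐂[y] ≤ 𝐂[w] := by
    simpa using hM 1
  have hP' : ∀ (p i : ℕ) (w : G), p.Prime → orderOf w = p ^ i → w ∉ center G → cs w = k :=
    fun p i w hp ho hw => (hP p i w hp ho).resolve_left fun e => hw (cs_eq_one.mp e)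
  have yc : y ∉ center G := fun e => hq.one_lt.ne' (Nat.dvd_one.mp (by
    rwa [← hk, cs_eq_one.mpr e] at qk))
  obtain ⟨R⟩ : Nonempty (Sylow r G) := inferInstance
  obtain ⟨v, hvR, vc⟩ : ∃ v ∈ (R : Subgroup G), v ∉ center G := by
    by_contra hn
    push Not at hn
    exact H9.not_dvd_index_iff_exists_sylow_le.mpr ⟨R, le_trans hn (H8.center_le_cent y)⟩ (hk ▸ rk : r ∣ cs y)
  obtain ⟨i, hvo⟩ := H7.exists_orderOf_eq_pow_of_mem R.isPGroup' hvR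
  have hcard : 𝐨(𝐂[y]) = 𝐨(𝐂[v]) := Nat.eq_of_mul_eq_mul_right
    (Nat.pos_of_ne_zero (cs_ne_zero y)) (by
      rw [card_mul_index, hk, ← hP' r i v hr hvo vc, card_mul_index])
  obtain ⟨w, hw, wc, i, hwo⟩ := H8.exists_not_mem_center_of_card_eq hcard (H8.center_le_cent v)
    (H8.mem_cent_self v) hvo vc
  have hE : ∀ (w : G) (i : ℕ), w ∈ 𝐂[y] → w ∉ center G → orderOf w = r ^ i → 𝐂[w] = 𝐂[y] :=
    fun w i hw wc hwo => (H8.eq_of_le_of_index_eq (hM1 w hw (cop hq hr hqr hy hwo))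
      (hk.trans (hP' r i w hr hwo wc).symm)).symm
  have e := hE w i hw wc hwo
  obtain ⟨S, h1, h2, h3, h4⟩ := H1.exists_sylow_of_le (p := r) (zpowers_le.mpr hw)
    (H8.isPGroup_zpowers_of_orderOf hwo)
  obtain ⟨u, m, huo, huN, huD⟩ := H6.exists_primePow_mem_normalizer h2 h3 h4 (hk ▸ rk : r ∣ cs y)
  obtain ⟨S', h1', h2', h3', h4'⟩ := H1.exists_sylow_of_le (p := q)
    (zpowers_le.mpr (H8.mem_cent_self y)) (H8.isPGroup_zpowers_of_orderOf hy)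
  obtain ⟨v, m', hvo, hvN, hvD⟩ := H6.exists_primePow_mem_normalizer h2' h3' h4' (hk ▸ qk : q ∣ cs y)
  have hA : ∀ a ∈ 𝐂[y], 𝐂[y] ≤ 𝐂[a] → a ∈ 𝐂[y] ⊓ 𝐂(𝐂[y]) := fun a ha h =>
    ⟨ha, fun b hb => (CA.mem_cent.mp (h hb)).symm.eq⟩
  refine H6.camina_false' hqr.symm (A := 𝐂[y] ⊓ 𝐂(𝐂[y])) inf_le_left
    (H1.le_normalizer_inf le_rfl (H1.le_normalizer_centralizer le_rfl)) (fun a ha ac => ?_)
    hwo hy (hA w hw e.ge) (hA y (H8.mem_cent_self y) le_rfl) wc yc huo hvo ?_ ?_ huD hvD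
  · obtain ⟨p, n, a', hp, ha', ho, ac'⟩ := H8.exists_primePow_not_mem ac
    have l1 : 𝐂[y] ≤ 𝐂[a] := fun b hb => CA.mem_cent.mpr (show Commute b a from ha.2 b hb).symm
    have l2 := H9.centralizer_le_of_mem_zpowers ha'
    exact le_antisymm (l2.trans (H8.eq_of_le_of_index_eq (l1.trans l2)
      (hk.trans (hP' p n a' hp ho ac').symm)).ge) l1
  · rw [← e]
    refine H6.mem_normalizer_of_centralizer_conj ((hE _ i (h2 ?_) (H6.conj_not_mem_center wc u)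
      (by rw [H8.orderOf_conj', hwo])).trans e.symm)
    exact (mem_normalizer_iff.mp huN w).mp (h1 (mem_zpowers w))
  · have h5 : v * y * v⁻¹ ∈ 𝐂[w] := e ▸ h2' ((mem_normalizer_iff.mp hvN y).mp (h1' (mem_zpowers y)))
    exact H6.mem_normalizer_of_centralizer_conj (H8.eq_of_le_of_index_eq
      ((hM v w (H8.mem_cent_comm.mp h5) (cop hq hr hqr hy hwo)).trans e.le) (cs_conj v y))

/-- The class sizes of nonidentity elements are `a`, `b`, `c` with `a ∣ c` and `(a, b) = 1`. -/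
structure Cfg (G : Type u) [Group G] (a b c : ℕ) : Prop where
  z : center G = ⊥
  typ : ∀ x : G, x ≠ 1 → cs x = a ∨ cs x = b ∨ cs x = c
  dvd : a ∣ c
  ne : a ≠ c
  cop : a.Coprime b
  exa : ∃ x : G, x ≠ 1 ∧ cs x = a
  exb : ∃ x : G, x ≠ 1 ∧ cs x = b
  exc : ∃ x : G, x ≠ 1 ∧ cs x = c

/-- Primes dividing `c` but not `a`. -/
structure Sg (a c t : ℕ) : Prop where
  pr : t.Prime
  na : ¬ t ∣ a
  dc : t ∣ c

theorem exists_primary {x : G} (x1 : x ≠ 1) :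
    ∃ (p k : ℕ) (y : G), p.Prime ∧ y ≠ 1 ∧ orderOf y = p ^ k ∧ 𝐂[x] ≤ 𝐂[y] := by
  obtain ⟨p, k, y, hp, hy, ho, y1⟩ := H8.exists_primePow_not_mem (H := ⊥) (mem_bot.not.mpr x1)
  exact ⟨p, k, y, hp, mem_bot.not.mp y1, ho, H9.centralizer_le_of_mem_zpowers hy⟩

namespace Cfg

variable {a b c : ℕ} (h : Cfg G a b c)
include h

theorem cs_ne_one {x : G} (x1 : x ≠ 1) : cs x ≠ 1 := fun e =>
  x1 (mem_bot.mp (h.z ▸ cs_eq_one.mp e))

theorem a1 : a ≠ 1 := by obtain ⟨x, x1, rfl⟩ := h.exa; exact h.cs_ne_one x1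

theorem b1 : b ≠ 1 := by obtain ⟨x, x1, rfl⟩ := h.exb; exact h.cs_ne_one x1

theorem a0 : a ≠ 0 := by obtain ⟨x, -, rfl⟩ := h.exa; exact cs_ne_zero x

theorem b0 : b ≠ 0 := by obtain ⟨x, -, rfl⟩ := h.exb; exact cs_ne_zero x

theorem c_dvd : c ∣ Nat.card G := by obtain ⟨x, -, rfl⟩ := h.exc; exact index_dvd_card _

theorem ab : ¬ a ∣ b := fun e => h.a1 (h.cop.eq_one_of_dvd e)

theorem ba : ¬ b ∣ a := fun e => h.b1 (h.cop.symm.eq_one_of_dvd e)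

theorem ca : ¬ c ∣ a := fun e => h.ne (Nat.dvd_antisymm h.dvd e)

theorem cb : ¬ c ∣ b := fun e => h.ab (h.dvd.trans e)

theorem nb {p : ℕ} (hp : p.Prime) (ha : p ∣ a) : ¬ p ∣ b := fun e =>
  hp.one_lt.ne' (Nat.eq_one_of_dvd_coprimes h.cop ha e)

theorem max_a {x w : G} (hx : cs x = a) (w1 : w ≠ 1) (hle : 𝐂[x] ≤ 𝐂[w]) : 𝐂[w] = 𝐂[x] := by
  have hd := cs_dvd hle
  rw [hx] at hd
  rcases h.typ w w1 with e | e | e
  · exact (H8.eq_of_le_of_index_eq hle (hx.trans e.symm)).symm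
  · exact absurd (e ▸ hd) h.ba
  · exact absurd (e ▸ hd) h.ca

theorem max_b {x w : G} (hx : cs x = b) (w1 : w ≠ 1) (hle : 𝐂[x] ≤ 𝐂[w]) : 𝐂[w] = 𝐂[x] := by
  have hd := cs_dvd hle
  rw [hx] at hd
  rcases h.typ w w1 with e | e | e
  · exact absurd (e ▸ hd) h.ab
  · exact (H8.eq_of_le_of_index_eq hle (hx.trans e.symm)).symm
  · exact absurd (e ▸ hd) h.cb

theorem of_le_a {x w : G} (hx : cs x = a) (w1 : w ≠ 1) (hle : 𝐂[w] ≤ 𝐂[x]) :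
    𝐂[w] = 𝐂[x] ∨ cs w = c := by
  have hd := cs_dvd hle
  rw [hx] at hd
  rcases h.typ w w1 with e | e | e
  · exact Or.inl (H8.eq_of_le_of_index_eq hle (e.trans hx.symm))
  · exact absurd (e ▸ hd) h.ab
  · exact Or.inr e

theorem le_of_c {x w : G} (x1 : x ≠ 1) (hx : cs x = c) (hw : w ∈ 𝐂[x])
    (ho : (orderOf x).Coprime (orderOf w)) : 𝐂[x] ≤ 𝐂[w] := by
  have hc := CA.mem_cent.mp hw
  have e := H9.centralizer_mul_of_coprime hc ho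
  have hle : 𝐂[x * w] ≤ 𝐂[x] := e ▸ inf_le_left
  have hd := cs_dvd hle
  rw [hx] at hd
  rcases h.typ _ (mul_ne_one' hc ho x1) with e' | e' | e'
  · exact absurd (e' ▸ hd) h.ca
  · exact absurd (e' ▸ hd) h.cb
  · rw [← H8.eq_of_le_of_index_eq hle (e'.trans hx.symm), e]; exact inf_le_right

theorem inf_a {x w : G} (x1 : x ≠ 1) (hx : cs x = a) (hw : w ∈ 𝐂[x])
    (ho : (orderOf x).Coprime (orderOf w)) : 𝐂[x] ≤ 𝐂[w] ∨ (𝐂[x] ⊓ 𝐂[w]).index = c := by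
  have hc := CA.mem_cent.mp hw
  have e := H9.centralizer_mul_of_coprime hc ho
  rcases h.of_le_a hx (mul_ne_one' hc ho x1) (e ▸ inf_le_left) with e' | e'
  · left; rw [← e', e]; exact inf_le_right
  · right; rw [← e]; exact e'

theorem eq_of_sylow {t : ℕ} [Fact t.Prime] (ht : Sg a c t) {x z : G} {k : ℕ} (x1 : x ≠ 1)
    (hx : cs x = a) (ho : (orderOf x).Coprime t) {T : Sylow t G} (hT : (T : Subgroup G) ≤ 𝐂[x])
    (hz : z ∈ (T : Subgroup G)) (z1 : z ≠ 1) (hzo : orderOf z = t ^ k)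
    (hTz : (T : Subgroup G) ≤ 𝐂[z]) : 𝐂[z] = 𝐂[x] := by
  rcases h.inf_a x1 hx (hT hz) (hzo ▸ ho.pow_right k) with e | e
  · exact h.max_a hx z1 e
  · exact absurd (e ▸ ht.dc) (H9.not_dvd_index_iff_exists_sylow_le.mpr ⟨T, le_inf hT hTz⟩)

theorem step {t : ℕ} (ht : Sg a c t) {x : G} (x1 : x ≠ 1) (hx : cs x = a)
    (ho : (orderOf x).Coprime t) : ∃ (z : G) (k : ℕ), z ≠ 1 ∧ orderOf z = t ^ k ∧ 𝐂[z] = 𝐂[x] := by
  have := Fact.mk ht.pr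
  obtain ⟨T, hT⟩ := H9.not_dvd_index_iff_exists_sylow_le.mp (hx ▸ ht.na : ¬ t ∣ cs x)
  obtain ⟨z, k, hz, z1, hzo, hTz⟩ := exists_central T (ht.dc.trans h.c_dvd)
  exact ⟨z, k, z1, hzo, h.eq_of_sylow ht x1 hx ho hT hz z1 hzo hTz⟩

theorem conj_a {t : ℕ} (ht : Sg a c t) {x y : G} (x1 : x ≠ 1) (hx : cs x = a)
    (ho : (orderOf x).Coprime t) (y1 : y ≠ 1) (hy : cs y = a) (ho' : (orderOf y).Coprime t) :
    ∃ g : G, 𝐂[g * y * g⁻¹] = 𝐂[x] := by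
  have := Fact.mk ht.pr
  obtain ⟨T, hT⟩ := H9.not_dvd_index_iff_exists_sylow_le.mp (hx ▸ ht.na : ¬ t ∣ cs x)
  obtain ⟨T', hT'⟩ := H9.not_dvd_index_iff_exists_sylow_le.mp (hy ▸ ht.na : ¬ t ∣ cs y)
  obtain ⟨g, rfl⟩ := MulAction.exists_smul_eq G T' T
  obtain ⟨z, k, hz, z1, hzo, hTz⟩ := exists_central (g • T') (ht.dc.trans h.c_dvd)
  refine ⟨g, (h.eq_of_sylow ht (conj_ne_one y1 g) ((cs_conj g y).trans hy)
    (by rwa [H8.orderOf_conj']) ?_ hz z1 hzo hTz).symm.trans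
    (h.eq_of_sylow ht x1 hx ho hT hz z1 hzo hTz)⟩
  rintro _ ⟨w, hw, rfl⟩
  exact conj_mem_cent (hT' hw) g

theorem exists_two {q r : ℕ} (hq : Sg a c q) (hr : Sg a c r) (hqr : q ≠ r) :
    ∃ (z z' : G) (k k' : ℕ), z ≠ 1 ∧ z' ≠ 1 ∧ orderOf z = q ^ k ∧ orderOf z' = r ^ k' ∧ cs z = a ∧
      𝐂[z'] = 𝐂[z] := by
  obtain ⟨z, k, z1, hzo, hz⟩ : ∃ (z : G) (k : ℕ), z ≠ 1 ∧ orderOf z = q ^ k ∧ cs z = a := by
    obtain ⟨x, x1, hx⟩ := h.exa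
    obtain ⟨p, k, y, hp, y1, ho, hle⟩ := exists_primary x1
    have hy : cs y = a := by rw [cs, h.max_a hx y1 hle]; exact hx
    by_cases e : p = q
    · exact ⟨y, k, y1, e ▸ ho, hy⟩
    · obtain ⟨z, k, z1, hzo, e'⟩ := h.step hq y1 hy (cop' hp hq.pr e ho)
      exact ⟨z, k, z1, hzo, by rw [cs, e']; exact hy⟩
  obtain ⟨z', k', z1', hzo', e⟩ := h.step hr z1 hz (cop' hq.pr hr.pr hqr hzo)
  exact ⟨z, z', k, k', z1, z1', hzo, hzo', hz, e⟩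

theorem primary_inf {q r k k' : ℕ} (hq : q.Prime) (hr : r.Prime) (hqr : q ≠ r) {z z' : G}
    (z1 : z ≠ 1) (z1' : z' ≠ 1) (hzo : orderOf z = q ^ k) (hzo' : orderOf z' = r ^ k')
    (hz : cs z = a) (e : 𝐂[z'] = 𝐂[z]) {p i : ℕ} {w : G} (hp : p.Prime) (hw : w ∈ 𝐂[z])
    (ho : orderOf w = p ^ i) : 𝐂[z] ≤ 𝐂[w] ∨ (𝐂[z] ⊓ 𝐂[w]).index = c := by
  by_cases e' : q = p
  · subst e'
    rw [← e]
    exact h.inf_a z1' (by rw [cs, e]; exact hz) (e ▸ hw) (Rk3.cop hr hq hqr.symm hzo' ho)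
  · exact h.inf_a z1 hz hw (Rk3.cop hq hp e' hzo ho)

theorem cam {q r : ℕ} (hq : Sg a c q) (hr : Sg a c r) (hqr : q ≠ r) {y : G} {j : ℕ} (y1 : y ≠ 1)
    (ho : orderOf y = q ^ j) : cs y ≠ c := by
  intro hy
  have := Fact.mk hq.pr
  obtain ⟨z, z', k, k', z1, z1', hzo, hzo', hz, e⟩ := h.exists_two hq hr hqr
  obtain ⟨g, hg⟩ := exists_conj_mem_of_not_dvd_index ho (hz ▸ hq.na : ¬ q ∣ cs z)
  rw [← cs_conj g] at hy
  rw [← H8.orderOf_conj' g] at ho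
  replace y1 := conj_ne_one y1 g
  generalize g * y * g⁻¹ = y at hg hy ho y1
  obtain ⟨m, hm⟩ := h.dvd
  have hI : ∀ w : 𝐂[z], (𝐂[z] ⊓ 𝐂[(w : G)]).index = a * cs w := fun w => by
    rw [cs, H9.centralizer_coe_subgroupOf, ← relIndex_mul_index (inf_le_left (a := 𝐂[z])),
      inf_relIndex_left, mul_comm]
    congr 1
  have hd : ∀ t, Sg a c t → t ∣ m := fun t ht =>
    (ht.pr.dvd_mul.mp (hm ▸ ht.dc)).resolve_left ht.na
  refine cam_abs (G := 𝐂[z]) (k := m) (y := ⟨y, hg⟩) hq.pr hr.pr hqr (fun p i w hp hw => ?_)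
    (hd q hq) (hd r hr) (by rw [← orderOf_coe]; exact ho) ?_ (fun g w hw hc => ?_)
  · rcases h.primary_inf hq.pr hr.pr hqr z1 z1' hzo hzo' hz e hp w.2
      (by rw [orderOf_coe]; exact hw) with e' | e'
    · left
      rw [cs, H9.centralizer_coe_subgroupOf, subgroupOf_eq_top.mpr e', index_top]
    · right
      exact Nat.eq_of_mul_eq_mul_left (Nat.pos_of_ne_zero h.a0) ((hI w).symm.trans (e'.trans hm))
  · refine Nat.eq_of_mul_eq_mul_left (Nat.pos_of_ne_zero h.a0) ((hI ⟨y, hg⟩).symm.trans ?_)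
    have : 𝐂[y] ≤ 𝐂[z] := e ▸ h.le_of_c y1 hy (H8.mem_cent_comm.mp (e ▸ hg))
      (Rk3.cop hq.pr hr.pr hqr ho hzo')
    rw [inf_eq_right.mpr this, ← hm]
    exact hy
  · rw [H9.centralizer_coe_subgroupOf] at hw ⊢
    rw [H9.centralizer_coe_subgroupOf]
    refine comap_mono (h.le_of_c (conj_ne_one y1 g) ((cs_conj _ y).trans hy) hw ?_)
    rw [← orderOf_coe, ← orderOf_coe] at hc
    exact (H8.orderOf_conj' (g : G) y).symm ▸ hc

theorem ab2 {q : ℕ} (h2 : Sg a c 2) (hq : Sg a c q) (hq2 : 2 ≠ q)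
    (hodd : ∀ x : G, (∃ k : ℕ, orderOf x = 2 ^ k) → ¬ 2 ∣ cs x) : Concl G := by
  have := Fact.mk Nat.prime_two
  obtain ⟨z, z', k, k', z1, z1', hzo, hzo', hz, e⟩ := h.exists_two h2 hq hq2
  have key : ∀ {p i : ℕ} {w : G}, p.Prime → w ∈ 𝐂[z] → orderOf w = p ^ i →
      ¬ 2 ∣ (𝐂[z] ⊓ 𝐂[w]).index → 𝐂[z] ≤ 𝐂[w] := fun hp hw ho hn =>
    (h.primary_inf h2.pr hq.pr hq2 z1 z1' hzo hzo' hz e hp hw ho).resolve_right fun e' =>
      hn (e' ▸ h2.dc)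
  have h1 : ∀ {i : ℕ} {w : G}, w ∈ 𝐂[z] → orderOf w = 2 ^ i → 𝐂[z] ≤ 𝐂[w] := by
    intro i w hw ho
    obtain ⟨S, l1, l2, l3, l4⟩ := H1.exists_sylow_of_le (p := 2) (zpowers_le.mpr hw)
      (H8.isPGroup_zpowers_of_orderOf ho)
    obtain ⟨P, hP⟩ := l3.exists_le_sylow
    have hab := CA.comm_iff.mp (sylow_two_comm_of_odd_class hodd P)
    refine key Nat.prime_two hw ho fun hd => ?_
    have l5 : S ≤ 𝐂[z] ⊓ 𝐂[w] := le_inf l2 fun y hy =>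
      CA.mem_cent.mpr (hab w (hP (l1 (mem_zpowers w))) y (hP hy))
    have := hd.trans (index_dvd_of_le l5)
    rw [← relIndex_mul_index l2] at this
    exact (Nat.prime_two.dvd_mul.mp this).elim l4 (hz ▸ h2.na : ¬ 2 ∣ cs z)
  obtain ⟨S, hS⟩ := H9.not_dvd_index_iff_exists_sylow_le.mp (hz ▸ h2.na : ¬ 2 ∣ cs z)
  refine ct (H := 𝐂[z]) (fun x hx x1 => h.max_a hz x1 (le_cent_of_primary
    (fun p i w hp hw _ ho => key hp hw ho (H9.not_dvd_index_iff_exists_sylow_le.mpr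
      ⟨S, le_inf hS fun s hs => ?_⟩)) hx))
    (even_iff_two_dvd.mpr (dvd_card_of_mem (H8.mem_cent_self z) z1 hzo))
  obtain ⟨i, hi⟩ := H7.exists_orderOf_eq_pow_of_mem S.isPGroup' hs
  exact H8.mem_cent_comm.mp (h1 (hS hs) hi hw)

theorem union {t k q : ℕ} (ht : t.Prime) (htb : ¬ t ∣ b) {x : G} (x1 : x ≠ 1) (hx : cs x = a)
    (ho : orderOf x = t ^ k) (hq : q.Prime) (hqa : ¬ q ∣ a)
    (hw : ∀ (p i : ℕ) (w : G), p.Prime → p ≠ q → w ≠ 1 → orderOf w = p ^ i →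
      cs w = b ∨ ∃ g : G, 𝐂[g * w * g⁻¹] = 𝐂[x]) : False := by
  have := Fact.mk ht
  have := Fact.mk hq
  refine h.cs_ne_one x1 (index_eq_one.mpr (H6.eq_top_of_forall_exists_conj_mem _ fun g => ?_))
  obtain ⟨u, v, -, hv, rfl, hc, ⟨j, hu⟩, hvo⟩ := H8.exists_pPart_pPrimePart hq g
  obtain ⟨m, hm⟩ := exists_conj_mem_of_not_dvd_index hu (hx ▸ hqa : ¬ q ∣ cs x)
  by_cases hv' : m * v * m⁻¹ ∈ 𝐂[x]
  · refine ⟨m⁻¹, ?_⟩
    have := mul_mem hm hv'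
    rwa [conj_mul, ← inv_inv m, inv_inv m⁻¹] at this
  obtain ⟨p, i, y, hp, hy, hyo, hyx⟩ := H8.exists_primePow_not_mem hv'
  have y1 : y ≠ 1 := fun e => hyx (e ▸ one_mem _)
  have hpq : p ≠ q := by
    rintro rfl
    refine y1 (H8.eq_one_of_orderOf_pow_of_coprime hyo (Nat.Coprime.coprime_dvd_left
      (orderOf_dvd_of_mem_zpowers hy) ?_))
    rwa [H8.orderOf_conj']
  rcases hw p i y hp hpq y1 hyo with e | ⟨n, hn⟩
  · have := commute_conj_of_primePow ho (e ▸ htb : ¬ t ∣ cs y) (hx ▸ e ▸ h.cop) 1 1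
    simp only [one_mul, inv_one, mul_one] at this
    exact absurd (CA.mem_cent.mpr this) hyx
  · have h1 : m * (u * v) * m⁻¹ ∈ 𝐂[y] := H9.centralizer_le_of_mem_zpowers hy
      (conj_mem_cent (CA.mem_cent.mpr (hc.symm.mul_right (Commute.refl v))) m)
    refine ⟨(n * m)⁻¹, ?_⟩
    have := hn ▸ conj_mem_cent h1 n
    convert this using 1
    group

end Cfg

end Cfsg.Agent.H7.Rk3
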