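/-
Centerless groups with at most three nontrivial class sizes, III: conclusion.
-/
import Cfsg.Agent.H7.Rk3B
import Cfsg.Agent.H7.Ito

set_option autoImplicit false
set_option linter.unusedSectionVars false

namespace Cfsg.Agent.H7.Rk3

open Subgroup Cfsg Cfsg.Agent Cfsg.Agent.FT

universe u

variable {G : Type u} [Group G] [Finite G]

theorem sol_of_primary {R : Subgroup G} [R.Normal] (hR : Group.IsSolvable R) {q : ℕ} (hq : q.Prime)
    (h : ∀ (p i : ℕ) (w : G), p.Prime → p ≠ q → w ≠ 1 → orderOf w = p ^ i → w ∈ R) :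
    Group.IsSolvable G := by
  have := Fact.mk hq
  have : IsPGroup q (G ⧸ R) := H8.isPGroup_quotient_iff_pResidual_le hq |>.mpr (by
    rw [← H8.pResidualOf_top, H8.pResidualOf_eq_closure, closure_le]
    rintro v ⟨-, hv⟩
    by_contra hn
    obtain ⟨p, i, y, hp, hy, hyo, hyx⟩ := H8.exists_primePow_not_mem hn
    have y1 : y ≠ 1 := fun e => hyx (e ▸ one_mem _)
    refine hyx (h p i y hp ?_ y1 hyo)
    rintro rfl
    exact y1 (H8.eq_one_of_orderOf_pow_of_coprime hyo (Nat.Coprime.coprime_dvd_left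
      (orderOf_dvd_of_mem_zpowers hy) hv)))
  have := this.isNilpotent
  exact L.isSolvable_of_normal_of_quotient R hR inferInstance

theorem exists_res : ∃ L : Subgroup G, L.Normal ∧ (Group.IsSolvable L → Group.IsSolvable G) ∧
    ∀ q : ℕ, q.Prime → HasNormalPComplement q G → ¬ q ∣ 𝐨(L) := by
  obtain ⟨_, ⟨n, rfl⟩, hn⟩ := (wellFounded_lt (α := Subgroup G)).has_min
    (Set.range (derivedSeries G)) ⟨_, 0, rfl⟩
  refine ⟨derivedSeries G n, inferInstance, fun h => L.isSolvable_of_normal_of_quotient _ h ⟨⟨n, ?_⟩⟩,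
    fun q hq h hd => ?_⟩
  · rw [← map_derivedSeries_eq (QuotientGroup.mk'_surjective _), Subgroup.map_eq_bot_iff,
      QuotientGroup.ker_mk']
  · have := Fact.mk hq
    obtain ⟨N, hN, h1, h2⟩ := H8.hasNPC_iff_exists.1 h
    have := (H8.isPGroup_quotient_iff_index.2 h2).isNilpotent
    obtain ⟨m, hm⟩ := (inferInstance : Group.IsSolvable (G ⧸ N)).solvable
    have h3 := map_derivedSeries_le_derivedSeries (QuotientGroup.mk' N) m
    rw [hm, le_bot_iff, Subgroup.map_eq_bot_iff, QuotientGroup.ker_mk'] at h3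
    have h4 : derivedSeries G (max n m) = derivedSeries G n :=
      (derivedSeries_antitone G (le_max_left n m)).eq_of_not_lt (hn _ ⟨_, rfl⟩)
    have h5 : derivedSeries G n ≤ N :=
      (h4.ge.trans (derivedSeries_antitone G (le_max_right n m))).trans h3
    exact (Nat.Prime.coprime_iff_not_dvd hq).mp h1.symm (hd.trans (Subgroup.card_dvd_of_le h5))

theorem frob {B : Subgroup G} (hB : ∀ x ∈ B, x ≠ 1 → 𝐂[x] = B) (hT : B ≠ ⊤) {p : ℕ} [Fact p.Prime]
    {P : Sylow p G} (hP : (P : Subgroup G) ≤ B) (P1 : (P : Subgroup G) ≠ ⊥)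
    (hN : 𝐍((P : Subgroup G)) ≤ 𝐂((P : Subgroup G))) : Group.IsSolvable G := by
  obtain ⟨⟨z, hz⟩, z1⟩ := (ne_bot_iff_exists_ne_one).mp P1
  have z1 : z ≠ 1 := fun e => z1 (Subtype.ext e)
  have hF : IsFrobeniusComplement B := by
    refine H9.isFrobeniusComplement_iff.mpr ⟨fun e => P1 (le_bot_iff.mp (e ▸ hP)), hT,
      fun g x hx x1 hg => ?_⟩
    have h1 := mem_norm_of_eq hB hx x1 hg
    have h2 : g ∈ 𝐍((P : Subgroup G)) := by
      refine mem_normalizer_fintype fun y hy => ?_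
      obtain ⟨k, hk⟩ := H7.exists_orderOf_eq_pow_of_mem P.isPGroup' hy
      refine H9.mem_sylow_of_mem_normalizer P ((H8.orderOf_conj' g y).trans hk)
        (centralizer_le_normalizer _ fun w hw => (comm_of_eq hB (hP hw) ?_).eq)
      exact (mem_normalizer_iff.mp h1 y).mp (hP hy)
    exact hB z (hP hz) z1 ▸ CA.mem_cent.mpr (hN h2 z hz)
  obtain ⟨N, hN, h1, h2⟩ := H6.exists_frobeniusKernel hF
  have := H5.isNilpotent_frobeniusKernel hF h1
  have : Group.IsSolvable B :=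
    Group.isSolvable_of_comm fun a b => Subtype.ext (comm_of_eq hB a.2 b.2).eq
  exact L.isSolvable_of_normal_of_quotient N inferInstance
    (Group.isSolvable_of_isSolvable_injective (f := h2.symm.QuotientMulEquiv.toMonoidHom)
      h2.symm.QuotientMulEquiv.injective)

theorem dvd_card_of_primary {p i : ℕ} {w : G} (w1 : w ≠ 1) (ho : orderOf w = p ^ i) :
    p ∣ Nat.card G := card_top (G := G) ▸ dvd_card_of_mem (mem_top w) w1 ho

/-- Two primes dividing `c` but not `a`. -/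
def Two (a c : ℕ) : Prop := ∃ q r, Sg a c q ∧ Sg a c r ∧ q ≠ r

theorem Two.other {a c : ℕ} (h : Two a c) (t : ℕ) : ∃ r, Sg a c r ∧ t ≠ r := by
  obtain ⟨q, r, hq, hr, hqr⟩ := h
  by_cases e : t = q
  · exact ⟨r, hr, e ▸ hqr⟩
  · exact ⟨q, hq, e⟩

theorem eq_of_not_two {a c q r : ℕ} (h : ¬ Two a c) (hq : Sg a c q) (hr : Sg a c r) : r = q := by
  by_contra e
  exact h ⟨r, q, hr, hq, e⟩

namespace Cfg

variable {a b c : ℕ} (h : Cfg G a b c)
include h

theorem symm (hb : b ∣ c) : Cfg G b a c :=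
  ⟨h.z, fun x x1 => by have := h.typ x x1; tauto, hb, fun e => h.ab (e ▸ h.dvd), h.cop.symm, h.exb,
    h.exa, h.exc⟩

theorem dvd_or {p : ℕ} (hp : p.Prime) (hd : p ∣ Nat.card G) : p ∣ b ∨ p ∣ c := by
  have := Fact.mk hp
  by_contra hn
  push Not at hn
  obtain ⟨P⟩ : Nonempty (Sylow p G) := inferInstance
  refine P.ne_bot_of_dvd_card hd (le_bot_iff.mp (h.z ▸ sylow_le_center_of_not_dvd_class
    (fun x => ?_) P))
  change ¬ p ∣ cs x
  by_cases x1 : x = 1
  · rw [x1, cs_eq_one.mpr (one_mem _)]; exact hp.not_dvd_one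
  rcases h.typ x x1 with e | e | e <;> rw [e]
  exacts [fun e => hn.2 (e.trans h.dvd), hn.1, hn.2]

theorem cam' (h2 : Two a c) {q j : ℕ} (hq : Sg a c q) {y : G} (y1 : y ≠ 1)
    (ho : orderOf y = q ^ j) : cs y = a ∨ cs y = b := by
  obtain ⟨r, hr, hqr⟩ := h2.other q
  have := h.cam hq hr hqr y1 ho
  have := h.typ y y1
  tauto

theorem caseV1 (hb : b ∣ c) (h2 : ¬ Two a c) : Group.IsSolvable G := by
  by_contra hs
  obtain ⟨q, hq, hqb⟩ := Nat.exists_prime_and_dvd h.b1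
  have sg : ∀ t, t.Prime → t ∣ b → Sg a c t := fun t ht e => ⟨ht, fun e' => h.nb ht e' e, e.trans hb⟩
  have hbq := Nat.eq_prime_pow_of_unique_prime_dvd h.b0 fun {d} hd e =>
    eq_of_not_two h2 (sg q hq hqb) (sg d hd e)
  have sg' : ∀ t, t.Prime → t ≠ q → t ∣ Nat.card G → Sg b c t := fun t ht e hd =>
    ⟨ht, fun e' => e (eq_of_not_two h2 (sg q hq hqb) (sg t ht e')),
      (h.dvd_or ht hd).elim (·.trans hb) id⟩
  have hab : ∀ (p i : ℕ) (w : G), p.Prime → p ≠ q → w ≠ 1 → orderOf w = p ^ i →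
      cs w = b ∨ cs w = a := fun p i w hp hpq w1 ho => by
    obtain ⟨r, hr, hd, e⟩ : ∃ r, r.Prime ∧ r ∣ Nat.card G ∧ ¬ (r = p ∨ r = q) := by
      by_contra hn
      push Not at hn
      exact hs (H6.isSolvable_of_primes_two p q hn)
    push Not at e
    have h3 := sg' p hp hpq (dvd_card_of_primary w1 ho)
    exact (h.symm hb).cam' ⟨p, r, h3, sg' r hr e.2 hd, e.1.symm⟩ h3 w1 ho
  refine hs (sol_of_primary (R := solvableRadical G) inferInstance hq fun t k x ht htq x1 ho => ?_)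
  rcases hab t k x ht htq x1 ho with e | e
  · exact H6.mem_solvableRadical_of_index_centralizer hq (e.trans hbq)
  · refine (h.union ht (sg' t ht htq (dvd_card_of_primary x1 ho)).na x1 e ho hq (sg q hq hqb).na
      fun p i w hp hpq w1 hw => (hab p i w hp hpq w1 hw).imp_right fun e' => ?_).elim
    exact h.conj_a (sg q hq hqb) x1 e (cop' ht hq htq ho) w1 e' (cop' hp hq hpq hw)

theorem caseV2 (hb : b ∣ c) (h2 : Two a c) (h2' : Two b c) (ha : ¬ 2 ∣ a) (he : 2 ∣ Nat.card G) :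
    Concl G := by
  have hc : ∀ p, p.Prime → p ∣ Nat.card G → p ∣ c := fun p hp hd =>
    (h.dvd_or hp hd).elim (·.trans hb) id
  have hab : ∀ (p i : ℕ) (w : G), p.Prime → w ≠ 1 → orderOf w = p ^ i → cs w = a ∨ cs w = b :=
    fun p i w hp w1 ho => by
      have hd := hc p hp (dvd_card_of_primary w1 ho)
      by_cases e : p ∣ a
      · exact ((h.symm hb).cam' h2' ⟨hp, h.nb hp e, hd⟩ w1 ho).symm
      · exact h.cam' h2 ⟨hp, e, hd⟩ w1 ho
  obtain ⟨q, hq, hq2⟩ := h2.other 2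
  refine h.ab2 ⟨Nat.prime_two, ha, hc 2 Nat.prime_two he⟩ hq hq2 ?_
  rintro x ⟨k, ho⟩
  by_cases x1 : x = 1
  · rw [x1, cs_eq_one.mpr (one_mem _)]; decide
  rcases hab 2 k x Nat.prime_two x1 ho with e | e
  · rwa [e]
  obtain ⟨r, hr, hr2⟩ := h2'.other 2
  refine ((h.symm hb).union Nat.prime_two ha x1 e ho hr.pr hr.na fun p i w hp hpr w1 hw =>
    (hab p i w hp w1 hw).imp_right fun e' => ?_).elim
  exact (h.symm hb).conj_a hr x1 e (cop' Nat.prime_two hr.pr hr2 ho) w1 e' (cop' hp hr.pr hpr hw)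

theorem caseV (hb : b ∣ c) : Concl G := by
  by_cases h2 : Two a c
  swap
  · exact Or.inl (h.caseV1 hb h2)
  by_cases h2' : Two b c
  swap
  · exact Or.inl ((h.symm hb).caseV1 h.dvd h2')
  rcases Nat.even_or_odd (Nat.card G) with he | ho
  swap
  · exact Or.inl (feit_thompson G ho)
  by_cases ha : 2 ∣ a
  · exact (h.symm hb).caseV2 h.dvd h2' h2 (h.nb Nat.prime_two ha) he.two_dvd
  · exact h.caseV2 hb h2 h2' ha he.two_dvd

theorem rigid_b (hb : ¬ b ∣ c) {y : G} (hy : cs y = b) : Rigid 𝐂[y] := fun w w1 hw => by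
  rcases hw with hw | hw
  · exact h.max_b hy w1 hw
  have hd := cs_dvd hw
  rw [hy] at hd
  rcases h.typ w w1 with e | e | e
  · exact absurd (e ▸ hd) h.ba
  · exact H8.eq_of_le_of_index_eq hw (e.trans hy.symm)
  · exact absurd (e ▸ hd) hb

theorem card_eq {y w : G} (hy : cs y = b) (hw : cs w = b) : 𝐨(𝐂[w]) = 𝐨(𝐂[y]) :=
  Nat.eq_of_mul_eq_mul_right (Nat.pos_of_ne_zero h.b0) (by
    conv_lhs => rw [← hw, card_mul_index]
    rw [← hy, card_mul_index])

theorem sylow_b {y : G} (hy : cs y = b) {p : ℕ} [hp : Fact p.Prime] (ha : p ∣ a) :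
    ∃ P : Sylow p G, (P : Subgroup G) ≤ 𝐂[y] ∧ (P : Subgroup G) ≠ ⊥ := by
  obtain ⟨P, hP⟩ := H9.not_dvd_index_iff_exists_sylow_le.mp (hy ▸ h.nb hp.out ha : ¬ p ∣ cs y)
  exact ⟨P, hP, P.ne_bot_of_dvd_card ((ha.trans h.dvd).trans h.c_dvd)⟩

theorem dvd_b {y : G} (hy : cs y = b) {p : ℕ} (hp : p.Prime) (ha : p ∣ a) : p ∣ 𝐨(𝐂[y]) := by
  have h1 : p ∣ Nat.card G := (ha.trans h.dvd).trans h.c_dvd
  rw [← (𝐂[y]).card_mul_index] at h1
  exact (hp.dvd_mul.mp h1).resolve_right (hy ▸ h.nb hp ha : ¬ p ∣ cs y)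

theorem npc (hs : ¬ Group.IsSolvable G) {y : G} (y1 : y ≠ 1) (hy : cs y = b)
    (hB : (∀ x ∈ 𝐂[y], x ≠ 1 → 𝐂[x] = 𝐂[y]) ∨ ∃ p m, p.Prime ∧ 𝐨(𝐂[y]) = p ^ m) {q : ℕ}
    (hq : q.Prime) (hc : ¬ q ∣ c) : HasNormalPComplement q G := by
  obtain ⟨p, hp, ha⟩ := Nat.exists_prime_and_dvd h.a1
  have := Fact.mk hp
  have := Fact.mk hq
  obtain ⟨P, hP, P1⟩ := h.sylow_b hy ha
  obtain ⟨Q⟩ : Nonempty (Sylow q G) := inferInstance
  rcases normalizer_le_centralizer_or (p := p) (q := q) (fun x => by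
    change ¬ p ∣ cs x ∨ ¬ q ∣ cs x
    by_cases x1 : x = 1
    · rw [x1, cs_eq_one.mpr (one_mem _)]; exact Or.inl hp.not_dvd_one
    rcases h.typ x x1 with e | e | e <;> rw [e]
    exacts [Or.inr fun e => hc (e.trans h.dvd), Or.inl (h.nb hp ha), Or.inr hc]) P Q with e | e
  swap
  · exact H8.hasNPC_of_normalizer_le_centralizer Q e
  refine (hs (frob ?_ (fun e => h.cs_ne_one y1 (index_eq_one.mpr e)) hP P1 e)).elim
  rcases hB with hB | ⟨p', m, hp', hm⟩
  · exact hB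
  have : p = p' := (Nat.prime_dvd_prime_iff_eq hp hp').mp (hp.dvd_of_dvd_pow (hm ▸ h.dvd_b hy hp ha))
  subst this
  have e' : 𝐂[y] = P := P.is_maximal' (IsPGroup.of_card hm) hP
  exact fun x hx x1 => h.max_b hy x1 fun w hw =>
    CA.mem_cent.mpr (e (le_normalizer (e' ▸ hw)) x (e' ▸ hx))

theorem caseN2 {y : G} (y1 : y ≠ 1) (hy : cs y = b) {p m : ℕ} (hp : p.Prime)
    (hm : 𝐨(𝐂[y]) = p ^ m) : Group.IsSolvable G := by
  by_contra hs
  obtain ⟨L, hL, h1, h2⟩ := exists_res (G := G)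
  have hc : ∀ r, r.Prime → r ∣ 𝐨(L) → r ∣ c := fun r hr hd => by
    by_contra hn
    exact h2 r hr (h.npc hs y1 hy (Or.inr ⟨p, m, hp, hm⟩) hr hn) hd
  have hap : ∀ {r}, r.Prime → r ∣ a → r = p := fun hr ha =>
    (Nat.prime_dvd_prime_iff_eq hr hp).mp (hr.dvd_of_dvd_pow (hm ▸ h.dvd_b hy hr ha))
  have ha := Nat.eq_prime_pow_of_unique_prime_dvd h.a0 hap
  refine hs (h1 ?_)
  by_cases h3 : Two a c
  · refine sol_of_primary (R := (solvableRadical G).subgroupOf L)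
      (Group.isSolvable_of_isSolvable_injective
        (f := (L.subtype.comp ((solvableRadical G).subgroupOf L).subtype).codRestrict
          (solvableRadical G) fun x => x.2)
        fun x y e => Subtype.ext (Subtype.ext (congrArg Subtype.val e :))) hp
      fun r i w hr hrp w1 ho => ?_
    have w1' : (w : G) ≠ 1 := fun e => w1 (Subtype.ext e)
    have ho' : orderOf (w : G) = r ^ i := (orderOf_coe w).trans ho
    rcases h.cam' h3 ⟨hr, fun e => hrp (hap hr e), hc r hr (dvd_card_of_primary w1 ho)⟩ w1' ho'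
      with e | e
    · exact H6.mem_solvableRadical_of_index_centralizer hp (e.trans ha)
    · have := dvd_card_of_mem (H8.mem_cent_self (w : G)) w1' ho'
      rw [h.card_eq hy e, hm] at this
      exact absurd ((Nat.prime_dvd_prime_iff_eq hr hp).mp (hr.dvd_of_dvd_pow this)) hrp
  · by_cases h4 : ∃ q, Sg a c q
    · obtain ⟨q, hq⟩ := h4
      exact H6.isSolvable_of_primes_two p q fun r hr hd => (em (r ∣ a)).imp (hap hr)
        fun e => eq_of_not_two h3 hq ⟨hr, e, hc r hr hd⟩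
    · exact H6.isSolvable_of_primes_two p p fun r hr hd => (em (r ∣ a)).imp (hap hr)
        fun e => (h4 ⟨r, hr, e, hc r hr hd⟩).elim

theorem caseN1 {y : G} (y1 : y ≠ 1) (hy : cs y = b) (hB : ∀ x ∈ 𝐂[y], x ≠ 1 → 𝐂[x] = 𝐂[y]) :
    Concl G := by
  by_cases he : 2 ∣ 𝐨(𝐂[y])
  · exact ct hB (even_iff_two_dvd.mpr he)
  by_cases hs : Group.IsSolvable G
  · exact Or.inl hs
  have s2 : Sg a c 2 := ⟨Nat.prime_two, fun e => he (h.dvd_b hy Nat.prime_two e), by
    by_contra hn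
    exact hs (solv_npc2 (h.npc hs y1 hy (Or.inl hB) Nat.prime_two hn))⟩
  by_cases h3 : Two a c
  · obtain ⟨q, hq, hq2⟩ := h3.other 2
    refine h.ab2 s2 hq hq2 ?_
    rintro x ⟨k, ho⟩
    by_cases x1 : x = 1
    · rw [x1, cs_eq_one.mpr (one_mem _)]; decide
    rcases h.cam' h3 s2 x1 ho with e | e
    · rw [e]; exact s2.na
    · exact absurd (h.card_eq hy e ▸ dvd_card_of_mem (H8.mem_cent_self x) x1 ho) he
  obtain ⟨L, hL, h1, h2⟩ := exists_res (G := G)
  have hc : ∀ r, r.Prime → r ∣ 𝐨(L) → r ∣ c := fun r hr hd => by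
    by_contra hn
    exact h2 r hr (h.npc hs y1 hy (Or.inl hB) hr hn) hd
  refine Or.inl (h1 (sol_of_primary (R := solvableRadical L) inferInstance Nat.prime_two
    fun r i w hr hr2 w1 ho => ?_))
  have := Fact.mk hr
  have w1' : (w : G) ≠ 1 := fun e => w1 (Subtype.ext e)
  have ho' : orderOf (w : G) = r ^ i := (orderOf_coe w).trans ho
  have ha : r ∣ a := by
    by_contra e
    exact hr2 (eq_of_not_two h3 s2 ⟨hr, e, hc r hr (dvd_card_of_primary w1 ho)⟩)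
  obtain ⟨g, hg⟩ := exists_conj_mem_of_not_dvd_index ho' (hy ▸ h.nb hr ha : ¬ r ∣ cs y)
  have hw : cs (w : G) = b := by
    rw [← cs_conj g, cs, hB _ hg (conj_ne_one w1' g)]; exact hy
  refine H6.mem_solvableRadical_of_index_centralizer Nat.prime_two
    (Nat.eq_prime_pow_of_unique_prime_dvd (cs_ne_zero w) fun {s} hs hd => ?_)
  have hsb : s ∣ b := hw ▸ hd.trans (H9.index_centralizer_subgroup_dvd L w)
  exact eq_of_not_two h3 s2 ⟨hs, fun e => h.nb hs e hsb, hc s hs (hd.trans (index_dvd_card _))⟩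

theorem concl : Concl G := by
  by_cases hb : b ∣ c
  · exact h.caseV hb
  obtain ⟨x, x1, hx⟩ := h.exb
  obtain ⟨p, k, y, hp, y1, ho, hle⟩ := exists_primary x1
  have hy : cs y = b := by rw [cs, h.max_b hx y1 hle]; exact hx
  rcases exists_prime_or_pow (p := p) (Nat.card_pos (α := 𝐂[y])).ne' with ⟨r, hr, h2, hd⟩ | ⟨m, hm⟩
  · exact h.caseN1 y1 hy ((h.rigid_b hb hy).all y1 hp hr h2 ho hd)
  · exact Or.inl (h.caseN2 y1 hy hp hm)

end Cfg

theorem main (hZ : center G = ⊥) (h : Nat.card {n : ℕ | 1 < n ∧ ∃ x : G, cs x = n} ≤ 3) :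
    Concl G := by
  by_cases hA : ∀ x y : G, x ≠ 1 → y ≠ 1 → cs x ∣ cs y → cs x = cs y
  · exact antichain hA
  push Not at hA
  obtain ⟨x, y, x1, y1, hd, hne⟩ := hA
  have h1 : ∀ w : G, w ≠ 1 → 1 < cs w := fun w w1 => by
    have := cs_ne_zero w
    have : cs w ≠ 1 := fun e => w1 (mem_bot.mp (hZ ▸ cs_eq_one.mp e))
    omega
  have hc : ∀ p, p.Prime → p ∣ cs x → ∃ z : G, z ≠ 1 ∧ ¬ p ∣ cs z := fun p hp e => by
    have := Fact.mk hp
    obtain ⟨P⟩ : Nonempty (Sylow p G) := inferInstance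
    obtain ⟨z, -, -, z1, -, hz⟩ := exists_central P (e.trans (index_dvd_card _))
    exact ⟨z, z1, H9.not_dvd_index_iff_exists_sylow_le.mpr ⟨P, hz⟩⟩
  obtain ⟨p, hp, hpx⟩ := Nat.exists_prime_and_dvd (h1 x x1).ne'
  obtain ⟨z, z1, hz⟩ := hc p hp hpx
  have hfin : {n : ℕ | 1 < n ∧ ∃ x : G, cs x = n}.Finite :=
    (Set.finite_range (cs (G := G))).subset fun n hn => hn.2
  have he : ({cs x, cs z, cs y} : Set ℕ) = {n : ℕ | 1 < n ∧ ∃ x : G, cs x = n} := by
    refine Set.eq_of_subset_of_ncard_le ?_ ?_ hfin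
    · rintro _ (rfl | rfl | rfl)
      exacts [⟨h1 x x1, x, rfl⟩, ⟨h1 z z1, z, rfl⟩, ⟨h1 y y1, y, rfl⟩]
    · rw [Set.ncard_eq_three.mpr ⟨cs x, cs z, cs y, fun e => hz (e ▸ hpx), hne,
        fun e => hz (e ▸ hpx.trans hd), rfl⟩]
      exact h
  have ht : ∀ w : G, w ≠ 1 → cs w = cs x ∨ cs w = cs z ∨ cs w = cs y := fun w w1 =>
    (he.ge ⟨h1 w w1, w, rfl⟩ :)
  refine Cfg.concl (a := cs x) (b := cs z) (c := cs y)
    ⟨hZ, ht, hd, hne, Nat.coprime_of_dvd fun q hq hx hz' => ?_, ⟨x, x1, rfl⟩, ⟨z, z1, rfl⟩, y, y1, rfl⟩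
  obtain ⟨w, w1, hw⟩ := hc q hq hx
  rcases ht w w1 with e | e | e <;> rw [e] at hw
  exacts [hw hx, hw hz', hw (hx.trans hd)]

end Cfsg.Agent.H7.Rk3
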