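/-
Groups whose `p`-regular elements have two class sizes.
-/
import Cfsg.Agent.H7.Rk3C
import Cfsg.Agent.H2.Puig

set_option autoImplicit false
set_option linter.unusedSectionVars false

namespace Cfsg.Agent.H7.Rk2

open Subgroup Cfsg Cfsg.Agent Cfsg.Agent.FT Cfsg.Agent.H7.Rk3

universe u

variable {G : Type u} [Group G] [Finite G]

/-- There is a noncentral `q`-element in `X`. -/
def NC (q : ℕ) (X : Subgroup G) : Prop := ∃ w ∈ X, w ∉ center G ∧ ∃ j : ℕ, orderOf w = q ^ j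

theorem NC.top {q : ℕ} {X : Subgroup G} (h : NC q X) : NC q (⊤ : Subgroup G) := by
  obtain ⟨w, -, h⟩ := h
  exact ⟨w, mem_top w, h⟩

theorem nc_of_dvd {q k n : ℕ} (hq : q.Prime) (hn : ¬ q ∣ n) {x y : G} (hd : cs y ∣ cs x * n)
    (hx : orderOf x = q ^ k) (hxZ : x ∉ center G) : NC q 𝐂[y] := by
  have := Fact.mk hq
  obtain ⟨Q, h1, h2, h3⟩ := H1.exists_sylow_le q 𝐂[y]
  by_contra hcon
  have h4 : Q ≤ center G := fun w hw => by
    by_contra h
    exact hcon ⟨w, h1 hw, h, H7.exists_orderOf_eq_pow_of_mem h2 hw⟩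
  have h5 : Q.relIndex 𝐂[x] ∣ Q.relIndex 𝐂[y] * n := by
    obtain ⟨e, he⟩ := hd
    refine ⟨e, Nat.eq_of_mul_eq_mul_left (Nat.mul_pos (Nat.card_pos (α := Q))
      (Nat.pos_of_ne_zero (cs_ne_zero x))) ?_⟩
    have e1 := H1.card_mul_relIndex h1
    have e2 := H1.card_mul_relIndex (h4.trans (H8.center_le_cent x))
    have e3 := (𝐂[x]).card_mul_index
    have e4 := (𝐂[y]).card_mul_index
    calc 𝐨(Q) * cs x * (Q.relIndex 𝐂[y] * n) = 𝐨(Q) * Q.relIndex 𝐂[y] * (cs x * n) := by ring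
      _ = 𝐨(𝐂[y]) * cs y * e := by rw [e1, he]; ring
      _ = 𝐨(Q) * Q.relIndex 𝐂[x] * cs x * e := by rw [e2, e3, e4]
      _ = _ := by ring
  have := H3.normal_of_le_center h4
  exact (hq.dvd_mul.mp ((H8.dvd_relIndex_of_not_mem hq hx (le_normalizer_of_normal (mem_top x))
    (fun h => hxZ (h4 h)) (h4.trans (H8.center_le_cent x)) (H8.mem_cent_self x)).trans h5)).elim
    h3 hn

theorem nc_of_dvd_cs {q : ℕ} (hq : q.Prime) {y : G} (h : q ∣ cs y) : NC q (⊤ : Subgroup G) := by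
  have := Fact.mk hq
  obtain ⟨R⟩ : Nonempty (Sylow q G) := inferInstance
  by_contra hn
  refine H9.not_dvd_index_iff_exists_sylow_le.mpr ⟨R, fun v hv => H8.center_le_cent y ?_⟩ h
  by_contra vc
  exact hn ⟨v, mem_top v, vc, H7.exists_orderOf_eq_pow_of_mem R.isPGroup' hv⟩

theorem exists_norm {t i : ℕ} (ht : t.Prime) {D : Subgroup G} {w : G} (hw : w ∈ D)
    (wc : w ∉ center G) (ho : orderOf w = t ^ i)
    (hD : ∀ (j : ℕ) (v : G), v ∈ D → v ∉ center G → orderOf v = t ^ j → 𝐂[v] = D)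
    (hd : t ∣ D.index) : ∃ (u : G) (k : ℕ), orderOf u = t ^ k ∧ u ∈ 𝐍(D) ∧ u ∉ D := by
  have := Fact.mk ht
  obtain ⟨S, h1, h2, h3, h4⟩ := H1.exists_sylow_of_le (p := t) (zpowers_le.mpr hw)
    (H8.isPGroup_zpowers_of_orderOf ho)
  obtain ⟨u, m, huo, huN, huD⟩ := H6.exists_primePow_mem_normalizer h2 h3 h4 hd
  refine ⟨u, m, huo, ?_, huD⟩
  have e := hD i w hw wc ho
  rw [← e]
  exact H6.mem_normalizer_of_centralizer_conj ((hD i _ (h2 ((mem_normalizer_iff.mp huN w).mp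
    (h1 (mem_zpowers w)))) (H6.conj_not_mem_center wc u) (by rw [H8.orderOf_conj', ho])).trans e.symm)

/-- Camina's lemma, two-prime form. -/
theorem cam2 {t s : ℕ} (ht : t.Prime) (hs : s.Prime) (hts : t ≠ s) {D : Subgroup G}
    (hD : ∀ (r j : ℕ) (v : G), r = t ∨ r = s → v ∈ D → v ∉ center G → orderOf v = r ^ j → 𝐂[v] = D)
    (h1 : NC t D) (h2 : NC s D) (d1 : t ∣ D.index) (d2 : s ∣ D.index) : False := by
  have := Fact.mk ht
  have := Fact.mk hs
  obtain ⟨w, hw, wc, i, ho⟩ := h1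
  obtain ⟨g, hg, gc, j, ho'⟩ := h2
  obtain ⟨u, m, huo, huN, huD⟩ := exists_norm ht hw wc ho (fun j v => hD t j v (Or.inl rfl)) d1
  obtain ⟨v, m', hvo, hvN, hvD⟩ := exists_norm hs hg gc ho' (fun j v => hD s j v (Or.inr rfl)) d2
  let A : Subgroup G :=
    { carrier := {a | a ∈ D ⊓ 𝐂(D) ∧ ∀ r, r.Prime → r ∣ orderOf a → r = t ∨ r = s}
      one_mem' := ⟨one_mem _, fun r hr h => absurd (orderOf_one (G := G) ▸ h) hr.not_dvd_one⟩
      mul_mem' := fun {a b} ha hb => ⟨mul_mem ha.1 hb.1, fun r hr h =>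
        (hr.dvd_mul.mp (h.trans (Commute.orderOf_mul_dvd_mul_orderOf (hb.1.2 a ha.1.1)))).elim
          (ha.2 r hr) (hb.2 r hr)⟩
      inv_mem' := fun {a} ha => ⟨inv_mem ha.1, fun r hr h => ha.2 r hr (orderOf_inv a ▸ h)⟩ }
  have hA : ∀ (r j : ℕ) (a : G), r.Prime → r = t ∨ r = s → a ∈ D → a ∉ center G →
      orderOf a = r ^ j → a ∈ A := fun r j a hr h ha ac hao =>
    ⟨⟨ha, fun b hb => (CA.mem_cent.mp ((hD r j a h ha ac hao).ge hb)).symm.eq⟩, fun r' hr' hd => by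
      rwa [(Nat.prime_dvd_prime_iff_eq hr' hr).mp (hr'.dvd_of_dvd_pow (hao ▸ hd))]⟩
  refine H6.camina_false' hts (A := A) (D := D) (fun a ha => ha.1.1) (fun n hn => ?_)
    (fun a ha ac => ?_) ho ho' (hA t i w ht (Or.inl rfl) hw wc ho)
    (hA s j g hs (Or.inr rfl) hg gc ho') wc gc huo hvo huN hvN huD hvD
  · refine mem_normalizer_fintype fun a ha => ⟨(mem_normalizer_iff.mp (H1.le_normalizer_inf le_rfl
      (H1.le_normalizer_centralizer le_rfl) hn) a).mp ha.1, ?_⟩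
    rw [H8.orderOf_conj']
    exact ha.2
  · obtain ⟨p, n, a', hp, ha', hao, ac'⟩ := H8.exists_primePow_not_mem ac
    have hp' : p = t ∨ p = s := ha.2 p hp ((dvd_pow_self p (n := n) fun e => ac' (by
      rw [e, pow_zero, orderOf_eq_one_iff] at hao
      exact hao ▸ one_mem _)).trans (hao ▸ orderOf_dvd_of_mem_zpowers ha'))
    exact le_antisymm ((H9.centralizer_le_of_mem_zpowers ha').trans
      (hD p n a' hp' (zpowers_le.mpr ha.1.1 ha') ac' hao).le)
      fun b hb => CA.mem_cent.mpr (show Commute b a from ha.1.2 b hb).symm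

theorem mem_norm_of_comm_central {z g : G} (h : g * z * g⁻¹ * z⁻¹ ∈ center G) : g ∈ 𝐍(𝐂[z]) := by
  refine H6.mem_normalizer_of_centralizer_conj (Subgroup.ext fun y => ?_)
  have e : g * z * g⁻¹ = (g * z * g⁻¹ * z⁻¹) * z := by group
  have hc : Commute (g * z * g⁻¹ * z⁻¹) y := (mem_center_iff.mp h y).symm
  rw [CA.mem_cent, CA.mem_cent, e]
  generalize g * z * g⁻¹ * z⁻¹ = c at hc
  exact ⟨fun h' => by simpa using hc.inv_left.mul_left h', fun h' => hc.mul_left h'⟩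

instance solv_center : Group.IsSolvable (center G) :=
  Group.isSolvable_of_comm fun a b => Subtype.ext (mem_center_iff.mp b.2 a)

/-- Two class sizes of `p`-regular elements. -/
def Reg (p k : ℕ) (G : Type u) [Group G] : Prop :=
  ∀ x : G, (orderOf x).Coprime p → x ∉ center G → cs x = k

namespace Reg

variable {p k : ℕ} (h : Reg p k G)
include h

theorem eq_of_cop {x w : G} (hx : (orderOf x).Coprime p) (hw : (orderOf w).Coprime p)
    (xc : x ∉ center G) (wc : w ∉ center G) (hm : w ∈ 𝐂[x])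
    (ho : (orderOf x).Coprime (orderOf w)) : 𝐂[w] = 𝐂[x] := by
  have hc := CA.mem_cent.mp hm
  have e := H9.centralizer_mul_of_coprime hc ho
  have h1 := h (x * w) (Nat.Coprime.coprime_dvd_left hc.orderOf_mul_dvd_mul_orderOf
    (Nat.Coprime.mul_left hx hw)) (H8.MNHyp.not_mem_mul xc hc ho)
  exact (H8.eq_of_le_of_index_eq (e ▸ inf_le_right) (h1.trans (h w hw wc).symm)).symm.trans
    (H8.eq_of_le_of_index_eq (e ▸ inf_le_left) (h1.trans (h x hx xc).symm))

theorem nc {s : ℕ} (hp : p.Prime) (hs : s.Prime) (hsp : s ≠ p) (h1 : NC s (⊤ : Subgroup G)) {x : G}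
    (hx : (orderOf x).Coprime p) (xc : x ∉ center G) : NC s 𝐂[x] := by
  obtain ⟨y, -, yc, j, ho⟩ := h1
  exact nc_of_dvd (n := 1) hs hs.not_dvd_one
    (by rw [h x hx xc, h y (cop' hs hp hsp ho) yc, mul_one]) ho yc

variable {r s : ℕ} (hp : p.Prime) (hr : r.Prime) (hs : s.Prime) (hrs : r ≠ s) (hrp : r ≠ p)
  (hsp : s ≠ p) (nr : NC r (⊤ : Subgroup G)) (ns : NC s (⊤ : Subgroup G))
include hp hr hs hrs hrp hsp nr ns

theorem cent_eq {x w : G} (hx : (orderOf x).Coprime p) (xc : x ∉ center G) {t i : ℕ} (ht : t.Prime)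
    (htp : t ≠ p) (hw : w ∈ 𝐂[x]) (wc : w ∉ center G) (ho : orderOf w = t ^ i) : 𝐂[w] = 𝐂[x] := by
  obtain ⟨q, n, y, hq, hy, hyo, yc⟩ := H8.exists_primePow_not_mem xc
  have hy' := Nat.Coprime.coprime_dvd_left (orderOf_dvd_of_mem_zpowers hy) hx
  have e : 𝐂[x] = 𝐂[y] := H8.eq_of_le_of_index_eq (H9.centralizer_le_of_mem_zpowers hy)
    ((h x hx xc).trans (h y hy' yc).symm)
  rw [e] at hw ⊢
  have hw' := cop' ht hp htp ho
  by_cases hqt : q = t
  · subst hqt
    obtain ⟨l, hl, hlp, hlq, nl⟩ : ∃ l, l.Prime ∧ l ≠ p ∧ q ≠ l ∧ NC l (⊤ : Subgroup G) := by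
      by_cases e : q = r
      · exact ⟨s, hs, hsp, e ▸ hrs, ns⟩
      · exact ⟨r, hr, hrp, e, nr⟩
    obtain ⟨g, hg, gc, j, hgo⟩ := h.nc hp hl hlp nl hy' yc
    have hg' := cop' hl hp hlp hgo
    have e' := h.eq_of_cop hy' hg' yc gc hg (cop hq hl hlq hyo hgo)
    exact (h.eq_of_cop hg' hw' gc wc (e' ▸ hw) (cop hl hq hlq.symm hgo ho)).trans e'
  · exact h.eq_of_cop hy' hw' yc wc hw (cop hq ht hqt hyo ho)

theorem not_dvd (hk : r ∣ k) : ¬ s ∣ k := fun hk' => by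
  obtain ⟨y, -, yc, j, ho⟩ := id ns
  have hy := cop' hs hp hsp ho
  have e := h y hy yc
  exact cam2 hr hs hrs (D := 𝐂[y]) (fun t j v ht hv vc hvo => h.cent_eq hp hr hs hrs hrp hsp nr ns hy yc
    (ht.elim (· ▸ hr) (· ▸ hs)) (ht.elim (· ▸ hrp) (· ▸ hsp)) hv vc hvo) (h.nc hp hr hrp nr hy yc)
    (h.nc hp hs hsp ns hy yc) (e ▸ hk : r ∣ cs y) (e ▸ hk' : s ∣ cs y)

theorem conj (hk : ¬ s ∣ k) {x y : G} (hx : (orderOf x).Coprime p) (xc : x ∉ center G)
    (hy : (orderOf y).Coprime p) (yc : y ∉ center G) : ∃ g : G, 𝐂[g * y * g⁻¹] = 𝐂[x] := by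
  have := Fact.mk hs
  obtain ⟨w, hw, wc, j, ho⟩ := h.nc hp hs hsp ns hy yc
  obtain ⟨g, hg⟩ := exists_conj_mem_of_not_dvd_index ho (h x hx xc ▸ hk : ¬ s ∣ cs x)
  have wc' := H6.conj_not_mem_center wc g
  have ho' := (H8.orderOf_conj' g w).trans ho
  exact ⟨g, (h.cent_eq hp hr hs hrs hrp hsp nr ns (by rwa [H8.orderOf_conj'])
    (H6.conj_not_mem_center yc g) hs hsp (conj_mem_cent hw g) wc' ho').symm.trans
    (h.cent_eq hp hr hs hrs hrp hsp nr ns hx xc hs hsp hg wc' ho')⟩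

theorem false_of_pCore (hk : r ∣ k) (hO : pCore p G = ⊥) : False := by
  have := Fact.mk hr
  have hsk := h.not_dvd hp hr hs hrs hrp hsp nr ns hk
  have hpr : ∀ l, l.Prime → l ∣ k → l ≠ r → l = p := fun l hl hd hlr => by
    by_contra hlp
    obtain ⟨y, -, yc, j, ho⟩ := id ns
    exact h.not_dvd hp hr hl hlr.symm hrp hlp nr
      (nc_of_dvd_cs hl (h y (cop' hs hp hsp ho) yc ▸ hd : l ∣ cs y)) hk hd
  obtain ⟨Q⟩ : Nonempty (Sylow r G) := inferInstance
  have hQ : ∀ x : G, (orderOf x).Coprime p → x ∉ center G → ¬ (Q : Subgroup G) ≤ 𝐂[x] :=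
    fun x hx xc e => H9.not_dvd_index_iff_exists_sylow_le.mpr ⟨Q, e⟩ (h x hx xc ▸ hk : r ∣ cs x)
  obtain ⟨y0, -, yc0, j0, ho0⟩ := id ns
  obtain ⟨z, hz, zc, -, hzQ⟩ := H8.exists_second_center Q.isPGroup' le_rfl le_normalizer
    fun e => hQ y0 (cop' hs hp hsp ho0) yc0 (e.trans (H8.center_le_cent _))
  obtain ⟨i, hzo⟩ := H7.exists_orderOf_eq_pow_of_mem Q.isPGroup' hz
  have hz' := cop' hr hp hrp hzo
  have hE : ∀ {t i : ℕ} {w : G}, t.Prime → t ≠ p → w ∈ 𝐂[z] → w ∉ center G → orderOf w = t ^ i →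
      𝐂[w] = 𝐂[z] := fun ht htp => h.cent_eq hp hr hs hrs hrp hsp nr ns hz' zc ht htp
  have hR : z ∈ solvableRadical G := by
    rw [← L.comap_solvableRadical_quotient (N := center G)]
    have h1 : cs (z : G ⧸ center G) ∣ (𝐂[z] ⊔ Q).index := by
      rw [← index_map_eq _ (QuotientGroup.mk'_surjective (center G))
        (by rw [QuotientGroup.ker_mk']; exact (H8.center_le_cent z).trans le_sup_left)]
      refine index_dvd_of_le ?_
      rw [Subgroup.map_sup]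
      refine sup_le (H9.map_centralizer_singleton_le _ z) ?_
      rintro _ ⟨g, hg, rfl⟩
      refine H8.mem_cent_comm.mp (CA.mem_cent.mpr ?_)
      have := (QuotientGroup.eq_one_iff _).mpr (hzQ g hg)
      rw [QuotientGroup.mk_mul, QuotientGroup.mk_mul, QuotientGroup.mk_mul, QuotientGroup.mk_inv,
        QuotientGroup.mk_inv, mul_inv_eq_one, mul_inv_eq_iff_eq_mul] at this
      exact this
    refine H6.mem_solvableRadical_of_index_centralizer hp
      (Nat.eq_prime_pow_of_unique_prime_dvd (cs_ne_zero _) fun {l} hl hd => ?_)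
    refine hpr l hl (h z hz' zc ▸ (hd.trans h1).trans (index_dvd_of_le le_sup_left)) ?_
    rintro rfl
    exact H9.not_dvd_index_iff_exists_sylow_le.mpr ⟨Q, le_sup_right⟩ (hd.trans h1)
  obtain ⟨v, hv, vc⟩ : ∃ v ∈ fittingSubgroup G, v ∉ center G := by
    by_contra hn
    push Not at hn
    exact zc (hn z (L.le_fittingSubgroup_of_le_centralizer (solvableRadical G)
      (fun a _ b hb => (mem_center_iff.mp (hn b hb) a).symm) hR))
  obtain ⟨l, n, w, hl, hw, hwo, wc⟩ := H8.exists_primePow_not_mem vc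
  have := Fact.mk hl
  have hwV : w ∈ pCore l G := L.mem_pCore_of_mem_fittingSubgroup hl
    (hwo ▸ pow_orderOf_eq_one w) (zpowers_le.mpr hv hw)
  have hlp : l ≠ p := by
    rintro rfl
    rw [hO, mem_bot] at hwV
    exact wc (hwV ▸ one_mem _)
  have hV : pCore l G ≤ 𝐂[z] := by
    by_cases hlr : l = r
    · subst hlr
      obtain ⟨y, hy, yc, j, ho⟩ := h.nc hp hs hsp ns hz' zc
      have e := hE hs hsp hy yc ho
      intro a ha
      have h1 : a * y * a⁻¹ ∈ 𝐂[y] := e ▸ (mem_normalizer_iff.mp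
        (mem_norm_of_comm_central (hzQ a (L.pCore_le_sylow Q ha))) y).mp hy
      have h2 : a * y * a⁻¹ * y⁻¹ ∈ pCore l G := by
        have := mul_mem ha ((inferInstance : (pCore l G).Normal).conj_mem _ (inv_mem ha) y)
        simpa [mul_assoc] using this
      obtain ⟨m, hm⟩ := H7.exists_orderOf_eq_pow_of_mem (L.isPGroup_pCore l) h2
      have h3 : a * y * a⁻¹ * y⁻¹ = 1 := H8.eq_one_of_orderOf_pow_of_coprime hm
        (Nat.Coprime.coprime_dvd_left
          ((CA.mem_cent.mp h1).symm.inv_right.orderOf_mul_dvd_mul_orderOf) (by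
            rw [H8.orderOf_conj', orderOf_inv]
            exact Nat.Coprime.mul_left (cop' hs hl hrs.symm ho) (cop' hs hl hrs.symm ho)))
      rw [mul_inv_eq_one, mul_inv_eq_iff_eq_mul] at h3
      exact e ▸ H8.mem_cent_comm.mp (CA.mem_cent.mpr h3)
    · obtain ⟨T, hT⟩ := H9.not_dvd_index_iff_exists_sylow_le.mp
        (h z hz' zc ▸ fun e => hlp (hpr l hl e hlr) : ¬ l ∣ cs z)
      exact (L.pCore_le_sylow T).trans hT
  have hN : ∀ g : G, g ∈ 𝐍(𝐂[z]) := fun g => by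
    have e := hE hl hlp (hV hwV) wc hwo
    rw [← e]
    exact H6.mem_normalizer_of_centralizer_conj ((hE hl hlp
      (hV ((inferInstance : (pCore l G).Normal).conj_mem _ hwV g)) (H6.conj_not_mem_center wc g)
      ((H8.orderOf_conj' g w).trans hwo)).trans e.symm)
  refine hQ z hz' zc fun a ha => ?_
  by_cases ac : a ∈ center G
  · exact H8.center_le_cent z ac
  obtain ⟨m, hm⟩ := H7.exists_orderOf_eq_pow_of_mem Q.isPGroup' ha
  obtain ⟨g, hg⟩ := h.conj hp hr hs hrs hrp hsp nr ns hsk hz' zc (cop' hr hp hrp hm) ac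
  exact (mem_normalizer_iff.mp (hN g) a).mpr (hg ▸ H8.mem_cent_self _)

end Reg

theorem cent_mk {N : Subgroup G} [N.Normal] {x : G} (hc : (orderOf x).Coprime 𝐨(N)) :
    cs (x : G ⧸ N) = (𝐂[x] ⊔ N).index := by
  have h1 := H1.centralizer_map_mk' N (A := zpowers x) (by rwa [Nat.card_zpowers])
    (Or.inl inferInstance)
  rw [MonoidHom.map_zpowers, zpowers_eq_closure, zpowers_eq_closure, centralizer_closure,
    centralizer_closure] at h1
  rw [cs, show 𝐂[(x : G ⧸ N)] = _ from h1, index_map, QuotientGroup.ker_mk',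
    MonoidHom.range_eq_top.mpr (QuotientGroup.mk'_surjective N), index_top, mul_one]

/-- If the `p`-regular class sizes are `1` and `k`, and a prime `r ≠ p` divides `k`, then there are
no noncentral `s`-elements for primes `s ≠ p, r`. -/
theorem Reg.false {p r s : ℕ} (hp : p.Prime) (hr : r.Prime) (hs : s.Prime) (hrs : r ≠ s)
    (hrp : r ≠ p) (hsp : s ≠ p) (G : Type u) [Group G] [Finite G] :
    ∀ k, Reg p k G → r ∣ k → ¬ NC s (⊤ : Subgroup G) := by
  refine L.induction_on_card (P := fun G _ _ => ∀ k, Reg p k G → r ∣ k → ¬ NC s (⊤ : Subgroup G))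
    G fun G _ _ ih k h hk ns => ?_
  have := Fact.mk hp
  obtain ⟨y, -, yc, j, ho⟩ := id ns
  have hy := cop' hs hp hsp ho
  have nr : NC r (⊤ : Subgroup G) := nc_of_dvd_cs hr (h y hy yc ▸ hk : r ∣ cs y)
  by_cases hO : pCore p G = ⊥
  · exact h.false_of_pCore hp hr hs hrs hrp hsp nr ns hk hO
  obtain ⟨m, hm⟩ := (L.isPGroup_pCore (G := G) p).exists_card_eq
  have hc : ∀ x : G, (orderOf x).Coprime p → cs (x : G ⧸ pCore p G) = (𝐂[x] ⊔ pCore p G).index :=
    fun x hx => cent_mk (hm ▸ hx.pow_right m)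
  have hrk : r ∣ cs (y : G ⧸ pCore p G) := by
    have h1 : r ∣ (𝐂[y]).relIndex (𝐂[y] ⊔ pCore p G) * (𝐂[y] ⊔ pCore p G).index := by
      rw [relIndex_mul_index le_sup_left]; exact (h y hy yc ▸ hk : r ∣ cs y)
    rw [hc y hy]
    refine (hr.dvd_mul.mp h1).resolve_left fun hd => hrp ?_
    rw [H2.relIndex_sup_left_of_le_normalizer le_normalizer_of_normal] at hd
    exact (Nat.prime_dvd_prime_iff_eq hr hp).mp (hr.dvd_of_dvd_pow (hm ▸ hd.trans
      (relIndex_dvd_card _ _)))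
  refine ih (G ⧸ pCore p G) (L.card_quotient_lt _ hO) _ (fun x hx xc => ?_) hrk
    ⟨y, mem_top _, fun e => hr.not_dvd_one (cs_eq_one.mpr e ▸ hrk), ?_⟩
  · obtain ⟨x, hx', rfl⟩ := H9.exists_coprime_map_eq (QuotientGroup.mk'_surjective _) hp hx
    have xc' : x ∉ center G := fun e => xc (mem_center_iff.mpr fun g => by
      obtain ⟨g, rfl⟩ := QuotientGroup.mk'_surjective _ g
      rw [← map_mul, ← map_mul, mem_center_iff.mp e g])
    obtain ⟨g, hg⟩ := h.conj hp hr hs hrs hrp hsp nr ns (h.not_dvd hp hr hs hrs hrp hsp nr ns hk)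
      hy yc hx' xc'
    rw [hc y hy, ← hg, ← hc _ (by rwa [H8.orderOf_conj'])]
    exact (cs_conj (g : G ⧸ pCore p G) x).symm
  · exact (Nat.dvd_prime_pow hs).mp (ho ▸ orderOf_map_dvd (QuotientGroup.mk' _) y) |>.imp
      fun _ h => h.2

end Cfsg.Agent.H7.Rk2
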