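/-
Consequences of the two-size lemma for `p`-regular classes.
-/
import Cfsg.Agent.H7.Rk2A

set_option autoImplicit false
set_option linter.unusedSectionVars false

namespace Cfsg.Agent.H7.Rk2

open Subgroup Cfsg Cfsg.Agent Cfsg.Agent.FT Cfsg.Agent.H7.Rk3

universe u

variable {G : Type u} [Group G] [Finite G]

theorem Reg.dich {p k : ℕ} (hp : p.Prime) (h : Reg p k G) :
    (∃ q, q.Prime ∧ q ≠ p ∧ ∀ s, s.Prime → s ≠ p → s ≠ q → ¬ NC s (⊤ : Subgroup G)) ∨
      ∃ j, k = p ^ j := by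
  by_cases hk : ∃ r, r.Prime ∧ r ≠ p ∧ r ∣ k
  · obtain ⟨r, hr, hrp, hk⟩ := hk
    exact Or.inl ⟨r, hr, hrp, fun s hs hsp hsr => Reg.false hp hr hs hsr.symm hrp hsp G k h hk⟩
  push Not at hk
  refine Or.inr ⟨_, Nat.eq_prime_pow_of_unique_prime_dvd ?_ fun {d} hd e => ?_⟩
  · rintro rfl
    obtain ⟨r, h1, hr⟩ := Nat.exists_infinite_primes (p + 1)
    exact hk r hr (by omega) (dvd_zero r)
  · by_contra hn
    exact hk d hd hn e

theorem solv_of_nc {p q : ℕ} (h : ∀ s, s.Prime → s ≠ p → s ≠ q → ¬ NC s (⊤ : Subgroup G)) :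
    Group.IsSolvable G := by
  refine L.isSolvable_of_normal_of_quotient (center G) inferInstance
    (H6.isSolvable_of_primes_two p q fun s hs hd => ?_)
  have := Fact.mk hs
  obtain ⟨y, hy⟩ := exists_prime_orderOf_dvd_card' s hd
  obtain ⟨x, hx, rfl⟩ := H9.exists_pElement_map_eq (QuotientGroup.mk'_surjective (center G)) hs
    (hy.trans (pow_one s).symm)
  by_contra hn
  push Not at hn
  refine h s hs hn.1 hn.2 ⟨x, mem_top x, fun e => ?_, hx⟩
  rw [QuotientGroup.mk'_apply, (QuotientGroup.eq_one_iff x).mpr e, orderOf_one] at hy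
  exact hs.one_lt.ne hy

theorem Reg.solvable {p k : ℕ} (hp : p.Prime) (h : Reg p k G) : Group.IsSolvable G := by
  rcases h.dich hp with ⟨q, -, -, h⟩ | ⟨j, rfl⟩
  · exact solv_of_nc h
  refine sol_of_primary (R := solvableRadical G) inferInstance hp fun t i w ht htp _ ho => ?_
  by_cases wc : w ∈ center G
  · exact L.le_solvableRadical inferInstance inferInstance wc
  · exact H6.mem_solvableRadical_of_index_centralizer hp (h w (cop' ht hp htp ho) wc)

theorem sylow_le_center {s : ℕ} [Fact s.Prime] (h : ¬ NC s (⊤ : Subgroup G)) (S : Sylow s G) :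
    (S : Subgroup G) ≤ center G := fun w hw => by
  by_contra wc
  exact h ⟨w, mem_top w, wc, H7.exists_orderOf_eq_pow_of_mem S.isPGroup' hw⟩

theorem split_of_nc {p q : ℕ} [hp : Fact p.Prime] [hq : Fact q.Prime] (hpq : q ≠ p)
    (h : ∀ s, s.Prime → s ≠ p → s ≠ q → ¬ NC s (⊤ : Subgroup G)) (P : Sylow p G) (Q : Sylow q G) :
    ∃ A : Subgroup G, A ≤ center G ∧
      𝐨(((P : Subgroup G) ⊔ (Q : Subgroup G) : Subgroup G)) = Nat.card P * Nat.card Q ∧
      ((P : Subgroup G) ⊔ (Q : Subgroup G)).Normal ∧ ((P : Subgroup G) ⊔ (Q : Subgroup G)) ⊓ A = ⊥ ∧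
      ((P : Subgroup G) ⊔ (Q : Subgroup G)) ⊔ A = ⊤ := by
  let A : Subgroup G :=
    { carrier := {a | a ∈ center G ∧ (orderOf a).Coprime (p * q)}
      one_mem' := ⟨one_mem _, by simp⟩
      mul_mem' := fun {a b} ha hb => ⟨mul_mem ha.1 hb.1, Nat.Coprime.coprime_dvd_left
        (Commute.orderOf_mul_dvd_mul_orderOf (mem_center_iff.mp hb.1 a)) (ha.2.mul_left hb.2)⟩
      inv_mem' := fun {a} ha => ⟨inv_mem ha.1, by rw [orderOf_inv]; exact ha.2⟩ }
  set K := (P : Subgroup G) ⊔ (Q : Subgroup G) with hK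
  have h1 : ∀ s, s.Prime → s ∣ 𝐨(K) → s = p ∨ s = q := fun s hs hd => by
    by_contra hn
    push Not at hn
    have := Fact.mk hs
    obtain ⟨S⟩ : Nonempty (Sylow s G) := inferInstance
    obtain ⟨N, hN, h2, j, h3⟩ := H8.hasNPC_iff_exists.1 (H8.hasNPC_of_normalizer_le_centralizer S
      fun n _ y hy => (mem_center_iff.mp (sylow_le_center (h s hs hn.1 hn.2) S hy) n).symm)
    have h4 : ∀ {t : ℕ} [Fact t.Prime] (T : Sylow t G), s ≠ t → (T : Subgroup G) ≤ N :=
      fun {t} ht T hst w hw => by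
        obtain ⟨i, hi⟩ := H7.exists_orderOf_eq_pow_of_mem T.isPGroup' hw
        exact H8.mem_of_coprime_index (h3 ▸ (cop' ht.out hs hst.symm hi).pow_right j)
    exact (Nat.Prime.coprime_iff_not_dvd hs).mp h2.symm
      (hd.trans (Subgroup.card_dvd_of_le (sup_le (h4 P hn.1) (h4 Q hn.2))))
  have h2 : K ⊔ A = ⊤ := by
    rw [← index_eq_one]
    by_contra hn
    obtain ⟨s, hs, hd⟩ := Nat.exists_prime_and_dvd hn
    have := Fact.mk hs
    by_cases e : s = p
    · subst e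
      exact H9.not_dvd_index_iff_exists_sylow_le.mpr ⟨P, le_sup_left.trans le_sup_left⟩ hd
    by_cases e' : s = q
    · subst e'
      exact H9.not_dvd_index_iff_exists_sylow_le.mpr ⟨Q, le_sup_right.trans le_sup_left⟩ hd
    obtain ⟨S⟩ : Nonempty (Sylow s G) := inferInstance
    refine H9.not_dvd_index_iff_exists_sylow_le.mpr ⟨S, fun w hw => mem_sup_right
      (show w ∈ A from ⟨sylow_le_center (h s hs e e') S hw, ?_⟩)⟩ hd
    obtain ⟨i, hi⟩ := H7.exists_orderOf_eq_pow_of_mem S.isPGroup' hw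
    exact (cop' hs hp.out e hi).mul_right (cop' hs hq.out e' hi)
  refine ⟨A, fun a ha => ha.1, ?_, ?_, ?_, h2⟩
  · apply Nat.dvd_antisymm
    · change 𝐨(K) ∣ 𝐨((P : Subgroup G)) * 𝐨((Q : Subgroup G))
      rw [P.card_eq_multiplicity, Q.card_eq_multiplicity]
      refine (Nat.dvd_iff_prime_pow_dvd_dvd _ _).mpr fun s i hs hd => ?_
      rcases Nat.eq_zero_or_pos i with rfl | hi
      · simp
      have h3 := (hs.pow_dvd_iff_le_factorization Nat.card_pos.ne').mp
        (hd.trans (card_subgroup_dvd_card K))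
      rcases h1 s hs ((dvd_pow_self s hi.ne').trans hd) with rfl | rfl
      exacts [(pow_dvd_pow s h3).mul_right _, (pow_dvd_pow s h3).mul_left _]
    · refine Nat.Coprime.mul_dvd_of_dvd_of_dvd ?_ (Subgroup.card_dvd_of_le le_sup_left)
        (Subgroup.card_dvd_of_le le_sup_right)
      exact IsPGroup.coprime_card_of_ne p q hpq.symm _ _ P.isPGroup' Q.isPGroup'
  · rw [← normalizer_eq_top_iff, ← top_le_iff, ← h2]
    exact sup_le le_normalizer fun a ha => centralizer_le_normalizer _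
      fun b _ => mem_center_iff.mp ha.1 b
  · rw [eq_bot_iff]
    rintro a ⟨ha, ha'⟩
    rw [mem_bot, ← orderOf_eq_one_iff]
    by_contra hn
    obtain ⟨s, hs, hd⟩ := Nat.exists_prime_and_dvd hn
    refine hs.one_lt.ne' (Nat.eq_one_of_dvd_coprimes ha'.2 hd ?_)
    rcases h1 s hs (hd.trans (K.orderOf_dvd_natCard ha)) with rfl | rfl
    exacts [dvd_mul_right _ _, dvd_mul_left _ _]

end Cfsg.Agent.H7.Rk2
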