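/-
Itô's theorem: groups with three class sizes are solvable.
-/
import Cfsg.Agent.H7.Rk2B

set_option autoImplicit false
set_option linter.unusedSectionVars false

namespace Cfsg.Agent.H7.Rk2

open Subgroup Cfsg Cfsg.Agent Cfsg.Agent.FT Cfsg.Agent.H7.Rk3

universe u

variable {G : Type u} [Group G] [Finite G]

theorem three (hs : ¬ Group.IsSolvable G) (p q : ℕ) :
    ∃ s, s.Prime ∧ s ≠ p ∧ s ≠ q ∧ NC s (⊤ : Subgroup G) := by
  by_contra hn
  push Not at hn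
  exact hs (solv_of_nc hn)

theorem frobZ {x : G} (xc : x ∉ center G) (hB : ∀ w ∈ 𝐂[x], w ∉ center G → 𝐂[w] = 𝐂[x])
    (hN : 𝐍(𝐂[x]) ≤ 𝐂[x]) : Group.IsSolvable G := by
  have hm : ∀ g : G, (g : G ⧸ center G) ∈ (𝐂[x]).map (QuotientGroup.mk' (center G)) → g ∈ 𝐂[x] :=
    fun g hg => by
      have := comap_map_eq_self (f := QuotientGroup.mk' (center G)) (H := 𝐂[x])
        (by rw [QuotientGroup.ker_mk']; exact H8.center_le_cent x)
      exact this.le hg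
  have hF : IsFrobeniusComplement ((𝐂[x]).map (QuotientGroup.mk' (center G))) := by
    refine H9.isFrobeniusComplement_iff.mpr ⟨fun e => xc ?_, fun e => xc ?_, fun g w hw w1 hg => ?_⟩
    · rw [Subgroup.map_eq_bot_iff, QuotientGroup.ker_mk'] at e
      exact e (H8.mem_cent_self x)
    · exact mem_center_iff.mpr fun g => (CA.mem_cent.mp (hm g (e ▸ mem_top _))).symm.eq
    obtain ⟨g, rfl⟩ := QuotientGroup.mk'_surjective _ g
    obtain ⟨w, hw, rfl⟩ := hw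
    have wc : w ∉ center G := fun e => w1 ((QuotientGroup.eq_one_iff w).mpr e)
    refine mem_map_of_mem _ (hN ?_)
    rw [← hB w hw wc]
    exact H6.mem_normalizer_of_centralizer_conj ((hB _ (hm _ hg)
      (H6.conj_not_mem_center wc g)).trans (hB w hw wc).symm)
  obtain ⟨N, hN, h1, h2⟩ := H6.exists_frobeniusKernel hF
  have := H5.isNilpotent_frobeniusKernel hF h1
  have : Group.IsSolvable 𝐂[x] := Group.isSolvable_of_comm fun a b => Subtype.ext (by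
    by_cases ac : (a : G) ∈ center G
    · exact (mem_center_iff.mp ac b).symm
    · exact (CA.mem_cent.mp ((hB a a.2 ac).ge b.2)).eq)
  have := L.isSolvable_map 𝐂[x] (QuotientGroup.mk' (center G))
  exact L.isSolvable_of_normal_of_quotient (center G) inferInstance
    (L.isSolvable_of_normal_of_quotient N inferInstance
      (Group.isSolvable_of_isSolvable_injective (f := h2.symm.QuotientMulEquiv.toMonoidHom)
        h2.symm.QuotientMulEquiv.injective))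

section F

variable (hF : ∀ x y : G, x ∉ center G → y ∉ center G → 𝐂[x] ≤ 𝐂[y] → 𝐂[y] = 𝐂[x])
include hF

theorem F_cop {x w : G} (xc : x ∉ center G) (wc : w ∉ center G) (hm : w ∈ 𝐂[x])
    (ho : (orderOf x).Coprime (orderOf w)) : 𝐂[w] = 𝐂[x] := by
  have hc := CA.mem_cent.mp hm
  have e := H9.centralizer_mul_of_coprime hc ho
  have h1 := H8.MNHyp.not_mem_mul xc hc ho
  exact (hF _ w h1 wc (e ▸ inf_le_right)).trans (hF _ x h1 xc (e ▸ inf_le_left)).symm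

theorem F_primary {x : G} (xc : x ∉ center G) : ∃ (q n : ℕ) (y : G), q.Prime ∧ y ∈ zpowers x ∧
    orderOf y = q ^ n ∧ y ∉ center G ∧ 𝐂[y] = 𝐂[x] := by
  obtain ⟨q, n, y, hq, hy, hyo, yc⟩ := H8.exists_primePow_not_mem xc
  exact ⟨q, n, y, hq, hy, hyo, yc, hF x y xc yc (H9.centralizer_le_of_mem_zpowers hy)⟩

theorem F_all {m n : ℕ} (h : ∀ x : G, x ∉ center G → cs x = m ∨ cs x = n)
    (hs : ¬ Group.IsSolvable G) {x : G} (xc : x ∉ center G) :
    (∀ w ∈ 𝐂[x], w ∉ center G → 𝐂[w] = 𝐂[x]) ∧ ∀ y : G, cs y = cs x → ∃ g : G, g⁻¹ * y * g ∈ 𝐂[x] := by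
  have key : ∀ x : G, x ∉ center G → (∀ w ∈ 𝐂[x], w ∉ center G → 𝐂[w] = 𝐂[x]) ∧
      ∃ s, s.Prime ∧ NC s 𝐂[x] ∧ ¬ s ∣ cs x := fun x xc => by
    obtain ⟨q, i, y, hq, -, hyo, yc, e⟩ := F_primary hF xc
    obtain ⟨s, hs', hsq, ns⟩ : ∃ s, s.Prime ∧ s ≠ q ∧ NC s 𝐂[x] := by
      by_contra hn
      push Not at hn
      have h1 : ∀ w : G, (orderOf w).Coprime q → w ∉ center G → cs w ≠ cs x := fun w hw wc e' => by
        obtain ⟨s, j, v, hs', hv, hvo, vc, e''⟩ := F_primary hF wc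
        refine hn s hs' ?_ (nc_of_dvd (n := 1) hs' hs'.not_dvd_one
          (by rw [mul_one, ← e', cs, cs, e'']) hvo vc)
        rintro rfl
        exact vc (H8.eq_one_of_orderOf_pow_of_coprime hvo (Nat.Coprime.coprime_dvd_left
          (orderOf_dvd_of_mem_zpowers hv) hw) ▸ one_mem _)
      rcases h x xc with e' | e'
      · exact hs (Reg.solvable (k := n) hq fun w hw wc =>
          (h w wc).resolve_left (e' ▸ h1 w hw wc))
      · exact hs (Reg.solvable (k := m) hq fun w hw wc =>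
          (h w wc).resolve_right (e' ▸ h1 w hw wc))
    have h1 : ∀ w ∈ 𝐂[x], w ∉ center G → 𝐂[w] = 𝐂[x] := fun w hw wc => by
      obtain ⟨g, hg, gc, j, hgo⟩ := ns
      have e1 := F_cop hF yc gc (e ▸ hg) (cop hq hs' hsq.symm hyo hgo)
      obtain ⟨r, l, v, hr, hv, hvo, vc, e'⟩ := F_primary hF wc
      have hv' : v ∈ 𝐂[y] := e ▸ zpowers_le.mpr hw hv
      rw [← e', ← e]
      by_cases hqr : q = r
      · subst hqr
        exact (F_cop hF gc vc (e1 ▸ hv') (cop hs' hq hsq hgo hvo)).trans e1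
      · exact F_cop hF yc vc hv' (cop hq hr hqr hyo hvo)
    have nq : NC q 𝐂[x] := ⟨y, e ▸ H8.mem_cent_self y, yc, i, hyo⟩
    refine ⟨h1, ?_⟩
    by_contra hn
    push Not at hn
    exact cam2 hs' hq hsq (fun _ _ v _ hv vc _ => h1 v hv vc) ns nq (hn s hs' ns) (hn q hq nq)
  obtain ⟨h1, s, hs', ⟨w, hw, wc, j, ho⟩, hd⟩ := key x xc
  refine ⟨h1, fun y hy => ?_⟩
  have := Fact.mk hs'
  have yc : y ∉ center G := fun e => xc (cs_eq_one.mp (hy ▸ cs_eq_one.mpr e))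
  obtain ⟨g, hg⟩ := exists_conj_mem_of_not_dvd_index ho (hy ▸ hd : ¬ s ∣ cs y)
  have := conj_mem_cent (H8.mem_cent_comm.mp hg) g⁻¹
  refine ⟨g, h1 w hw wc ▸ ?_⟩
  simpa [mul_assoc] using this

theorem F_case {x y : G} (xc : x ∉ center G) (yc : y ∉ center G)
    (h : ∀ w : G, w ∉ center G → cs w = cs x ∨ cs w = cs y) : Group.IsSolvable G := by
  by_contra hs
  have key : ∀ x : G, x ∉ center G →
      2 * {w : G | ∃ g : G, g⁻¹ * w * g ∈ 𝐂[x]}.ncard ≤ Nat.card G := fun x xc => by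
    have h1 : (𝐂[x]).relIndex 𝐍(𝐂[x]) ≠ 1 := fun e =>
      hs (frobZ xc (F_all hF h hs xc).1 (relIndex_eq_one.mp e))
    have h2 : (𝐂[x]).relIndex 𝐍(𝐂[x]) ≠ 0 := index_ne_zero_of_finite
    calc _ ≤ (𝐂[x]).relIndex 𝐍(𝐂[x]) * ((𝐍(𝐂[x])).index * 𝐨(𝐂[x])) :=
        Nat.mul_le_mul (by omega) (ncard_conj_mem_le le_rfl)
      _ = _ := by rw [← mul_assoc, relIndex_mul_index le_normalizer, index_mul_card]
  have h1 := key x xc
  have h2 := key y yc
  have h3 := Set.ncard_union_add_ncard_inter {w : G | ∃ g : G, g⁻¹ * w * g ∈ 𝐂[x]}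
    {w : G | ∃ g : G, g⁻¹ * w * g ∈ 𝐂[y]}
  have h4 : {w : G | ∃ g : G, g⁻¹ * w * g ∈ 𝐂[x]} ∪ {w : G | ∃ g : G, g⁻¹ * w * g ∈ 𝐂[y]} =
      Set.univ := Set.eq_univ_of_forall fun w => by
    by_cases wc : w ∈ center G
    · exact Or.inl ⟨1, by simpa using H8.center_le_cent x wc⟩
    · exact (h w wc).imp ((F_all hF h hs xc).2 w) ((F_all hF h hs yc).2 w)
  have h5 := (Set.ncard_pos (s := {w : G | ∃ g : G, g⁻¹ * w * g ∈ 𝐂[x]} ∩
    {w : G | ∃ g : G, g⁻¹ * w * g ∈ 𝐂[y]})).mpr ⟨1, ⟨1, by simp⟩, ⟨1, by simp⟩⟩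
  rw [h4, Set.ncard_univ] at h3
  omega

end F

/-- The noncentral class sizes are `a` and `a * k`. -/
structure CfZ (G : Type u) [Group G] (a k : ℕ) : Prop where
  typ : ∀ x : G, x ∉ center G → cs x = a ∨ cs x = a * k
  a0 : a ≠ 0
  k1 : k ≠ 1
  ns : ¬ Group.IsSolvable G

theorem le_cent_of_not_nc {H : Subgroup G} {s i : ℕ} (h : ¬ NC s (⊤ : Subgroup H)) {w : G}
    (hw : w ∈ H) (ho : orderOf w = s ^ i) : H ≤ 𝐂[w] := fun y hy => by
  by_contra hn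
  exact h ⟨⟨w, hw⟩, mem_top _, fun e => hn (CA.mem_cent.mpr
    (congrArg Subtype.val (mem_center_iff.mp e ⟨y, hy⟩)).symm), i, by rw [← orderOf_coe]; exact ho⟩

namespace CfZ

variable {a k : ℕ} (h : CfZ G a k)
include h

theorem nd : ¬ a * k ∣ a := fun e => h.k1 (Nat.dvd_one.mp
  (Nat.dvd_of_mul_dvd_mul_left (Nat.pos_of_ne_zero h.a0) (by rwa [mul_one])))

theorem dvd {x : G} (xc : x ∉ center G) : a ∣ cs x := by
  rcases h.typ x xc with e | e <;> rw [e]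
  exact dvd_mul_right a k

theorem max_a {x w : G} (hx : cs x = a) (wc : w ∉ center G) (hle : 𝐂[x] ≤ 𝐂[w]) : 𝐂[w] = 𝐂[x] := by
  rcases h.typ w wc with e | e
  · exact (H8.eq_of_le_of_index_eq hle (hx.trans e.symm)).symm
  · exact absurd (e ▸ hx ▸ cs_dvd hle) h.nd

theorem le_of_c {x w : G} (xc : x ∉ center G) (hx : cs x = a * k) (hw : w ∈ 𝐂[x])
    (ho : (orderOf x).Coprime (orderOf w)) : 𝐂[x] ≤ 𝐂[w] := by
  have hc := CA.mem_cent.mp hw
  have e := H9.centralizer_mul_of_coprime hc ho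
  have hle : 𝐂[x * w] ≤ 𝐂[x] := e ▸ inf_le_left
  rcases h.typ _ (H8.MNHyp.not_mem_mul xc hc ho) with e' | e'
  · exact (h.nd (by have := cs_dvd hle; rwa [hx, e'] at this)).elim
  · rw [← H8.eq_of_le_of_index_eq hle (e'.trans hx.symm), e]; exact inf_le_right

theorem reg {t i : ℕ} {x : G} (xc : x ∉ center G) (hx : cs x = a) (ho : orderOf x = t ^ i) :
    Reg t k 𝐂[x] := fun w hw wc => by
  have hc := CA.mem_cent.mp w.2
  have hco : (orderOf x).Coprime (orderOf (w : G)) := by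
    rw [ho, orderOf_coe]; exact (hw.pow_right i).symm
  have hI : cs (x * w) = a * cs w := by
    rw [cs, H9.centralizer_mul_of_coprime hc hco, cs, H9.centralizer_coe_subgroupOf,
      ← relIndex_mul_index (inf_le_left (a := 𝐂[x])), inf_relIndex_left, mul_comm]
    congr 1
  rcases h.typ _ (H8.MNHyp.not_mem_mul xc hc hco) with e | e
  · exact absurd (cs_eq_one.mp (Nat.eq_of_mul_eq_mul_left (Nat.pos_of_ne_zero h.a0)
      (hI.symm.trans (e.trans (mul_one a).symm)))) wc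
  · exact Nat.eq_of_mul_eq_mul_left (Nat.pos_of_ne_zero h.a0) (hI.symm.trans e)

theorem nf {t i : ℕ} (ht : t.Prime) {x : G} (xc : x ∉ center G) (hx : cs x = a)
    (ho : orderOf x = t ^ i) : (∀ y ∈ 𝐂[x], 𝐂[x] ≤ 𝐂[y]) ∨ (∃ j, k = t ^ j) ∨
      ∃ l, l.Prime ∧ (∃ j, k = l ^ j) ∧ ∀ (s n : ℕ) (w : G), s.Prime → s ≠ l → w ∈ 𝐂[x] →
        orderOf w = s ^ n → 𝐂[x] ≤ 𝐂[w] := by
  have r1 := h.reg xc hx ho
  rcases r1.dich ht with ⟨q, -, -, h1⟩ | h1
  swap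
  · exact Or.inr (Or.inl h1)
  obtain ⟨s, hs, hst, hsq, y, -, yc, j, hyo⟩ := three h.ns t q
  obtain ⟨z, hz, zc, j, hzo⟩ := nc_of_dvd (n := 1) (y := x) hs hs.not_dvd_one
    (by rw [mul_one, hx]; exact h.dvd yc) hyo yc
  have e := h.max_a hx zc (le_cent_of_not_nc (h1 s hs hst hsq) hz hzo)
  have r2 : Reg s k 𝐂[x] := e ▸ h.reg zc (by rw [cs, e]; exact hx) hzo
  by_cases hab : ∀ y ∈ 𝐂[x], 𝐂[x] ≤ 𝐂[y]
  · exact Or.inl hab
  obtain ⟨w, hw⟩ : ∃ w : 𝐂[x], cs w = k := by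
    obtain ⟨w, wc⟩ : ∃ w : 𝐂[x], w ∉ center 𝐂[x] := by
      by_contra hn
      push Not at hn
      exact hab fun y hy v hv => CA.mem_cent.mpr
        (congrArg Subtype.val (mem_center_iff.mp (hn ⟨v, hv⟩) ⟨y, hy⟩))
    obtain ⟨r, n, v, hr, -, hvo, vc⟩ := H8.exists_primePow_not_mem wc
    by_cases hrt : r = t
    · exact ⟨v, r2 v (cop' hr hs (hrt ▸ hst.symm) hvo) vc⟩
    · exact ⟨v, r1 v (cop' hr ht hrt hvo) vc⟩
  rcases r2.dich hs with ⟨l, hl, -, h2⟩ | ⟨n, hn⟩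
  · have h3 : ∀ r, r.Prime → r ≠ l → ¬ NC r (⊤ : Subgroup 𝐂[x]) := fun r hr hrl => by
      by_cases hrs : r = s
      · exact hrs ▸ h1 s hs hst hsq
      · exact h2 r hr hrs hrl
    refine Or.inr (Or.inr ⟨l, hl, ⟨_, Nat.eq_prime_pow_of_unique_prime_dvd (hw ▸ cs_ne_zero w)
      fun {d} hd hdk => ?_⟩, fun r n v hr hrl hv hvo => le_cent_of_not_nc (h3 r hr hrl) hv hvo⟩)
    by_contra hn
    exact h3 d hd hn (nc_of_dvd_cs hd (hw ▸ hdk : d ∣ cs w))
  · refine (h1 s hs hst hsq (nc_of_dvd_cs hs (y := w) ?_)).elim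
    rw [hw, hn]
    exact dvd_pow_self s fun e => h.k1 (by rw [hn, e, pow_zero])

theorem false {x y : G} (xc : x ∉ center G) (hx : cs x = a) (hy : y ∈ 𝐂[x]) (hn : ¬ 𝐂[x] ≤ 𝐂[y]) :
    False := by
  obtain ⟨l, hl, j, hk⟩ : ∃ l, l.Prime ∧ ∃ j, k = l ^ j := by
    obtain ⟨t, i, w, ht, hw, ho, wc⟩ := H8.exists_primePow_not_mem xc
    have e := h.max_a hx wc (H9.centralizer_le_of_mem_zpowers hw)
    rcases h.nf ht wc (by rw [cs, e]; exact hx) ho with h1 | h1 | ⟨l, hl, h1, -⟩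
    · exact (hn (e ▸ h1 y (e ▸ hy))).elim
    exacts [⟨t, ht, h1⟩, ⟨l, hl, h1⟩]
  have hu : ∀ t n, t.Prime → k = t ^ n → t = l := fun t n ht e =>
    (Nat.prime_dvd_prime_iff_eq ht hl).mp (ht.dvd_of_dvd_pow (hk ▸ e ▸ dvd_pow_self t
      fun e' => h.k1 (by rw [e, e', pow_zero])))
  have hnc : ∀ s, s.Prime → s ≠ l → NC s (⊤ : Subgroup G) → ∀ w : G, w ∉ center G → NC s 𝐂[w] := by
    rintro s hs hsl ⟨v, -, vc, n, hvo⟩ w wc
    refine nc_of_dvd (n := k) hs (fun e => hsl ((Nat.prime_dvd_prime_iff_eq hs hl).mp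
      (hs.dvd_of_dvd_pow (hk ▸ e)))) (Dvd.dvd.trans ?_ (Nat.mul_dvd_mul_right (h.dvd vc) k)) hvo vc
    rcases h.typ w wc with e | e <;> rw [e]
    exact dvd_mul_right a k
  have cla : ∀ (t i : ℕ) (w : G), t.Prime → t ≠ l → w ∉ center G → orderOf w = t ^ i → cs w = a →
      ∀ (s n : ℕ) (v : G), s.Prime → s ≠ l → v ∈ 𝐂[w] → orderOf v = s ^ n → 𝐂[w] ≤ 𝐂[v] := by
    intro t i w ht htl wc ho hw
    rcases h.nf ht wc hw ho with h1 | ⟨n, h1⟩ | ⟨l', hl', ⟨n, h1⟩, h2⟩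
    · exact fun _ _ v _ _ hv _ => h1 v hv
    · exact absurd (hu t n ht h1) htl
    · exact hu l' n hl' h1 ▸ h2
  have cl : ∀ (t i : ℕ) (w : G), t.Prime → t ≠ l → w ∉ center G → orderOf w = t ^ i →
      ∀ (s n : ℕ) (v : G), s.Prime → s ≠ l → v ∈ 𝐂[w] → orderOf v = s ^ n → 𝐂[w] ≤ 𝐂[v] := by
    intro t i w ht htl wc ho s n v hs hsl hv hvo
    rcases h.typ w wc with hw | hw
    · exact cla t i w ht htl wc ho hw s n v hs hsl hv hvo
    by_cases hts : t = s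
    swap
    · exact h.le_of_c wc hw hv (cop ht hs hts ho hvo)
    subst hts
    obtain ⟨r, hr, hrl, hrt, nr⟩ := three h.ns l t
    obtain ⟨g, hg, gc, m, hgo⟩ := hnc r hr hrl nr w wc
    have h1 := h.le_of_c wc hw hg (cop ht hr hrt.symm ho hgo)
    rcases h.typ g gc with e | e
    · exact h1.trans (cla r m g hr hrl gc hgo e t n v ht htl (h1 hv) hvo)
    · exact h1.trans (h.le_of_c gc e (h1 hv) (cop hr ht hrt hgo hvo))
  have hd : ∀ t, t.Prime → t ≠ l → NC t (⊤ : Subgroup G) → t ∣ a := by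
    rintro t ht htl ⟨v, -, vc, n, hvo⟩
    have := Fact.mk ht
    by_contra hn
    obtain ⟨T, hT⟩ := (H8.isPGroup_zpowers_of_orderOf hvo).exists_le_sylow
    refine vc (sylow_le_center_of_not_dvd_class (fun w => ?_) T (hT (mem_zpowers v)))
    change ¬ t ∣ cs w
    by_cases wc : w ∈ center G
    · rw [cs_eq_one.mpr wc]; exact ht.not_dvd_one
    rcases h.typ w wc with e | e <;> rw [e]
    · exact hn
    · exact fun e' => (ht.dvd_mul.mp e').elim hn fun e' => htl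
        ((Nat.prime_dvd_prime_iff_eq ht hl).mp (ht.dvd_of_dvd_pow (hk ▸ e')))
  obtain ⟨t, ht, htl, -, nt⟩ := three h.ns l l
  obtain ⟨s, hs, hsl, hst, ns⟩ := three h.ns l t
  obtain ⟨w, -, wc, i, ho⟩ := id nt
  refine cam2 ht hs hst.symm (D := 𝐂[w]) (fun r n v hr hv vc hvo => ?_) (hnc t ht htl nt w wc)
    (hnc s hs hsl ns w wc) ((hd t ht htl nt).trans (h.dvd wc)) ((hd s hs hsl ns).trans (h.dvd wc))
  have hr1 : r.Prime := hr.elim (· ▸ ht) (· ▸ hs)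
  have hr2 : r ≠ l := hr.elim (· ▸ htl) (· ▸ hsl)
  exact le_antisymm (cl r n v hr1 hr2 vc hvo t i w ht htl (H8.mem_cent_comm.mp hv) ho)
    (cl t i w ht htl wc ho r n v hr1 hr2 hv hvo)

end CfZ

/-- **Itô**: at most two noncentral class sizes imply solvability. -/
theorem ito {x y : G} (xc : x ∉ center G) (yc : y ∉ center G)
    (h : ∀ w : G, w ∉ center G → cs w = cs x ∨ cs w = cs y) : Group.IsSolvable G := by
  by_cases hF : ∀ x y : G, x ∉ center G → y ∉ center G → 𝐂[x] ≤ 𝐂[y] → 𝐂[y] = 𝐂[x]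
  · exact F_case hF xc yc h
  push Not at hF
  obtain ⟨u, v, uc, vc, hle, hne⟩ := hF
  by_contra hs
  obtain ⟨k, hk⟩ := cs_dvd hle
  have h1 : cs u ≠ cs v := fun e => hne (H8.eq_of_le_of_index_eq hle e).symm
  refine CfZ.false (a := cs v) (k := k) ⟨fun w wc => ?_, cs_ne_zero v, ?_, hs⟩ vc rfl
    (hle (H8.mem_cent_self u)) fun e => hne (le_antisymm e hle)
  · have := h w wc
    have := h u uc
    have := h v vc
    omega
  · rintro rfl
    exact h1 (hk.trans (mul_one _))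

end Cfsg.Agent.H7.Rk2
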