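/-
Groups with class sizes `1, n, m, nm` for coprime `n, m`.
-/
import Cfsg.Agent.H7.Rk2C
import Cfsg.Agent.S4127

set_option autoImplicit false
set_option linter.unusedSectionVars false

namespace Cfsg.Agent.H7.Rk2

open Subgroup Cfsg Cfsg.Agent Cfsg.Agent.FT Cfsg.Agent.H7.Rk3

universe u

variable {G : Type u} [Group G] [Finite G]

theorem classStab (w : G) : ∃ M : Subgroup G, M.Normal ∧ Nat.card M ∣ cs w ∧
    (∀ a ∈ M, IsConj w (a * w)) ∧ ∀ x : G, (cs x).Coprime (cs w) → cs (x * w) = cs w →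
      ∀ g : G, x⁻¹ * (g * x * g⁻¹) ∈ M := by
  let M : Subgroup G :=
    { carrier := {m | ∀ z, IsConj w z ↔ IsConj w (m * z)}
      one_mem' := fun z => by rw [one_mul]
      mul_mem' := fun {a b} ha hb z => by rw [mul_assoc, ← ha, ← hb]
      inv_mem' := fun {a} ha z => by rw [ha (a⁻¹ * z), mul_inv_cancel_left] }
  have hconj : ∀ g z : G, IsConj w (g * z * g⁻¹) ↔ IsConj w z := fun g z =>
    ⟨fun h => h.trans (isConj_iff.2 ⟨g, rfl⟩).symm, fun h => h.trans (isConj_iff.2 ⟨g, rfl⟩)⟩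
  refine ⟨M, ⟨fun m hm g z => ?_⟩, ?_, fun a ha => (ha w).mp (IsConj.refl w), fun x h1 h2 g => ?_⟩
  · rw [← hconj g⁻¹ z, hm, ← hconj g]
    congr! 1
    group
  · let _ : MulAction M {z // IsConj w z} :=
      { smul := fun m z => ⟨m * z, (m.2 z).1 z.2⟩
        one_smul := fun z => Subtype.ext (one_mul _)
        mul_smul := fun a b z => Subtype.ext (mul_assoc _ _ _) }
    have := card_dvd_of_free_action (A := M) (X := {z // IsConj w z}) fun a z h =>
      Subtype.ext (mul_eq_right.1 (congrArg Subtype.val h))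
    rw [cs, H6.index_centralizer_eq_ncard]
    exact this
  · have hle : {z | IsConj (x * w) z}.ncard ≤ {z | IsConj w z}.ncard := by
      rw [← H6.index_centralizer_eq_ncard, ← H6.index_centralizer_eq_ncard]
      exact h2.le
    have key : ∀ g z : G, IsConj w z ↔ IsConj (x * w) (g * x * g⁻¹ * z) := by
      intro g
      have hsub : (fun z => g * x * g⁻¹ * z) '' {z | IsConj w z} ⊆ {z | IsConj (x * w) z} := by
        rintro _ ⟨z, hz, rfl⟩
        obtain ⟨h, rfl⟩ := isConj_iff.1 hz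
        obtain ⟨k, e1, e2⟩ := exists_conj_pair h1 g h
        refine isConj_iff.2 ⟨k, ?_⟩
        show _ = g * x * g⁻¹ * (h * w * h⁻¹)
        rw [← e1, ← e2]; group
      have heq := Set.eq_of_subset_of_ncard_le hsub (by
        rwa [Set.ncard_image_of_injective _ (mul_right_injective _)]) (Set.toFinite _)
      intro z
      refine ⟨fun hz => hsub ⟨z, hz, rfl⟩, fun hz => ?_⟩
      have : g * x * g⁻¹ * z ∈ (fun z => g * x * g⁻¹ * z) '' {z | IsConj w z} := by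
        rw [heq]; exact hz
      obtain ⟨z', hz', e⟩ := this
      rwa [← mul_left_cancel e]
    intro z
    rw [key g z, key 1 (x⁻¹ * (g * x * g⁻¹) * z)]
    congr! 1
    group

theorem nc_of_dvd' {q : ℕ} (hq : q.Prime) {x y : G} (hd : cs y ∣ cs x) (h : NC q 𝐂[x]) :
    NC q 𝐂[y] := by
  have := Fact.mk hq
  obtain ⟨w, hw, wc, k, ho⟩ := h
  obtain ⟨Q, h1, h2, h3⟩ := H1.exists_sylow_le q 𝐂[y]
  by_contra hcon
  have h4 : Q ≤ center G := fun w hw => by
    by_contra h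
    exact hcon ⟨w, h1 hw, h, H7.exists_orderOf_eq_pow_of_mem h2 hw⟩
  have h5 : Q.relIndex 𝐂[x] ∣ Q.relIndex 𝐂[y] := by
    obtain ⟨e, he⟩ := hd
    refine ⟨e, Nat.eq_of_mul_eq_mul_right (Nat.pos_of_ne_zero (cs_ne_zero y)) ?_⟩
    rw [relIndex_mul_index h1, ← relIndex_mul_index (h4.trans (H8.center_le_cent x))]
    change _ * cs x = _
    rw [he]; ring
  have := H3.normal_of_le_center h4
  exact h3 ((H8.dvd_relIndex_of_not_mem hq ho (le_normalizer_of_normal (mem_top w))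
    (fun h => wc (h4 h)) (h4.trans (H8.center_le_cent x)) hw).trans h5)

theorem exists_conj_rel {q k : ℕ} (hq : q.Prime) {x : G} (ho : orderOf x = q ^ k) {A K : Subgroup G}
    (hx : x ∈ K) (h : ¬ q ∣ A.relIndex K) : ∃ g : G, g * x * g⁻¹ ∈ A := by
  have := Fact.mk hq
  obtain ⟨g, hg⟩ := exists_conj_mem_of_not_dvd_index (G := K) (u := ⟨x, hx⟩)
    (by rw [← orderOf_coe]; exact ho) h
  exact ⟨g, hg⟩

/-- Class sizes `1, n, m, nm`. -/
structure T4 (G : Type u) [Group G] (n m : ℕ) : Prop where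
  typ : ∀ x : G, x ∉ center G → cs x = n ∨ cs x = m ∨ cs x = n * m
  cop : n.Coprime m
  n1 : 1 < n
  m1 : 1 < m
  exn : ∃ x : G, cs x = n
  exm : ∃ x : G, cs x = m
  exnm : ∃ x : G, cs x = n * m

namespace T4

variable {n m : ℕ} (h : T4 G n m)
include h

theorem symm : T4 G m n :=
  ⟨fun x xc => by have := h.typ x xc; rw [mul_comm m]; tauto, h.cop.symm, h.m1, h.n1, h.exm, h.exn,
    mul_comm n m ▸ h.exnm⟩

theorem nm : ¬ n ∣ m := fun e => h.n1.ne' (h.cop.eq_one_of_dvd e)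

theorem nd {p : ℕ} (hp : p.Prime) (hn : p ∣ n) : ¬ p ∣ m := fun e =>
  hp.one_lt.ne' (Nat.eq_one_of_dvd_coprimes h.cop hn e)

theorem ncen {x : G} (hx : n ∣ cs x) : x ∉ center G := fun e =>
  h.n1.ne' (Nat.dvd_one.mp (cs_eq_one.mpr e ▸ hx))

theorem dvd (x : G) : cs x ∣ n * m := by
  by_cases xc : x ∈ center G
  · rw [cs_eq_one.mpr xc]; exact one_dvd _
  rcases h.typ x xc with e | e | e <;> rw [e]
  exacts [dvd_mul_right _ _, dvd_mul_left _ _]

theorem max_n {x w : G} (hx : cs x = n) (wc : w ∉ center G) (hle : 𝐂[x] ≤ 𝐂[w]) : 𝐂[w] = 𝐂[x] := by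
  have hd := cs_dvd hle
  rw [hx] at hd
  rcases h.typ w wc with e | e | e
  · exact (H8.eq_of_le_of_index_eq hle (hx.trans e.symm)).symm
  · exact absurd (e ▸ hd) h.symm.nm
  · exact absurd ((dvd_mul_left m n).trans (e ▸ hd)) h.symm.nm

theorem le_of_nm {x w : G} (hx : cs x = n * m) (hw : w ∈ 𝐂[x])
    (ho : (orderOf x).Coprime (orderOf w)) : 𝐂[x] ≤ 𝐂[w] := by
  have e := H9.centralizer_mul_of_coprime (CA.mem_cent.mp hw) ho
  have hle : 𝐂[x * w] ≤ 𝐂[x] := e ▸ inf_le_left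
  rw [← H8.eq_of_le_of_index_eq hle (Nat.dvd_antisymm (hx ▸ h.dvd _ : cs (x * w) ∣ cs x) (cs_dvd hle)), e]
  exact inf_le_right

theorem rel_dvd {x w : G} {A : Subgroup G} (hx : cs x = n) (e : 𝐂[w] = 𝐂[x] ⊓ A) :
    A.relIndex 𝐂[x] ∣ m := by
  have h1 := h.dvd w
  rw [cs, e, ← relIndex_mul_index (inf_le_left (a := 𝐂[x])), inf_relIndex_left, mul_comm] at h1
  exact Nat.dvd_of_mul_dvd_mul_left (by have := h.n1; omega) (hx ▸ h1 : n * _ ∣ n * m)

theorem reg {t i : ℕ} {x : G} (hx : cs x = n) (ho : orderOf x = t ^ i) : Reg t m 𝐂[x] :=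
  fun w hw wc => by
  have hc := CA.mem_cent.mp w.2
  have hco : (orderOf x).Coprime (orderOf (w : G)) := by
    rw [ho, orderOf_coe]; exact (hw.pow_right i).symm
  have hI : cs (x * w) = n * cs w := by
    rw [cs, H9.centralizer_mul_of_coprime hc hco, cs, H9.centralizer_coe_subgroupOf,
      ← relIndex_mul_index (inf_le_left (a := 𝐂[x])), inf_relIndex_left, mul_comm]
    congr 1
  have h0 : 0 < n := by have := h.n1; omega
  rcases h.typ _ (h.ncen (hI ▸ dvd_mul_right n _)) with e | e | e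
  · exact absurd (cs_eq_one.mp (Nat.eq_of_mul_eq_mul_left h0
      (hI.symm.trans (e.trans (mul_one n).symm)))) wc
  · exact absurd (e ▸ hI ▸ dvd_mul_right n _) h.nm
  · exact Nat.eq_of_mul_eq_mul_left h0 (hI.symm.trans e)

theorem primary {x : G} (hx : cs x = n) : ∃ (q i : ℕ) (y : G), q.Prime ∧ orderOf y = q ^ i ∧
    𝐂[y] = 𝐂[x] := by
  obtain ⟨q, i, y, hq, hy, hyo, yc⟩ := H8.exists_primePow_not_mem (h.ncen hx.symm.dvd)
  exact ⟨q, i, y, hq, hyo, h.max_n hx yc (H9.centralizer_le_of_mem_zpowers hy)⟩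

theorem core {q i : ℕ} (hq : q.Prime) (hqn : ¬ q ∣ n) {x : G} (hx : cs x = n)
    (ho : orderOf x = q ^ i) {M : Subgroup G} [hM : M.Normal] (M1 : M ≠ ⊥) (hd : 𝐨(M) ∣ n)
    (hMx : ∀ a ∈ M, a ∈ 𝐂[x] → a = 1) : False := by
  obtain ⟨p, hp, hpM⟩ := Nat.exists_prime_and_dvd (fun e => M1 (card_eq_one.mp e))
  have := Fact.mk hp
  have hpn := hpM.trans hd
  have hpq : p ≠ q := fun e => hqn (e ▸ hpn)
  have hv : ∀ P : Sylow p G, ∃ v, v ∈ M ∧ v ≠ 1 ∧ (P : Subgroup G) ≤ 𝐂[v] ∧ cs v = m ∧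
      ∃ j, orderOf v = p ^ j := fun P => by
    have := P.isPGroup'.isNilpotent
    have h1 : (P : Subgroup G) ⊓ M ≠ ⊥ := fun e => by
      obtain ⟨a, ha, a1, hao⟩ := exists_prime_elt hp hpM
      obtain ⟨g, hg⟩ := exists_conj_mem_of_not_dvd_index hao P.not_dvd_index
      exact conj_ne_one a1 g (mem_bot.mp (e ▸ ⟨hg, hM.conj_mem a ha g⟩))
    obtain ⟨⟨v, hv⟩, v1⟩ := (ne_bot_iff_exists_ne_one).mp (L.inf_centralizer_ne_bot_of_isNilpotent
      (N := (P : Subgroup G) ⊓ M) inf_le_left (H1.le_normalizer_inf le_normalizer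
        le_normalizer_of_normal) h1)
    have v1 : v ≠ 1 := fun e => v1 (Subtype.ext e)
    have h2 : (P : Subgroup G) ≤ 𝐂[v] := fun a ha =>
      CA.mem_cent.mpr (show Commute a v from hv.2 a ha).symm
    have h3 : ¬ p ∣ cs v := H9.not_dvd_index_iff_exists_sylow_le.mpr ⟨P, h2⟩
    refine ⟨v, hv.1.2, v1, h2, ?_, H7.exists_orderOf_eq_pow_of_mem P.isPGroup' hv.1.1⟩
    rcases h.typ v fun e => v1 (hMx v hv.1.2 (H8.center_le_cent x e)) with e | e | e
    exacts [absurd (e ▸ hpn) h3, e, absurd (e ▸ hpn.mul_right m) h3]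
  by_cases hN : NC p 𝐂[x]
  · obtain ⟨u, hu, uc, j, huo⟩ := hN
    obtain ⟨P, hP⟩ := (H8.isPGroup_zpowers_of_orderOf huo).exists_le_sylow
    obtain ⟨v, hvM, v1, hPv, hvm, -⟩ := hv P
    have huv : v ∈ 𝐂[u] := H8.mem_cent_comm.mp (hPv (hP (mem_zpowers u)))
    have hux := H8.mem_cent_comm.mp hu
    have hco := Rk3.cop hp hq hpq huo ho
    rcases h.typ u uc with e | e | e
    · refine v1 (hMx v hvM (le_of_normal_of_coprime_index (G := 𝐂[u]) (M := M.subgroupOf 𝐂[u])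
        (C := (𝐂[x]).subgroupOf 𝐂[u]) ?_ (show (⟨v, huv⟩ : 𝐂[u]) ∈ _ from hvM)))
      refine Nat.Coprime.coprime_dvd_left ?_ (Nat.Coprime.coprime_dvd_right
        (h.rel_dvd e (H9.centralizer_mul_of_coprime (CA.mem_cent.mp hux) hco)) h.cop)
      exact (card_comap_dvd_of_injective M _ (subtype_injective _)).trans hd
    · have h1 : u ∈ (𝐂[x]).normalCore := fun g => CA.mem_cent.mpr (by
        simpa using commute_conj_of_coprime (x := x) (w := u) (hx ▸ e ▸ h.cop) (g₀ := 1) (h₀ := 1)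
          (by simpa using CA.mem_cent.mp hu) 1 g)
      have h2 : 𝐂[u * v] = 𝐂[u] ⊓ 𝐂[v] := by
        refine le_antisymm (fun r hr => ?_) fun r hr =>
          CA.mem_cent.mpr ((CA.mem_cent.mp hr.1).mul_left (CA.mem_cent.mp hr.2))
        have e1 := (CA.mem_cent.mp hr).eq
        have e2 : u⁻¹ * (r * u * r⁻¹) = v * (r * v⁻¹ * r⁻¹) := by
          calc _ = u⁻¹ * (r * (u * v)) * v⁻¹ * r⁻¹ := by group
            _ = _ := by rw [← e1]; group
        have e3 := hMx _ (e2 ▸ mul_mem hvM (hM.conj_mem _ (inv_mem hvM) r)) (normalCore_le _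
          (mul_mem (inv_mem h1) ((inferInstance : (𝐂[x]).normalCore.Normal).conj_mem _ h1 r)))
        refine ⟨CA.mem_cent.mpr ?_, CA.mem_cent.mpr ?_⟩
        · rw [inv_mul_eq_one, eq_comm, mul_inv_eq_iff_eq_mul] at e3
          exact e3.symm
        · rw [e2] at e3
          calc v * r = v * (r * v⁻¹ * r⁻¹) * (r * v) := by group
            _ = r * v := by rw [e3, one_mul]
      obtain ⟨g, hg⟩ := exists_conj_rel hq ho hux fun e' => hqn (e'.trans (h.symm.rel_dvd e h2))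
      have h3 := conj_mem_cent (H8.mem_cent_comm.mp hg) g⁻¹
      refine conj_ne_one v1 g⁻¹ (hMx _ (hM.conj_mem v hvM _) ?_)
      simpa [mul_assoc] using h3
    · exact v1 (hMx v hvM (h.le_of_nm e hux hco huv))
  obtain ⟨P⟩ : Nonempty (Sylow p G) := inferInstance
  obtain ⟨v, hvM, v1, -, hvm, j, hvo⟩ := hv P
  have vc := h.symm.ncen hvm.symm.dvd
  have h1 : ∀ g ∈ 𝐂[v], g ∉ center G → cs g = m := fun g hg gc => by
    have h2 : ¬ n ∣ cs g := fun e =>
      hN (nc_of_dvd' hp (hx ▸ e) ⟨v, H8.mem_cent_comm.mp hg, vc, j, hvo⟩)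
    rcases h.typ g gc with e | e | e
    exacts [absurd e.symm.dvd h2, e, absurd (e ▸ dvd_mul_right n m) h2]
  have h2 : 𝐂[x] ⊓ 𝐂[v] ≤ center G := fun g hg => by
    by_contra gc
    obtain ⟨r, k, a, hr, ha, hao, ac⟩ := H8.exists_primePow_not_mem gc
    have ha' := zpowers_le.mpr hg ha
    have hpr : p ≠ r := fun e => hN ⟨a, ha'.1, ac, k, e ▸ hao⟩
    have hc := CA.mem_cent.mp ha'.2
    have hco := Rk3.cop hp hr hpr hvo hao
    have e := H9.centralizer_mul_of_coprime hc hco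
    have e' := H8.eq_of_le_of_index_eq (e ▸ inf_le_left : 𝐂[v * a] ≤ 𝐂[v])
      ((h1 _ (mul_mem (H8.mem_cent_self v) ha'.2) (H8.MNHyp.not_mem_mul vc hc hco)).trans hvm.symm)
    have e'' := h.symm.max_n hvm ac (by rw [← e', e]; exact inf_le_right)
    exact v1 (hMx v hvM (H8.mem_cent_comm.mp (e'' ▸ H8.mem_cent_comm.mp ha'.1)))
  obtain ⟨w, hw⟩ := h.exnm
  have h3 := H8.eq_of_le_of_index_eq (h2.trans (H8.center_le_cent w)) (by
    rw [H9.index_inf_of_coprime (hx ▸ hvm ▸ h.cop : (cs x).Coprime (cs v))]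
    exact (congrArg₂ _ hx hvm).trans hw.symm)
  exact h.ncen (hw ▸ dvd_mul_right n m) (h2 (h3 ▸ H8.mem_cent_self w))

theorem comm_of_eq {q i : ℕ} (hq : q.Prime) (hqn : ¬ q ∣ n) {x y : G} (hx : cs x = n)
    (ho : orderOf x = q ^ i) (hy : cs y = m) (e : cs (y * x) = n) : Commute x y := by
  obtain ⟨M, hM, h1, h2, h3⟩ := classStab x
  by_contra hn
  refine h.core hq hqn hx ho (M := M) (fun e' => hn ?_) (hx ▸ h1) fun a ha hax => ?_
  · have := h3 y (hx ▸ hy ▸ h.cop.symm) (e.trans hx.symm) x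
    rw [e', mem_bot, inv_mul_eq_one, eq_comm, mul_inv_eq_iff_eq_mul] at this
    exact this
  · obtain ⟨g, hg⟩ := isConj_iff.mp (h2 a ha)
    have h4 := (CA.mem_cent.mp hax).symm.orderOf_mul_eq_mul_orderOf_of_coprime (by
      rw [ho]
      exact (Nat.Coprime.coprime_dvd_left ((M.orderOf_dvd_natCard ha).trans (hx ▸ h1))
        ((hq.coprime_iff_not_dvd.mpr hqn).symm)).pow_right i)
    rw [← hg, H8.orderOf_conj'] at h4
    exact orderOf_eq_one_iff.mp (Nat.eq_of_mul_eq_mul_right (orderOf_pos x)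
      (h4.symm.trans (one_mul _).symm))

theorem comm {x y : G} (hx : cs x = n) (hy : cs y = m) : Commute x y := by
  obtain ⟨q, i, x, hq, ho, e⟩ := h.primary hx
  obtain ⟨p, j, y, hp, ho', e'⟩ := h.symm.primary hy
  replace hx : cs x = n := by rw [cs, e]; exact hx
  replace hy : cs y = m := by rw [cs, e']; exact hy
  rw [← CA.mem_cent, ← e, H8.mem_cent_comm, ← e', CA.mem_cent]
  have := Fact.mk hq
  have := Fact.mk hp
  have hc : (cs x).Coprime (cs y) := hx ▸ hy ▸ h.cop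
  by_cases hqm : q ∣ m
  swap
  · simpa using (commute_conj_of_primePow ho (hy ▸ hqm : ¬ q ∣ cs y) hc 1 1).symm
  by_cases hpn : p ∣ n
  swap
  · simpa using commute_conj_of_primePow ho' (hx ▸ hpn : ¬ p ∣ cs x) hc.symm 1 1
  by_cases hz : y * x ∈ center G
  · exact mul_left_cancel (a := y) (by rw [mem_center_iff.mp hz y, mul_assoc])
  rcases h.typ _ hz with e1 | e1 | e1
  · exact (h.comm_of_eq hq (h.symm.nd hq hqm) hx ho hy e1).symm
  · refine h.symm.comm_of_eq hp (h.nd hp hpn) hy ho' hx ?_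
    rw [← e1, ← cs_conj y]
    congr 1
    group
  · have h1 := H8.eq_of_le_of_index_eq (A := 𝐂[x] ⊓ 𝐂[y]) (B := 𝐂[y * x]) (fun r hr =>
      CA.mem_cent.mpr ((CA.mem_cent.mp hr.2).mul_left (CA.mem_cent.mp hr.1))) (by
        rw [H9.index_inf_of_coprime hc]
        exact (congrArg₂ _ hx hy).trans e1.symm)
    have := (CA.mem_cent.mp (h1.ge (H8.mem_cent_self _)).2).eq
    exact mul_left_cancel (a := y) (by rw [this, mul_assoc])

theorem pow_of_ne {q i s j : ℕ} (hq : q.Prime) (hqm : q ∣ m) {x y : G} (hx : cs x = n)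
    (ho : orderOf x = q ^ i) (hs : s.Prime) (hy : cs y = m) (ho' : orderOf y = s ^ j) (hqs : q ≠ s) :
    ∃ a, n = s ^ a := by
  have r1 := h.symm.reg hy ho'
  rcases r1.dich hs with ⟨r, -, -, h1⟩ | h1
  swap
  · exact h1
  have hxy : x ∈ 𝐂[y] := CA.mem_cent.mpr (h.comm hx hy).symm
  have h2 : NC q (⊤ : Subgroup 𝐂[y]) := by
    by_contra hn
    exact h.nm (hx ▸ hy ▸ cs_dvd (le_cent_of_not_nc hn hxy ho))
  obtain ⟨w, -, wc, k, hwo⟩ := id h2
  have h3 := r1 w (cop' hq hs hqs hwo) wc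
  refine ⟨_, Nat.eq_prime_pow_of_unique_prime_dvd (by have := h.n1; omega) fun {l} hl hd => ?_⟩
  by_contra hls
  have hqr : q = r := by
    by_contra e
    exact h1 q hq hqs e h2
  exact h1 l hl hls (fun e => h.nd hl hd (e ▸ hqr ▸ hqm)) (nc_of_dvd_cs hl (h3 ▸ hd : l ∣ cs w))

theorem le_of_not_nc {l : ℕ} (hl : l.Prime) (hd : l ∣ m) {x : G} (hx : cs x = n)
    (hn : ¬ NC l (⊤ : Subgroup 𝐂[x])) : ∃ (u : G) (k : ℕ), orderOf u = l ^ k ∧ cs u = n := by
  have := Fact.mk hl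
  obtain ⟨y, hy⟩ := h.exm
  obtain ⟨u, -, uc, k, ho⟩ := nc_of_dvd_cs hl (hy ▸ hd : l ∣ cs y)
  obtain ⟨g, hg⟩ := exists_conj_mem_of_not_dvd_index ho (hx ▸ h.symm.nd hl hd : ¬ l ∣ cs x)
  have ho' := (H8.orderOf_conj' g u).trans ho
  refine ⟨_, k, ho', ?_⟩
  rw [cs, h.max_n hx (H6.conj_not_mem_center uc g) (le_cent_of_not_nc hn hg ho')]
  exact hx

theorem not_dvd {q i : ℕ} (hq : q.Prime) {x : G} (hx : cs x = n) (ho : orderOf x = q ^ i) :
    ¬ q ∣ m := fun hqm => by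
  have hqn := h.symm.nd hq hqm
  obtain ⟨y, hy⟩ := h.exm
  obtain ⟨p, hp, a, ha⟩ : ∃ p, p.Prime ∧ ∃ a, n = p ^ a := by
    obtain ⟨s, j, y, hs, ho', e⟩ := h.symm.primary hy
    rw [cs, ← e] at hy
    by_cases hqs : q = s
    swap
    · exact ⟨s, hs, h.pow_of_ne hq hqm hx ho hs hy ho' hqs⟩
    subst hqs
    rcases (h.symm.reg hy ho').dich hq with ⟨r, hr, -, h1⟩ | h1
    swap
    · exact ⟨q, hq, h1⟩
    rcases exists_prime_or_pow (p := r) (n := n) (by have := h.n1; omega) with ⟨l, hl, hrl, hd⟩ | h2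
    · have hql : q ≠ l := fun e => hqn (e ▸ hd)
      obtain ⟨u, k, huo, hu⟩ := h.symm.le_of_not_nc hl hd hy (h1 l hl hql.symm hrl.symm)
      exact ⟨l, hl, h.pow_of_ne hq hqm hx ho hl hu huo hql⟩
    · exact ⟨r, hr, h2⟩
  have := Fact.mk hp
  have := Fact.mk hq
  have hpn : p ∣ n := ha ▸ dvd_pow_self p fun e => h.n1.ne' (by rw [ha, e, pow_zero])
  have hpq : p ≠ q := fun e => hqn (e ▸ hpn)
  obtain ⟨P, hP⟩ := H9.not_dvd_index_iff_exists_sylow_le.mp (hy ▸ h.nd hp hpn : ¬ p ∣ cs y)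
  have key : ∀ u ∈ (P : Subgroup G), ∃ g : G, g * x * g⁻¹ ∈ 𝐂[u] := fun u hu => by
    by_cases uc : u ∈ center G
    · exact ⟨1, H8.mem_cent_comm.mp (H8.center_le_cent _ uc)⟩
    rcases h.typ u uc with e | e | e
    · exact exists_conj_mem_of_not_dvd_index ho (e ▸ hqn : ¬ q ∣ cs u)
    · exact ⟨1, by simpa using CA.mem_cent.mpr (h.comm hx e).symm⟩
    obtain ⟨k, hk⟩ := H7.exists_orderOf_eq_pow_of_mem P.isPGroup' hu
    obtain ⟨R, h1, h2, h3⟩ := H1.exists_sylow_le q 𝐂[u]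
    have h4 : R ≤ 𝐂[y] := fun r hr => by
      obtain ⟨l, hl⟩ := H7.exists_orderOf_eq_pow_of_mem h2 hr
      exact H8.mem_cent_comm.mp (h.le_of_nm e (h1 hr) (Rk3.cop hp hq hpq hk hl)
        (H8.mem_cent_comm.mp (hP hu)))
    have h5 : R.relIndex 𝐂[y] = R.relIndex 𝐂[u] * n :=
      Nat.eq_of_mul_eq_mul_right (Nat.pos_of_ne_zero (cs_ne_zero y)) (by
        rw [relIndex_mul_index h4, ← relIndex_mul_index h1]
        change _ * cs u = _
        rw [e, hy, mul_assoc])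
    obtain ⟨g, hg⟩ := exists_conj_rel hq ho (CA.mem_cent.mpr (h.comm hx hy).symm) (A := R)
      fun e' => (hq.dvd_mul.mp (h5 ▸ e')).elim h3 hqn
    exact ⟨g, h1 hg⟩
  refine H9.not_dvd_index_iff_exists_sylow_le.mpr ⟨P, subgroupOf_eq_top.mp
    (H6.eq_top_of_forall_exists_conj_mem _ fun u => ?_)⟩ (hx ▸ hpn : p ∣ cs x)
  obtain ⟨g, hg⟩ := key u u.2
  obtain ⟨k, hk, e⟩ := H9.exists_sylow_conj_eq (hx.trans ha) P g
  have := conj_mem_cent (H8.mem_cent_comm.mp (e ▸ hg)) k⁻¹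
  refine ⟨⟨k, hk⟩, mem_subgroupOf.mpr ?_⟩
  simpa [mul_assoc] using this

theorem exists_pow : ∃ q, q.Prime ∧ ∃ j, m = q ^ j := by
  obtain ⟨x, hx⟩ := h.exn
  obtain ⟨t, i, x, ht, ho, e⟩ := h.primary hx
  rw [cs, ← e] at hx
  rcases (h.reg hx ho).dich ht with ⟨r, hr, -, h1⟩ | h1
  swap
  · exact ⟨t, ht, h1⟩
  refine ⟨r, hr, _, Nat.eq_prime_pow_of_unique_prime_dvd (by have := h.m1; omega)
    fun {l} hl hd => ?_⟩
  by_contra hlr
  obtain ⟨u, k, huo, hu⟩ := h.le_of_not_nc hl hd hx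
    (h1 l hl (fun e => h.not_dvd ht hx ho (e ▸ hd)) hlr)
  exact h.not_dvd hl hu huo hd

theorem npc_of_not_dvd {p : ℕ} [Fact p.Prime] (hn : ¬ p ∣ n * m) (P : Sylow p G) :
    (P : Subgroup G) ≤ center G :=
  sylow_le_center_of_not_dvd_class (fun x e => hn (e.trans (h.dvd x))) P

theorem npc {p : ℕ} [hp : Fact p.Prime] (hn : p ∣ n) : HasNormalPComplement p G := by
  obtain ⟨q, hq, a, ha⟩ := h.symm.exists_pow
  have : p = q := (Nat.prime_dvd_prime_iff_eq hp.out hq).mp (hp.out.dvd_of_dvd_pow (ha ▸ hn))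
  subst this
  obtain ⟨x, hx⟩ := h.exn
  obtain ⟨t, i, x, ht, ho, e⟩ := h.primary hx
  rw [cs, ← e] at hx
  refine S4127.result p a (fun y hy => ?_) ⟨x, ⟨i, ?_⟩, hx.trans ha⟩
  · have h1 := hy.trans (h.dvd y)
    rw [ha, pow_succ] at h1
    exact h.nd hq hn (Nat.dvd_of_mul_dvd_mul_left (pow_pos hq.pos a) h1)
  · have := Fact.mk ht
    by_contra hne
    obtain ⟨T, hT⟩ := (H8.isPGroup_zpowers_of_orderOf ho).exists_le_sylow
    refine h.ncen hx.symm.dvd (h.npc_of_not_dvd (fun hd => (ht.dvd_mul.mp hd).elim (fun hd => ?_)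
      (h.not_dvd ht hx ho)) T (hT (mem_zpowers x)))
    exact hne ((Nat.prime_dvd_prime_iff_eq ht hq).mp (ht.dvd_of_dvd_pow (ha ▸ hd)) ▸ ho)

theorem nilpotent : Group.IsNilpotent G := by
  refine H8.isNilpotent_of_forall_hasNPC fun p hp _ => ?_
  have := Fact.mk hp
  by_cases hn : p ∣ n * m
  · exact (hp.dvd_mul.mp hn).elim h.npc h.symm.npc
  obtain ⟨P⟩ : Nonempty (Sylow p G) := inferInstance
  exact H8.hasNPC_of_normalizer_le_centralizer P fun g _ y hy =>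
    (mem_center_iff.mp (h.npc_of_not_dvd hn P hy) g).symm

theorem isPrimePow : IsPrimePow m := by
  obtain ⟨q, hq, j, e⟩ := h.exists_pow
  exact (isPrimePow_nat_iff m).mpr ⟨q, j, hq, Nat.pos_of_ne_zero fun e' =>
    h.m1.ne' (by rw [e, e', pow_zero]), e.symm⟩

end T4

end Cfsg.Agent.H7.Rk2
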