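import Cfsg.Agent.H2.PushUp
import Cfsg.Agent.FT.BG01
import Cfsg.Agent.FT.B.helper1_Core

/-! Reduced elementary abelian 2-subgroups, Thompson factorization for `S₃`-free groups. -/

set_option autoImplicit false
set_option linter.unusedSectionVars false

namespace Cfsg.Agent.H7.SC

open Subgroup Cfsg Cfsg.Agent Cfsg.Agent.FT
open scoped commutatorElement Pointwise

universe u

variable {G : Type u} [Group G] [Finite G]

/-- `O₂(L / C_L(V)) = 1`. -/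
def Red (L V : Subgroup G) : Prop :=
  ∀ K : Subgroup G, K ⊲ L → (∀ k ∈ K, ∃ n : ℕ, k ^ 2 ^ n ∈ 𝐂(V)) → K ≤ 𝐂(V)

theorem le_sup_syl {K C T : Subgroup G} (hn : K ≤ 𝐍(C)) (hT : IsSyl 2 T K)
    (h : ∀ k ∈ K, ∃ n : ℕ, k ^ 2 ^ n ∈ C) : K ≤ T ⊔ C := by
  have hN := H1.normal_subgroupOf_of_le (H1.le_normalizer_inf hn (le_norm_self K))
  have h1 := hT.bar (Y := K) (N := C ⊓ K) Nat.prime_two le_rfl
  have h2 : IsPGroup 2 (H1.bar K (C ⊓ K) K) := by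
    rintro ⟨z, hz⟩
    obtain ⟨y, hy, rfl⟩ := H1.mem_bar.1 hz
    obtain ⟨n, hn'⟩ := h y hy
    refine ⟨n, Subtype.ext ?_⟩
    change H1.qmk K (C ⊓ K) y ^ 2 ^ n = 1
    rw [← map_pow, H1.qmk_eq_one_iff]
    exact ⟨hn', pow_mem hy _⟩
  have h3 := h1.eq_of_le Nat.prime_two h1.le le_rfl h2
  exact ((H1.bar_le_bar_iff inf_le_right le_rfl hT.le).1 h3.le).trans
    (sup_le_sup_left inf_le_left _)

theorem le_of_syl_le {K C T : Subgroup G} (hn : K ≤ 𝐍(C)) (hT : IsSyl 2 T K) (hTC : T ≤ C)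
    (h : ∀ k ∈ K, ∃ n : ℕ, k ^ 2 ^ n ∈ C) : K ≤ C :=
  (le_sup_syl hn hT h).trans (sup_le hTC le_rfl)

theorem Red.up {S L L' V : Subgroup G} (h : Red L V) (hS : IsSyl 2 S L') (hSL : S ≤ L)
    (hL : L ≤ L') (hn : L' ≤ 𝐍(V)) : Red L' V := by
  intro K hK hk
  have h1 := h (K ⊓ L) (inf_normal hK hL) fun k hk' => hk k hk'.1
  exact le_of_syl_le (hK.1.trans (H1.le_normalizer_centralizer hn))
    (hS.inf_normal Nat.prime_two hK) (le_trans (le_inf inf_le_right (inf_le_left.trans hSL)) h1) hk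

theorem Red.down {L L' V : Subgroup G} (h : Red L V) (hL : L' ≤ L) (hn : L ≤ 𝐍(V))
    (hf : L ≤ (L ⊓ 𝐂(V)) ⊔ L') : Red L' V := by
  intro K hK hk
  have hC : L ≤ 𝐍(L ⊓ 𝐂(V)) :=
    H1.le_normalizer_inf (le_norm_self L) (H1.le_normalizer_centralizer hn)
  refine le_sup_left.trans (h (K ⊔ (L ⊓ 𝐂(V))) ⟨sup_le (hK.1.trans hL) inf_le_left, hf.trans
    (sup_le (le_sup_right.trans (le_norm_self _))
      (H1.le_normalizer_sup hK.2 (hL.trans hC)))⟩ fun x hx => ?_)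
  obtain ⟨a, ha, c, hc, rfl⟩ := (H1.mem_sup_iff_of_le_normalizer ((hK.1.trans hL).trans hC)).1 hx
  obtain ⟨n, hn'⟩ := hk a ha
  obtain ⟨t, ht, e⟩ := H2.exists_mul_pow_eq_of_le_normalizer ((hK.1.trans hL).trans hC) ha hc (2 ^ n)
  exact ⟨n, e ▸ mul_mem hn' ht.2⟩

theorem map_mem_cent_iff {H : Type*} [Group H] (f : G →* H) {V : Subgroup G}
    (hf : f.ker ⊓ V = ⊥) {x : G} (hx : x ∈ 𝐍(V)) : f x ∈ 𝐂(V.map f) ↔ x ∈ 𝐂(V) := by
  refine ⟨fun h v hv => ?_, fun h => ?_⟩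
  · have h1 : v * (x * v⁻¹ * x⁻¹) ∈ f.ker ⊓ V := by
      refine ⟨?_, mul_mem hv ((mem_normalizer_iff.1 hx _).1 (inv_mem hv))⟩
      have := h _ (mem_map_of_mem f hv)
      refine MonoidHom.mem_ker.2 ?_
      simp only [map_mul, map_inv]
      rw [← mul_assoc, ← mul_assoc, this]
      group
    rw [hf, mem_bot] at h1
    calc v * x = v * (x * v⁻¹ * x⁻¹) * (x * v) := by group
      _ = _ := by rw [h1, one_mul]
  · rintro _ ⟨v, hv, rfl⟩
    rw [← map_mul, ← map_mul, h v hv]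

theorem red_map_iff {H : Type u} [Group H] [Finite H] (f : G →* H) {L V : Subgroup G}
    (hf : f.ker ⊓ V = ⊥) (hn : L ≤ 𝐍(V)) : Red (L.map f) (V.map f) ↔ Red L V := by
  refine ⟨fun h K hK hk x hx => ?_, fun h K hK hk => ?_⟩
  · refine (map_mem_cent_iff f hf (hn (hK.1 hx))).1 (h (K.map f) ⟨map_mono hK.1, ?_⟩ ?_
      (mem_map_of_mem f hx))
    · exact (map_mono hK.2).trans (le_normalizer_map f)
    · rintro _ ⟨k, hk', rfl⟩
      obtain ⟨n, hn'⟩ := hk k hk'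
      exact ⟨n, by
        rw [← map_pow]
        exact (map_mem_cent_iff f hf (hn (hK.1 (pow_mem hk' _)))).2 hn'⟩
  · have h1 := h (L ⊓ K.comap f) ⟨inf_le_left, H1.le_normalizer_inf (le_norm_self L)
      ((map_le_iff_le_comap.1 hK.2).trans (le_normalizer_comap f))⟩ fun k hk' => by
        obtain ⟨n, hn'⟩ := hk _ hk'.2
        rw [← map_pow] at hn'
        exact ⟨n, (map_mem_cent_iff f hf (hn (pow_mem hk'.1 _))).1 hn'⟩
    intro y hy
    obtain ⟨x, hx, rfl⟩ := hK.1 hy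
    exact (map_mem_cent_iff f hf (hn hx)).2 (h1 ⟨hx, hy⟩)

theorem Red.nf {L V B : Subgroup G} (h : Red L V) (hno : H2.NoS3 L) (hs : Group.IsSolvable L)
    (hV : IsElementaryAbelian 2 V) (hn : L ≤ 𝐍(V)) (hB : B ≤ L) (hBp : IsPGroup 2 B) :
    H2.NF B V := by
  intro A hA h1 h2
  have hN := H1.normal_subgroupOf_of_le (H1.le_normalizer_centralizer hn)
  refine hno.relIndex_sq_le hV hn (H1.qmk L 𝐂(V)) H1.qmk_surjective
    (fun m => H1.qmk_eq_one_iff) (Agent.L.coprime_card_pPrimeCore 2)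
    (Agent.L.centralizer_pPrimeCore_le Nat.prime_two
      (Agent.L.isPSolvable_of_isSolvable Nat.prime_two) ?_)
    A (hA.trans hB) (hBp.to_le hA) h1 h2
  have h3 := h (H1.unbar L 𝐂(V) (pCore 2 _)) ⟨H1.unbar_le _, H1.le_normalizer_unbar_of_normal _⟩
    fun k hk => by
      obtain ⟨hk1, hk2⟩ := H1.mem_unbar.1 hk
      obtain ⟨n, hn'⟩ := Agent.L.isPGroup_pCore 2 ⟨_, hk2⟩
      refine ⟨n, (H1.qmk_eq_one_iff (y := (⟨k, hk1⟩ : L) ^ 2 ^ n)).1 ?_⟩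
      rw [map_pow]
      exact congrArg Subtype.val hn'
  rw [← H1.bar_unbar (pCore 2 _), H1.bar_eq_bot_iff (H1.unbar_le _)]
  exact h3

theorem nf_map {H : Type u} [Group H] [Finite H] (f : G →* H) {S V : Subgroup G}
    (hf : f.ker ⊓ S = ⊥) (hV : V ≤ S) (h : H2.NF S V) : H2.NF (S.map f) (V.map f) := by
  have key : ∀ A ≤ S, ∀ x ∈ S, f x ∈ 𝐂(A.map f) ↔ x ∈ 𝐂(A) := fun A hA x hx => by
    refine ⟨fun h a ha => ?_, fun h => ?_⟩
    · refine H5.injOn_of_ker_inf_eq_bot f hf (mul_mem (hA ha) hx) (mul_mem hx (hA ha)) ?_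
      rw [map_mul, map_mul]
      exact h _ (mem_map_of_mem f ha)
    · rintro _ ⟨v, hv, rfl⟩
      rw [← map_mul, ← map_mul, h v hv]
  have key2 : ∀ A ≤ S, ∀ B ≤ S, 𝐂(A.map f).relIndex (B.map f) = 𝐂(A).relIndex B :=
    fun A hA B hB => by
      rw [← relIndex_comap, ← inf_relIndex_right, ← inf_relIndex_right 𝐂(A)]
      congr 1
      ext x
      exact ⟨fun h => ⟨(key A hA x (hB h.2)).1 h.1, h.2⟩, fun h => ⟨(key A hA x (hB h.2)).2 h.1, h.2⟩⟩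
  intro A' hA' h1 h2
  obtain ⟨A, hA, rfl⟩ : ∃ A ≤ S, A.map f = A' :=
    ⟨A'.comap f ⊓ S, inf_le_right, H5.map_comap_inf_eq f hA'⟩
  rw [key2 V hV A hA, key2 A hA V hV]
  refine h A hA (fun x hx => (key V hV x ((der_le A).trans hA hx)).1 (h1 ?_)) fun a ha =>
    (key V hV _ (pow_mem (hA ha) 2)).1 ?_
  · rw [← map_commutator]
    exact mem_map_of_mem f hx
  · rw [map_pow]
    exact h2 _ (mem_map_of_mem f ha)

/-- Solvable, of characteristic two, `S₃`-free. -/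
structure Ch (M : Type u) [Group M] : Prop where
  sol : Group.IsSolvable (⊤ : Subgroup M)
  ch : ⊤ ⊓ 𝐂(pCoreOf 2 (⊤ : Subgroup M)) ≤ pCoreOf 2 ⊤
  no : H2.NoS3 (⊤ : Subgroup M)

theorem Ch.mon (hM : Ch G) {S L V : Subgroup G} (hS : IsSyl 2 S ⊤) (hSL : S ≤ L)
    (hV : IsElementaryAbelian 2 V) (h : Red L V) :
    H2.nclIn ⊤ V ≤ pCoreOf 2 ⊤ ∧ IsElementaryAbelian 2 (H2.nclIn ⊤ V) ∧ Red ⊤ (H2.nclIn ⊤ V) := by
  have hR := pCoreOf_normal 2 (⊤ : Subgroup G)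
  have h1 : pCoreOf 2 (⊤ : Subgroup G) ≤ 𝐂(V) :=
    h _ ⟨(hS.pCoreOf_le Nat.prime_two).trans hSL, le_top.trans hR.2⟩ fun k hk => by
      obtain ⟨n, hn⟩ := H2.isPGroup_pCoreOf 2 (⊤ : Subgroup G) ⟨k, hk⟩
      exact ⟨n, by rw [show k ^ 2 ^ n = 1 from congrArg Subtype.val hn]; exact one_mem _⟩
  have h2 : V ≤ 𝐙(pCoreOf 2 (⊤ : Subgroup G)) :=
    le_inf ((le_inf le_top (cent_comm.1 h1)).trans hM.ch) (cent_comm.1 h1)
  have h3 : H2.nclIn ⊤ V ≤ omegaOne 2 𝐙(pCoreOf 2 (⊤ : Subgroup G)) :=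
    H2.nclIn_le_of_normal (le_omegaOne_of_elemAb h2 hV)
      (hR.2.trans ((norm_le_norm_center _).trans (norm_le_norm_omegaOne _ 2)))
  refine ⟨h3.trans ((omegaOne_le _ _).trans inf_le_left),
    elemAb_of_le h3 (elemAb_omegaOne (isMulComm_center _)), fun K hK hk => ?_⟩
  have hc : 𝐂(H2.nclIn ⊤ V) ≤ 𝐂(V) := cent_anti (H2.le_nclIn _ _)
  have h4 := h (K ⊓ L) (inf_normal hK le_top) fun k hk' => (hk k hk'.1).imp fun n hn => hc hn
  have h5 : S ⊓ K ≤ 𝐂(V) := le_trans (le_inf inf_le_right (inf_le_left.trans hSL)) h4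
  have hn : ⊤ ≤ 𝐍(H2.nclIn ⊤ V) := H2.le_normalizer_nclIn _ _
  have h7 : K ≤ 𝐂(V) := (le_sup_syl (le_top.trans (H1.le_normalizer_centralizer hn))
    (hS.inf_normal Nat.prime_two hK) hk).trans (sup_le h5 hc)
  rw [cent_comm]
  exact H2.nclIn_le_of_normal (cent_comm.1 h7) (H1.le_normalizer_centralizer hK.2)

/-- `Ω₁(Z(T))`. -/
abbrev oz (T : Subgroup G) : Subgroup G := omegaOne 2 𝐙(T)

/-- The Thompson subgroup. -/
abbrev jj (T : Subgroup G) : Subgroup G := thompsonSubgroupOf 2 T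

theorem oz_le (T : Subgroup G) : oz T ≤ T := (omegaOne_le _ _).trans inf_le_left

theorem le_cent_oz (T : Subgroup G) : T ≤ 𝐂(oz T) :=
  cent_comm.1 ((omegaOne_le _ _).trans inf_le_right)

theorem elemAb_oz (T : Subgroup G) : IsElementaryAbelian 2 (oz T) :=
  elemAb_omegaOne (isMulComm_center _)

theorem norm_le_norm_oz (T : Subgroup G) : 𝐍(T) ≤ 𝐍(oz T) :=
  (norm_le_norm_center _).trans (norm_le_norm_omegaOne _ 2)

theorem oz_ne_bot {T : Subgroup G} (hT : IsPGroup 2 T) (h : T ≠ ⊥) : oz T ≠ ⊥ :=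
  omegaOne_ne_bot Nat.prime_two (prime_dvd_card_of_isPGroup Nat.prime_two (hT.to_le inf_le_left)
    (center_ne_bot (isNilpotent_of_isPGroup Nat.prime_two hT) h))

theorem red_oz (T : Subgroup G) : Red T (oz T) := fun _ hK _ => hK.1.trans (le_cent_oz T)

theorem jj_le_cent {S V : Subgroup G} (h : H2.NF S V) (hVS : V ≤ S)
    (hV : IsElementaryAbelian 2 V) : jj S ≤ 𝐂(V) := by
  rw [jj, H5.thompsonSubgroupOf_eq_sSup]
  exact sSup_le fun A hA => (isMulComm_iff_le_cent.1 hA.2.1.1).trans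
    (cent_anti (h.le_of_mem_elemMax hVS hV hA))

/-- Thompson factorization. -/
theorem Ch.tf (hM : Ch G) {T : Subgroup G} (hT : IsSyl 2 T ⊤) :
    ⊤ ≤ 𝐂(oz T) ⊔ 𝐍(jj T) := by
  obtain ⟨h1, h2, h3⟩ := hM.mon hT le_rfl (elemAb_oz T) (red_oz T)
  have hn : ⊤ ≤ 𝐍(H2.nclIn ⊤ (oz T)) := H2.le_normalizer_nclIn _ _
  have h4 := jj_le_cent (h3.nf hM.no hM.sol h2 hn le_top hT.pgrp)
    (h1.trans (hT.pCoreOf_le Nat.prime_two)) h2
  have h5 : 𝐂(H2.nclIn ⊤ (oz T)) ⊲ ⊤ := ⟨le_top, H1.le_normalizer_centralizer hn⟩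
  rw [← (hT.inf_normal Nat.prime_two h5).frattini Nat.prime_two h5]
  refine sup_le_sup (cent_anti (H2.le_nclIn _ _)) (inf_le_right.trans ?_)
  rw [jj, ← H5.thompsonSubgroupOf_eq_of_le inf_le_left (le_inf (H5.thompsonSubgroupOf_le T) h4)]
  exact H5.normalizer_le_normalizer_thompsonSubgroupOf _

end Cfsg.Agent.H7.SC
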