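import Cfsg.Agent.H2.PushUp

/-! Pushing up (a variant of `H2.pushUp_elemMax_le` with a prescribed conjugating element). -/

set_option autoImplicit false
set_option linter.unusedSectionVars false

namespace Cfsg.Agent.H7.SC

open Subgroup Cfsg Cfsg.Agent Cfsg.Agent.H2
open scoped Pointwise commutatorElement

variable {G : Type*} [Group G] [Finite G]

theorem exists_two_conj' {H : Type*} [Group H] [Finite H] (f : G →* H)
    (hf : Function.Surjective f) {N : Subgroup H} [hNn : N.Normal] (hN : (Nat.card N).Coprime 2)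
    {A : Subgroup G} (hAe : IsElementaryAbelian 2 (A.map f)) {K : Subgroup H}
    (hnc : ¬ ⁅N, A.map f⁆ ≤ K) :
    ∃ x : G, ∃ B ≤ A, x ∈ pResidualOf 2 (A ⊔ MulAut.conj x • A) ∧ f x ∉ K ∧ B.relIndex A = 2 ∧
      ⁅B, A ⊔ MulAut.conj x • A⁆ ≤ f.ker := by
  set A' := A.map f with hA'
  have hA'p : IsPGroup 2 A' := isPGroup_of_elemAb hAe
  have hA0 : A' ≠ ⊥ := fun e => hnc (by rw [e, commutator_bot_right]; exact bot_le)
  have hcop : (Nat.card A').Coprime (Nat.card N) := (H1.coprime_card_of_isPGroup hA'p hN).symm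
  have hn : A' ≤ normalizer (N : Set H) := le_top.trans (normalizer_eq_top N).ge
  obtain ⟨B', hB'A, hB'i, hB'⟩ : ∃ B' : Subgroup H, B' ≤ A' ∧ B'.relIndex A' = 2 ∧
      ¬ ⁅N ⊓ centralizer (B' : Set H), A'⁆ ≤ K := by
    by_contra hcon
    push Not at hcon
    set W := sSup {D : Subgroup H | ∃ B' ≤ A', B'.relIndex A' = 2 ∧
      D = ⁅N ⊓ centralizer (B' : Set H), A'⁆} with hW
    have h1 : W ≤ K := sSup_le fun D ⟨B', a, b, e⟩ => e ▸ hcon B' a b
    have h2 : N ⊓ centralizer (A' : Set H) ≤ normalizer (W : Set H) :=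
      le_normalizer_sSup fun g hg D hD => by
        obtain ⟨B', a, b, e⟩ := id hD
        rw [mem_normalizer_iff_conj_smul.1 (e ▸ H1.le_normalizer_commutator
          ((inf_le_inf_left _ (centralizer_le (SetLike.coe_subset_coe.2 a))).trans le_normalizer)
          (H1.le_normalizer_of_le_centralizer inf_le_right) hg : g ∈ normalizer (D : Set H))]
        exact le_sSup hD
    have h3 : N ≤ H1.commStab A' W := H1.le_of_forall_hyperplane Nat.prime_two hAe hA0 hn hcop
      fun B' a b => by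
        have h4 : ⁅N ⊓ centralizer (B' : Set H), A'⁆ ≤ W := le_sSup ⟨B', a, b, rfl⟩
        refine H1.le_commStab_iff.2 ⟨?_, by rwa [commutator_comm]⟩
        rw [← H1.commutator_sup_centralizer (H1.le_normalizer_inf_centralizer_of_comm hAe.1 a hn)
          (H1.coprime_of_le hcop le_rfl inf_le_left)
          (Or.inl (H1.isSolvable_of_isPGroup hA'p))]
        exact sup_le (h4.trans le_normalizer) ((inf_le_inf_right _ inf_le_left).trans h2)
    exact hnc (by rw [commutator_comm]; exact (H1.le_commStab_iff.1 h3).2.trans h1)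
  obtain ⟨c, hc, a, ha, hy⟩ : ∃ c ∈ N ⊓ centralizer (B' : Set H), ∃ a ∈ A', ⁅c, a⁆ ∉ K := by
    by_contra hcon
    push Not at hcon
    exact hB' (commutator_le.2 hcon)
  have hnB := H1.le_normalizer_inf_centralizer_of_comm hAe.1 hB'A hn
  have hyN : ⁅c, a⁆ ∈ N ⊓ centralizer (B' : Set H) :=
    H1.commutator_le_of_le_normalizer hnB (commutator_mem_commutator hc ha)
  have haB : a ∉ B' := fun h => hy (by
    rw [commutatorElement_eq_one_iff_mul_comm.2 (hc.2 a h).symm]; exact one_mem _)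
  have ha2 : a * a = 1 := by rw [← pow_two]; exact hAe.2 a ha
  have hai : a⁻¹ = a := inv_eq_of_mul_eq_one_right ha2
  have hinv : a * ⁅c, a⁆ * a⁻¹ = ⁅c, a⁆⁻¹ := by
    rw [commutatorElement_def]
    calc _ = a * c * a * c⁻¹ * (a * a)⁻¹ := by group
      _ = a * c * a⁻¹ * c⁻¹ := by rw [ha2, hai]; group
      _ = _ := by group
  generalize ⁅c, a⁆ = y at hy hyN hinv
  have hyo : (Nat.card (zpowers y)).Coprime 2 :=
    hN.coprime_dvd_left (card_dvd_of_le (zpowers_le.2 hyN.1))
  have hAa := sup_zpowers_eq_of_relIndex_prime Nat.prime_two hB'A hB'i ha haB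
  have hyE : y ∈ A' ⊔ MulAut.conj y • A' := by
    have h1 : y * y ∈ A' ⊔ MulAut.conj y • A' := by
      have h2 := mul_mem (mem_sup_right (conj_mem_conj_smul (g := y) ha) : _ ∈ A' ⊔ _)
        (mem_sup_left (inv_mem ha))
      convert h2 using 1
      calc y * y = y * (a * y * a⁻¹)⁻¹ := by rw [hinv, inv_inv]
        _ = _ := by group
    rw [Nat.card_zpowers] at hyo
    obtain ⟨k, hk⟩ := Nat.coprime_two_right.1 hyo
    have h3 : y = (y * y) ^ (k + 1) := by
      rw [← pow_two, ← pow_mul, show 2 * (k + 1) = 2 * k + 1 + 1 by ring, ← hk, pow_succ,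
        pow_orderOf_eq_one, one_mul]
    rw [h3]
    exact pow_mem (h3 ▸ h1) _
  obtain ⟨E, ⟨hE1, hE2⟩, hmin⟩ := (wellFounded_lt (α := Subgroup G)).has_min
    {E | A ≤ E ∧ E.map f = A' ⊔ zpowers y} ⟨(A' ⊔ zpowers y).comap f, le_comap_map f A |>.trans
      (comap_mono le_sup_left), map_comap_eq_self_of_surjective hf _⟩
  obtain ⟨x, hx, rfl⟩ : y ∈ (pResidualOf 2 E).map f := by
    rw [map_pResidualOf Nat.prime_two, hE2]
    exact le_pResidualOf_of_coprime le_sup_right hyo (mem_zpowers y)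
  have hxE : x ∈ E := H8.pResidualOf_le 2 E hx
  have hm : (A ⊔ MulAut.conj x • A).map f = A' ⊔ zpowers (f x) := by
    rw [Subgroup.map_sup, map_conj_smul]
    exact le_antisymm (sup_le le_sup_left (conj_smul_le_of_mem le_sup_left
      (mem_sup_right (mem_zpowers _)))) (sup_le le_sup_left (zpowers_le.2 hyE))
  have hEq : A ⊔ MulAut.conj x • A = E := by
    by_contra hne
    exact hmin _ ⟨le_sup_left, hm⟩ (lt_of_le_of_ne (sup_le hE1 (conj_smul_le_of_mem hE1 hxE)) hne)
  refine ⟨x, A ⊓ B'.comap f, inf_le_left, hEq ▸ hx, hy, ?_, ?_⟩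
  · rw [inf_relIndex_left, relIndex_comap, hB'i]
  · rw [← Subgroup.map_eq_bot_iff, map_commutator, hm, commutator_eq_bot_iff_le_centralizer]
    refine le_trans (map_le_iff_le_comap.2 inf_le_right) ?_
    rw [le_centralizer_iff]
    refine sup_le ?_ (zpowers_le.2 hyN.2)
    intro a ha b hb
    exact congrArg Subtype.val (hAe.1.is_comm.comm (⟨b, hB'A hb⟩ : A') ⟨a, ha⟩)

theorem pushUp_false {M B V : Subgroup G} (hno : NoS3 M) (hM : IsPSolvable 2 M)
    (hc : M ⊓ centralizer (pCoreOf 2 M : Set G) ≤ pCoreOf 2 M) (hQB : pCoreOf 2 M ≤ B)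
    (hBM : B ≤ M) (hB : IsPGroup 2 B) (hVB : V ≤ B) (hV : IsElementaryAbelian 2 V)
    (hBV : B ≤ normalizer (V : Set G)) (hNF : NF B V) {A : Subgroup G} (hA : A ∈ H5.elemMax 2 B)
    {x : G} (hx : x ∈ M) {A0 : Subgroup G} (hA0 : A0 ≤ A)
    (k1 : x ∈ pResidualOf 2 (A ⊔ MulAut.conj x • A)) (hxV : x ∉ normalizer (V : Set G))
    (k3 : A0.relIndex A = 2) (k5 : ⁅A0, A ⊔ MulAut.conj x • A⁆ ≤ pCoreOf 2 M) : False := by
  have hVQ := pushUp_le_pCoreOf hno hM hc hQB hBM hB hVB hV hBV hNF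
  have hAe := hA.2.1
  set E := A ⊔ MulAut.conj x • A with hE
  set Q := pCoreOf 2 M with hQ
  have hxE : x ∈ E := H8.pResidualOf_le 2 _ k1
  have hEM : E ≤ M := sup_le (hA.1.trans hBM) (conj_smul_le_of_mem (hA.1.trans hBM) hx)
  have hEQ : E ≤ normalizer (Q : Set G) := hEM.trans (le_normalizer_pCoreOf 2 M)
  have hER := le_normalizer_sup_of_commutator_le hEQ (k5.trans le_sup_right)
  have hRB : ∀ l ∈ E, A0 ⊔ Q ≤ MulAut.conj l • B := fun l hl => by
    rw [← mem_normalizer_iff_conj_smul.1 (hER hl)]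
    exact conj_smul_mono l (sup_le (hA0.trans hA.1) hQB)
  have hRB1 : A0 ⊔ Q ≤ B := sup_le (hA0.trans hA.1) hQB
  have hVA : V ≤ A := hNF.le_of_mem_elemMax hVB hV hA
  set C := MulAut.conj x • V with hC
  have hCe : IsElementaryAbelian 2 C := elemAb_conj_smul hV x
  have hlQ : ∀ l ∈ E, MulAut.conj l • V ≤ Q := fun l hl => by
    rw [← mem_normalizer_iff_conj_smul.1 (hEQ hl)]
    exact conj_smul_mono l hVQ
  have hAxC : MulAut.conj x • A ≤ centralizer (C : Set G) := by
    rw [hC, centralizer_conj_smul]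
    exact conj_smul_mono x ((le_centralizer_of_comm hAe.1).trans
      (centralizer_le (SetLike.coe_subset_coe.2 hVA)))
  have hAC : ¬ A ≤ normalizer (C : Set G) := fun h => hxV (by
    have h1 := mem_normalizer_iff_conj_smul.1
      (sup_le h (H1.le_normalizer_of_le_centralizer hAxC) hxE)
    exact mem_normalizer_iff_conj_smul.2 (conj_smul_inj.1 h1))
  set A1 := centralizer (C : Set G) ⊓ A0 with hA1
  have hA0e := H5.elemAb_mono hA0 hAe
  have hA1A : A1 ≤ A := inf_le_right.trans hA0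
  have hA1c : A1 ≤ centralizer (A : Set G) := hA1A.trans (le_centralizer_of_comm hAe.1)
  have s1 := (hNF.conj x).of_elemAb (le_sup_left.trans (hRB x hxE)) hA0e
  rw [← hC] at s1
  have s2 : (centralizer (A0 : Set G)).relIndex C ≤ A1.relIndex C := relIndex_le_of_inf_le
    (inf_le_left.trans (hA1c.trans (centralizer_le (SetLike.coe_subset_coe.2 hA0))))
  have hse : IsElementaryAbelian 2 (A1 ⊔ C) :=
    elemAb_sup_of_le_centralizer (H5.elemAb_mono inf_le_right hA0e) hCe inf_le_left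
  have hsR : A1 ⊔ C ≤ A0 ⊔ Q := sup_le_sup inf_le_right (hlQ x hxE)
  have hn1 : A1 ≤ normalizer (C : Set G) := H1.le_normalizer_of_le_centralizer inf_le_left
  have s3 := card_sup_eq_mul_relIndex hn1
  have s4 := H1.card_inf_mul_relIndex (centralizer (C : Set G)) A0
  have s5 := H1.card_mul_relIndex hA0
  have s6 := hA.2.2 _ (hsR.trans hRB1) hse
  rw [k3, ← s4, mul_assoc] at s5
  rw [s3, ← s5] at s6
  have s7 := Nat.le_of_mul_le_mul_left s6 Nat.card_pos
  have s8 : A1.relIndex C ≠ 1 := fun h => hAC (H1.le_normalizer_of_le_centralizer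
    ((le_centralizer_of_comm hAe.1).trans (centralizer_le
      (SetLike.coe_subset_coe.2 ((relIndex_eq_one.1 h).trans hA1A)))))
  have p1 := relIndex_pos (centralizer (C : Set G)) A0
  have p2 := relIndex_pos A1 C
  have s9 : ((centralizer (C : Set G)).relIndex A0 = 1 ∧ A1.relIndex C = 2) ∨
      ((centralizer (C : Set G)).relIndex A0 = 2 ∧ A1.relIndex C = 4) := by
    have h1 := s1.trans s2
    generalize (centralizer (C : Set G)).relIndex A0 = s at h1 s7 p1
    have h2 : s ≤ 2 := by nlinarith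
    interval_cases s <;> omega
  have hcard : Nat.card A ≤ Nat.card (A1 ⊔ C : Subgroup G) := by
    rw [s3, ← s5]
    refine Nat.mul_le_mul_left _ ?_
    omega
  set U := nclIn E V with hU
  have hUs : U ≤ A1 ⊔ C := nclIn_le_iff.2 fun l hl =>
    (hNF.conj l).le_of_mem_elemMax (conj_smul_mono l hVB) (elemAb_conj_smul hV l)
      (mem_elemMax_conj hA (hsR.trans (hRB l hl)) hse hcard)
  have hUe := H5.elemAb_mono hUs hse
  have hUp := isPGroup_of_elemAb hUe
  have hCU : C ≤ U := conj_le_nclIn V hxE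
  have hEU : E ≤ normalizer (U : Set G) := le_normalizer_nclIn E V
  have u1 : A1.relIndex U ≤ A1.relIndex C := by
    refine (relIndex_le_of_le_right hUs (relIndex_pos _ _).ne').trans (le_of_eq ?_)
    rw [sup_comm]
    exact H1.relIndex_sup_of_le_normalizer
      (H1.le_normalizer_of_le_centralizer (le_centralizer_iff.1 inf_le_left))
  have u2 : ⁅U, pResidualOf 2 E⁆ ≠ ⊥ := fun h => hxV (H1.le_normalizer_of_le_centralizer
    (centralizer_le (SetLike.coe_subset_coe.2 (le_nclIn E V)))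
      (H1.commutator_eq_bot_iff_le_centralizer'.1 h k1))
  have hbot : ∀ K : Subgroup G, K ≤ normalizer ((⊥ : Subgroup G) : Set G) := fun K =>
    le_top.trans (normalizer_eq_top ⊥).ge
  rcases s9 with ⟨-, s10⟩ | ⟨s9, s10⟩
  · refine u2 (le_bot_iff.1 ((hno.mono hEM).commutator_pResidualOf_le (C := U ⊓ A1) hxE
      (isPGroup_of_elemAb hAe) hUp hEU (hbot _) (hbot _) inf_le_left
      (commutator_eq_bot_iff_le_centralizer.2 (inf_le_right.trans hA1c)).le ?_))
    rw [inf_relIndex_left]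
    omega
  set N := nclIn E A0 with hN
  have hNR : N ≤ A0 ⊔ Q := nclIn_le_of_normal le_sup_left hER
  have hNE : N ≤ E := nclIn_le (hA0.trans le_sup_left)
  have hEN : E ≤ normalizer (N : Set G) := le_normalizer_nclIn E A0
  have hNp : IsPGroup 2 N := hB.to_le (hNR.trans hRB1)
  have v1 := (hno.mono hEM).commutator_le_of_relIndex_le k1 hAe hA0 k3 hUe hEU u2
    ((relIndex_le_of_le_left hA1c (relIndex_pos _ _).ne').trans (u1.trans s10.le)) hNp
    (le_nclIn E A0) hNE hEN
  rw [← hE] at v1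
  have v2 : ∀ K ≤ E, ∀ D ≤ U, ⁅⁅D, N⁆, K⁆ = ⊥ := fun K hK D hD =>
    commutator_eq_bot_iff_le_centralizer.2 ((commutator_mono hD le_rfl).trans (v1.trans
      (inf_le_right.trans (centralizer_le (SetLike.coe_subset_coe.2 hK)))))
  have v3 : ⁅N, N⁆ ≤ centralizer (U : Set G) := commutator_eq_bot_iff_le_centralizer.1
    (commutator_commutator_eq_bot_of_rotate (by rw [commutator_comm N U]; exact v2 N hNE U le_rfl)
      (v2 N hNE U le_rfl))
  have v4 : ∀ t ∈ N, t ^ 2 ∈ centralizer (U : Set G) := fun t ht u hu => by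
    have h1 := v1 (commutator_mem_commutator (inv_mem hu) ht)
    have h2 : t * ⁅u⁻¹, t⁆ = ⁅u⁻¹, t⁆ * t := h1.2 t (hNE ht)
    have h3 := hUe.2 _ h1.1
    have h4 : t * u = u * ⁅u⁻¹, t⁆ * t := by rw [commutatorElement_def]; group
    generalize ⁅u⁻¹, t⁆ = c at h2 h3 h4
    calc u * t ^ 2 = u * (c ^ 2) * t * t := by rw [h3, pow_two, mul_one, mul_assoc]
      _ = u * c * (c * t) * t := by simp only [pow_two, mul_assoc]
      _ = u * c * (t * c) * t := by rw [h2]
      _ = (u * c * t) * c * t := by simp only [mul_assoc]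
      _ = (t * u) * c * t := by rw [h4]
      _ = t * (u * c * t) := by simp only [mul_assoc]
      _ = t ^ 2 * u := by rw [← h4, pow_two, mul_assoc]
  obtain ⟨a, ha, ha0⟩ : ∃ a ∈ A, a ∉ A0 := SetLike.not_le_iff_exists.1 fun h => by
    rw [relIndex_eq_one.2 h] at k3
    omega
  have hAa := sup_zpowers_eq_of_relIndex_prime Nat.prime_two hA0 k3 ha ha0
  have haE : a ∈ E := mem_sup_left ha
  have hTN : ⁅N, zpowers a⁆ ≤ N :=
    le_normalizer_iff_commutator_le_left.1 ((zpowers_le.2 haE).trans hEN)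
  have hTD : ⁅N, zpowers a⁆ ≤ centralizer ((U ⊓ A1 : Subgroup G) : Set G) := by
    refine commutator_eq_bot_iff_le_centralizer.1 (commutator_commutator_eq_bot_of_rotate ?_
      (v2 _ (zpowers_le.2 haE) _ inf_le_left))
    rw [H1.commutator_eq_bot_iff_le_centralizer'.2 (inf_le_right.trans (hA1c.trans
      (centralizer_le (SetLike.coe_subset_coe.2 (zpowers_le.2 ha))))), commutator_bot_left]
  have hCUc : centralizer (U : Set G) ≤ centralizer (C : Set G) :=
    centralizer_le (SetLike.coe_subset_coe.2 hCU)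
  have w1 := hNF.conj x _ (hTN.trans (hNR.trans (hRB x hxE)))
    ((commutator_mono hTN hTN).trans (v3.trans hCUc)) fun t ht => hCUc (v4 t (hTN ht))
  rw [← hC] at w1
  have w2 : (centralizer ((⁅N, zpowers a⁆ : Subgroup G) : Set G)).relIndex C ≤ A1.relIndex C :=
    relIndex_le_of_inf_le ((le_inf (inf_le_right.trans hCU) inf_le_left).trans
      (le_centralizer_iff.1 hTD))
  have w3 : (centralizer (C : Set G)).relIndex ⁅N, zpowers a⁆ ≤ 2 := by nlinarith
  have hKn : E ≤ normalizer ((N ⊓ centralizer (U : Set G) : Subgroup G) : Set G) :=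
    H1.le_normalizer_inf hEN (H1.le_normalizer_centralizer hEU)
  have w4 : (N ⊓ centralizer (U : Set G)).relIndex ⁅N, zpowers a⁆ ≤ 2 := by
    refine (relIndex_le_of_inf_le (le_inf (inf_le_right.trans hTN) ?_)).trans w3
    rw [le_centralizer_iff, ← inf_eq_left.2 hUs, H1.dedekind_right hn1 hCU]
    exact sup_le (le_centralizer_iff.1 (inf_le_right.trans hTD)) (le_centralizer_iff.1 inf_le_left)
  have hNN : ⁅N, N⁆ ≤ N ⊓ centralizer (U : Set G) :=
    le_inf (le_normalizer_iff_commutator_le_left.1 le_normalizer) v3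
  obtain ⟨D, hD1, hD2⟩ := exists_commKer hNN (hNE.trans hKn) (hEN haE)
  have hDN : D ≤ N := fun y hy => ((hD1 y).1 hy).1
  have w5 := (hno.mono hEM).commutator_pResidualOf_le hxE (isPGroup_of_elemAb hAe) hNp hEN hKn
    (hNE.trans hKn) hDN (by
      rw [← hAa]
      exact H1.commutator_sup_le ((hA0.trans le_sup_left).trans hKn) (zpowers_le.2 (hKn haE))
        ((commutator_mono hDN (le_nclIn E A0)).trans hNN)
        (H1.commutator_zpowers_le (hKn haE) fun y hy => ((hD1 y).1 hy).2))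
    ((hD2 _ hTN fun y hy => commutator_mem_commutator hy (mem_zpowers a)).trans w4)
  have w6 : A0 ≤ centralizer (C : Set G) := fun b hb => by
    have h1 := hCUc (w5 (commutator_mem_commutator (le_nclIn E A0 hb) k1)).2
    have h2 := mul_mem h1 (hAxC (conj_mem_conj_smul (hA0 hb)))
    convert h2 using 1
    rw [commutatorElement_def]
    group
  rw [relIndex_eq_one.2 w6] at s9
  omega

end Cfsg.Agent.H7.SC
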