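import Cfsg.Agent.H7.SC1
import Cfsg.Agent.H7.SC2

/-! Pushing up at the top level, and passing to `X / O(X)`. -/

set_option autoImplicit false
set_option linter.unusedSectionVars false

namespace Cfsg.Agent.H7.SC

open Subgroup Cfsg Cfsg.Agent Cfsg.Agent.FT
open scoped commutatorElement Pointwise

universe u

variable {G : Type u} [Group G] [Finite G]

theorem isSyl_map {H : Type u} [Group H] [Finite H] {f : G →* H} (hf : Function.Surjective f)
    {p : ℕ} {S : Subgroup G} (hS : IsSyl p S ⊤) : IsSyl p (S.map f) ⊤ := by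
  refine ⟨le_top, hS.pgrp.map f, fun h => hS.ndvd ?_⟩
  rw [relIndex_top_right] at h ⊢
  exact h.trans (index_map_dvd S hf)

theorem not_pPrimeCore_le (hs : Group.IsSolvable (⊤ : Subgroup G)) (h2 : pCore 2 G = ⊥)
    {S K : Subgroup G} (hS : IsSyl 2 S ⊤) (hK : K ≠ ⊤) (hSK : S ≤ K)
    (hmin : ∀ Y : Subgroup G, Y ≠ ⊤ → S ≤ Y → Y ≤ K) : ¬ pPrimeCore 2 G ≤ K := by
  intro h
  have hE := pPrimePCoreOf_normal 2 (⊤ : Subgroup G)
  have hT := hS.inf_normal Nat.prime_two hE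
  have h1 : pPrimePCoreOf 2 ⊤ ≤ K := by
    rw [← pPrimePCoreOf_eq_sup Nat.prime_two hT, H2.pPrimeCoreOf_top]
    exact sup_le h (inf_le_left.trans hSK)
  refine hK (top_le_iff.1 ?_)
  by_cases h3 : 𝐍(S ⊓ pPrimePCoreOf 2 ⊤) = ⊤
  · have h4 := le_pCoreOf (H := ⊤) ⟨le_top, h3.ge⟩ hT.pgrp
    rw [H2.pCoreOf_top, h2, le_bot_iff] at h4
    have h5 := solvable_p_constrained Nat.prime_two hs hT
    rw [h4, cent_bot, inf_idem] at h5
    exact h5.trans h1
  · rw [← hT.frattini Nat.prime_two hE]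
    exact sup_le h1 (inf_le_right.trans (hmin _ h3
      (H1.le_normalizer_inf (le_norm_self S) (le_top.trans hE.2))))

theorem Ch.pu (hM : Ch G) {S V : Subgroup G} (hS : IsSyl 2 S ⊤) (hVS : V ≤ S)
    (hV : IsElementaryAbelian 2 V) (hSV : S ≤ 𝐍(V)) (hNF : H2.NF S V)
    (hmin : ∀ Y : Subgroup G, Y ≠ ⊤ → S ≤ Y → Y ≤ 𝐍(V)) (hJ : 𝐍(jj S) ≤ 𝐍(V)) : ⊤ ≤ 𝐍(V) := by
  by_contra hn
  have hG : Group.IsSolvable G := 
    have := hM.sol
    solvable_of_surjective (f := (topEquiv (G := G)).toMonoidHom) topEquiv.surjective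
  have hRS := hS.pCoreOf_le Nat.prime_two
  obtain ⟨f, hf⟩ : ∃ f, f = QuotientGroup.mk' (pCore 2 G) := ⟨_, rfl⟩
  have hfs : Function.Surjective f := hf ▸ QuotientGroup.mk'_surjective _
  have hker : f.ker = pCoreOf 2 ⊤ := by rw [hf, QuotientGroup.ker_mk', H2.pCoreOf_top]
  have h2 : pCore 2 (G ⧸ pCore 2 G) = ⊥ := L.pCore_quotient_pCore Nat.prime_two
  have hK : (𝐍(V).map f).comap f = 𝐍(V) := comap_map_eq_self (hker ▸ hRS.trans hSV)
  have hS' := isSyl_map hfs hS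
  have hmin' : ∀ Y : Subgroup (G ⧸ pCore 2 G), Y ≠ ⊤ → S.map f ≤ Y → Y ≤ 𝐍(V).map f :=
    fun Y h1 h3 => by
      rw [← map_comap_eq_self_of_surjective hfs Y]
      refine map_mono (hmin _ (fun e => h1 ?_) (map_le_iff_le_comap.1 h3))
      rw [← map_comap_eq_self_of_surjective hfs Y, e, map_top_of_surjective f hfs]
  have hN := not_pPrimeCore_le inferInstance h2 hS'
    (fun e => hn (by rw [← hK, e, comap_top])) (map_mono hSV) hmin'
  have hc := L.centralizer_pPrimeCore_le (G := G ⧸ pCore 2 G) Nat.prime_two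
    (L.isPSolvable_of_isSolvable Nat.prime_two) h2
  have hNo := L.coprime_card_pPrimeCore (G := G ⧸ pCore 2 G) 2
  have hNn : (pPrimeCore 2 (G ⧸ pCore 2 G)).Normal := inferInstance
  generalize pPrimeCore 2 (G ⧸ pCore 2 G) = N at hN hc hNo hNn
  have hNN : ∀ D : Subgroup (G ⧸ pCore 2 G), D ≤ 𝐍(N) := fun D =>
    le_top.trans (normalizer_eq_top N).ge
  by_cases h3 : ∃ A ∈ H5.elemMax 2 S, ¬ ⁅N, A.map f⁆ ≤ 𝐍(V).map f
  · obtain ⟨A, hA, h3⟩ := h3
    obtain ⟨x, B, k1, k2, k3, k4, k5⟩ :=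
      exists_two_conj' f hfs hNo (H5.elemAb_map f hA.2.1) h3
    exact pushUp_false hM.no (L.isPSolvable_of_isSolvable Nat.prime_two) hM.ch hRS le_top hS.pgrp
      hVS hV hSV hNF hA (mem_top x) k1 k2 (fun h => k3 (mem_map_of_mem f h)) k4 (hker ▸ k5)
  push Not at h3
  have hJS : jj S ≤ S := H5.thompsonSubgroupOf_le S
  have h4 : jj S ≤ (H1.commStab N (𝐍(V).map f ⊓ N)).comap f := by
    rw [jj, H5.thompsonSubgroupOf_eq_sSup]
    refine sSup_le fun A hA => map_le_iff_le_comap.1 (H1.le_commStab_iff.2 ⟨?_, le_inf (h3 A hA)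
      (comm_le_left_iff.2 (hNN _))⟩)
    exact H1.le_normalizer_inf ((map_mono (hA.1.trans hSV)).trans (le_norm_self _)) (hNN _)
  have h5 := (H1.le_commStab_iff.1 (map_le_iff_le_comap.2 h4)).2
  have hJp : IsPGroup 2 ((jj S).map f) := (hS.pgrp.to_le hJS).map f
  have hSJ : S.map f ≤ 𝐍((jj S).map f) := (map_mono ((le_norm_self S).trans
    (H5.normalizer_le_normalizer_thompsonSubgroupOf S))).trans (le_normalizer_map f)
  have hSC : S.map f ≤ 𝐍(N ⊓ 𝐂((jj S).map f)) :=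
    H1.le_normalizer_inf (hNN _) (H1.le_normalizer_centralizer hSJ)
  have hd : N ⊓ S.map f = ⊥ :=
    H1.inf_eq_bot_of_coprime' (H1.coprime_card_of_isPGroup hS'.pgrp hNo)
  have h6 : (N ⊓ 𝐂((jj S).map f)) ⊔ S.map f = ⊤ := by
    by_contra h6
    refine hN ?_
    rw [← H1.commutator_sup_centralizer (hNN ((jj S).map f))
      (H1.coprime_card_of_isPGroup hJp hNo).symm (Or.inl (H1.isSolvable_of_isPGroup hJp))]
    exact sup_le (h5.trans inf_le_left) (le_sup_left.trans (hmin' _ h6 le_sup_right))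
  have h7 := sup_inf_of_le_left hSC (inf_le_left : N ⊓ 𝐂((jj S).map f) ≤ N)
  rw [h6, top_inf_eq, inf_comm (S.map f), hd, sup_bot_eq] at h7
  have h8 : (jj S).map f ≤ N ⊓ S.map f :=
    le_inf ((cent_comm.1 (h7.le.trans inf_le_right)).trans hc) (map_mono hJS)
  rw [hd, le_bot_iff, Subgroup.map_eq_bot_iff, hker] at h8
  refine hn (le_trans ?_ hJ)
  rw [jj, ← H5.thompsonSubgroupOf_eq_of_le hRS h8]
  exact (pCoreOf_normal 2 ⊤).2.trans (H5.normalizer_le_normalizer_thompsonSubgroupOf _)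

/-- `O(X)`. -/
abbrev od (X : Subgroup G) : Subgroup G := H2.pPrimeCoreOf 2 X

instance odNormal (X : Subgroup G) : ((od X).subgroupOf X).Normal :=
  H1.normal_subgroupOf_of_le (pPrimeCoreOf_normal 2 X).2

/-- The image in `X / O(X)`. -/
abbrev br (X D : Subgroup G) : Subgroup (X ⧸ (od X).subgroupOf X) := H1.bar X (od X) D

theorem od_le (X : Subgroup G) : od X ≤ X := H2.pPrimeCoreOf_le 2 X

theorem od_cop (X : Subgroup G) : 𝐨(od X).Coprime 2 := H2.coprime_card_pPrimeCoreOf 2 X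

theorem le_norm_od (X : Subgroup G) : X ≤ 𝐍(od X) := (pPrimeCoreOf_normal 2 X).2

theorem od_inf {X T : Subgroup G} (hT : IsPGroup 2 T) : od X ⊓ T = ⊥ :=
  H1.inf_eq_bot_of_coprime' (H1.coprime_card_of_isPGroup hT (od_cop X))

theorem noS3_of_surj {X : Subgroup G} (h : H2.NoS3 X) {H : Type u} [Group H] (f : X →* H)
    (hf : Function.Surjective f) : H2.NoS3 (⊤ : Subgroup H) := by
  intro E _ φ hφ
  let e := ((E.comap f).equivMapOfInjective X.subtype X.subtype_injective).symm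
  refine h ((E.comap f).map X.subtype) (map_subtype_le _)
    (φ.comp ((f.subgroupComap E).comp e.toMonoidHom)) ?_
  exact hφ.comp ((f.subgroupComap_surjective_of_surjective E hf).comp e.surjective)

theorem od_br (X : Subgroup G) : od (⊤ : Subgroup (X ⧸ (od X).subgroupOf X)) = ⊥ := by
  rw [← H1.bar_top]
  unfold od
  rw [pPrimeCoreOf_bar Nat.prime_two (od_le X) le_rfl (od_cop X), H1.bar_self]

theorem ch_br {X : Subgroup G} (hs : Group.IsSolvable X) (h : H2.NoS3 X) :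
    Ch (X ⧸ (od X).subgroupOf X) :=
  ⟨inferInstance, cent_pCoreOf_le Nat.prime_two inferInstance (od_br X),
    noS3_of_surj h _ H1.qmk_surjective⟩

theorem isSyl_br {X T : Subgroup G} (hT : IsSyl 2 T X) : IsSyl 2 (br X T) ⊤ :=
  H1.bar_top (Y := X) (N := od X) ▸ hT.bar Nat.prime_two le_rfl

theorem ker_inf {X T : Subgroup G} (hT : IsPGroup 2 T) :
    (H1.qmk X (od X)).ker ⊓ T.subgroupOf X = ⊥ := by
  rw [QuotientGroup.ker_mk', eq_bot_iff]
  intro x hx
  have : (x : G) ∈ od X ⊓ T := hx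
  rw [od_inf hT, mem_bot] at this
  exact mem_bot.2 (Subtype.ext this)

theorem norm_br {X K : Subgroup G} (hK : IsPGroup 2 K) (hKX : K ≤ X) :
    𝐍(br X K) = br X (X ⊓ 𝐍(K)) := by
  have hp : IsPGroup 2 (K.subgroupOf X) := hK.comap_subtype
  rw [br, H1.bar, H1.normalizer_map_mk' _ (by
    rw [H2.card_subgroupOf_of_le (od_le X)]
    exact (H1.coprime_card_of_isPGroup hp (od_cop X)).symm)
    (Or.inl (H1.isSolvable_of_isPGroup hp)), br, H1.bar, inf_subgroupOf_left,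
    subgroupOf_normalizer_eq hKX]

theorem cent_br {X K : Subgroup G} (hK : IsPGroup 2 K) (hKX : K ≤ X) :
    𝐂(br X K) ≤ br X (X ⊓ 𝐂(K)) := by
  have hp : IsPGroup 2 (K.subgroupOf X) := hK.comap_subtype
  rw [br, H1.bar, H1.centralizer_map_mk' _ (by
    rw [H2.card_subgroupOf_of_le (od_le X)]
    exact (H1.coprime_card_of_isPGroup hp (od_cop X)).symm)
    (Or.inl (H1.isSolvable_of_isPGroup hp))]
  exact map_mono fun x hx => ⟨x.2, fun k hk => congrArg Subtype.val (hx ⟨k, hKX hk⟩ hk)⟩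

theorem jj_br {X T : Subgroup G} (hT : IsPGroup 2 T) (hTX : T ≤ X) :
    jj (br X T) = br X (jj T) := by
  rw [jj, br, H1.bar, H5.thompsonSubgroupOf_map _ (ker_inf hT), br, H1.bar]
  congr 1
  refine map_injective X.subtype_injective ?_
  rw [← H5.thompsonSubgroupOf_map_of_injective _ X.subtype_injective, map_subgroupOf_eq_of_le hTX,
    map_subgroupOf_eq_of_le ((H5.thompsonSubgroupOf_le T).trans hTX)]

theorem br_oz_le {X T : Subgroup G} (hTX : T ≤ X) : br X (oz T) ≤ oz (br X T) :=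
  le_omegaOne_of_elemAb (le_inf (H1.bar_mono (oz_le T))
    ((H1.bar_le_centralizer_iff ((oz_le T).trans hTX) hTX).2
      ((comm_eq_bot_iff.2 (cent_comm.1 (le_cent_oz T))).le.trans bot_le)))
    (H5.elemAb_map _ (by
      rw [← isElemAb_map_iff X.subtype_injective, map_subgroupOf_eq_of_le ((oz_le T).trans hTX)]
      exact elemAb_oz T))

theorem elemAb_br {X V : Subgroup G} (hVX : V ≤ X) (hV : IsElementaryAbelian 2 V) :
    IsElementaryAbelian 2 (br X V) :=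
  H5.elemAb_map _ (by
    rwa [← isElemAb_map_iff X.subtype_injective, map_subgroupOf_eq_of_le hVX])

theorem red_br_iff {X L V : Subgroup G} (hL : L ≤ X) (hVX : V ≤ X) (hV : IsPGroup 2 V)
    (hn : L ≤ 𝐍(V)) : Red (br X L) (br X V) ↔ Red L V := by
  have h1 : L.subgroupOf X ≤ 𝐍(V.subgroupOf X) := by
    rw [← subgroupOf_normalizer_eq hVX]
    exact comap_mono hn
  rw [br, br, H1.bar, H1.bar, red_map_iff _ (ker_inf hV) h1,
    ← red_map_iff X.subtype (by rw [ker_subtype, bot_inf_eq]) h1, map_subgroupOf_eq_of_le hL,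
    map_subgroupOf_eq_of_le hVX]

theorem nf_subgroupOf {X S V : Subgroup G} (hVX : V ≤ X) (h : H2.NF S V) :
    H2.NF (S.subgroupOf X) (V.subgroupOf X) := by
  have key : ∀ A : Subgroup X, ∀ x : X, x ∈ 𝐂(A) ↔ (x : G) ∈ 𝐂(A.map X.subtype) := fun A x => by
    refine ⟨?_, fun h a ha => Subtype.ext (h _ (mem_map_of_mem _ ha))⟩
    rintro h _ ⟨a, ha, rfl⟩
    exact congrArg Subtype.val (h a ha)
  have key2 : ∀ A B : Subgroup X,
      𝐂(A).relIndex B = 𝐂(A.map X.subtype).relIndex (B.map X.subtype) := fun A B => by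
    rw [← relIndex_comap]
    congr 1
    ext x
    exact key A x
  intro A hA h1 h2
  rw [key2, key2 A, map_subgroupOf_eq_of_le hVX]
  refine h _ (map_le_iff_le_comap.2 hA) ?_ ?_
  · rw [← map_commutator]
    rintro _ ⟨x, hx, rfl⟩
    have := (key _ x).1 (h1 hx)
    rwa [map_subgroupOf_eq_of_le hVX] at this
  · rintro _ ⟨x, hx, rfl⟩
    have := (key _ _).1 (h2 x hx)
    rwa [map_subgroupOf_eq_of_le hVX] at this

theorem nf_br {X S V : Subgroup G} (hS : IsPGroup 2 S) (hSX : S ≤ X) (hVS : V ≤ S)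
    (h : H2.NF S V) : H2.NF (br X S) (br X V) :=
  nf_map _ (ker_inf hS) (comap_mono hVS) (nf_subgroupOf (hVS.trans hSX) h)

/-- `D O(X)` is normalized by `X`. -/
def NM (X D : Subgroup G) : Prop := X ≤ 𝐍(D ⊔ od X)

theorem nm_iff {X D : Subgroup G} (hD : D ≤ X) : NM X D ↔ ⊤ ≤ 𝐍(br X D) := by
  refine ⟨fun h => ?_, fun h => ?_⟩
  · rw [br, ← H1.bar_sup_self (od_le X) hD, ← H1.bar_top]
    exact H1.bar_le_normalizer h
  · rw [NM, ← H1.unbar_bar (od_le X) hD]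
    exact H1.le_normalizer_unbar le_rfl (le_top.trans h)

theorem NM.conj {X D : Subgroup G} (h : NM X D) (g : G) : NM (X ^ᵍ g) (D ^ᵍ g) := by
  unfold NM od
  rw [pPrimeCoreOf_conj _ _ Nat.prime_two, ← conj_sup, conj_le_norm_iff]
  exact h

theorem inf_sup_od {X D T : Subgroup G} (hD : D ≤ X) (hT : IsPGroup 2 T) (hDT : D ≤ T) :
    T ⊓ (D ⊔ od X) = D := by
  rw [H1.dedekind_left (hD.trans (le_norm_od X)) hDT, inf_comm, od_inf hT, sup_bot_eq]

theorem NM.norm {X D T : Subgroup G} (h : NM X D) (hD : D ≤ X) (hT : IsPGroup 2 T) (hDT : D ≤ T) :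
    X ⊓ 𝐍(T) ≤ 𝐍(D) := by
  rw [← inf_sup_od hD hT hDT]
  exact H1.le_normalizer_inf inf_le_right (inf_le_left.trans h)

theorem isSyl_sup_od {X D : Subgroup G} (hD : D ≤ X) (hp : IsPGroup 2 D) :
    IsSyl 2 D (D ⊔ od X) := by
  rw [isSyl_iff_hall Nat.prime_two, sup_comm]
  exact (hall_of_sup (hD.trans (le_norm_od X)) ((isPi_singleton_iff Nat.prime_two).2 hp)
    ((isPi_compl_singleton_iff Nat.prime_two).2 (od_cop X))).1

theorem NM.frattini {X D : Subgroup G} (h : NM X D) (hD : D ≤ X) (hp : IsPGroup 2 D) :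
    X ≤ od X ⊔ (X ⊓ 𝐍(D)) := by
  refine ((isSyl_sup_od hD hp).frattini Nat.prime_two ⟨sup_le hD (od_le X), h⟩).ge.trans ?_
  exact sup_le (sup_le ((le_inf hD (le_norm_self D)).trans le_sup_right) le_sup_left) le_sup_right

theorem npc_sup_od {X D : Subgroup G} (hD : D ≤ X) (hp : IsPGroup 2 D) :
    HasNPC 2 (D ⊔ od X) := by
  rw [sup_comm]
  exact hasNPC_of_normal Nat.prime_two (hall_of_sup (hD.trans (le_norm_od X))
    ((isPi_singleton_iff Nat.prime_two).2 hp)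
    ((isPi_compl_singleton_iff Nat.prime_two).2 (od_cop X))).2
    (sup_le (le_norm_self _) (hD.trans (le_norm_od X)))

theorem NM.inf {X Y D T T' : Subgroup G} (h : NM X D) (hD : D ≤ X) (hY : Y ≤ X)
    (hT' : IsPGroup 2 T') (hDT : D ≤ T') (hT : IsSyl 2 T Y) (hTT : T ≤ T') : NM Y (D ⊓ T) := by
  have hE : (D ⊔ od X) ⊓ Y ⊲ Y := inf_normal ⟨sup_le hD (od_le X), h⟩ hY
  have h1 := ((npc_sup_od hD (hT'.to_le hDT)).of_le Nat.prime_two
    (inf_le_left : (D ⊔ od X) ⊓ Y ≤ _)).sdProd Nat.prime_two (hT.inf_normal Nat.prime_two hE)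
  have h2 : od ((D ⊔ od X) ⊓ Y) ≤ od Y :=
    le_pPrimeCoreOf ⟨(od_le _).trans inf_le_right,
      hE.2.trans (H2.normalizer_le_normalizer_pPrimeCoreOf 2 _)⟩ (od_cop _)
  have h3 : T ⊓ ((D ⊔ od X) ⊓ Y) ≤ D ⊓ T :=
    le_inf ((inf_le_inf hTT inf_le_left).trans (inf_sup_od hD hT' hDT).le) inf_le_left
  have h4 : (D ⊓ T) ⊔ od Y = ((D ⊔ od X) ⊓ Y) ⊔ od Y := by
    refine le_antisymm (sup_le_sup_right (inf_le_inf le_sup_left hT.le) _) (sup_le ?_ le_sup_right)
    rw [← h1.sup, sup_comm]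
    exact sup_le_sup h3 h2
  rw [NM, h4]
  exact H1.le_normalizer_sup hE.2 (le_norm_od Y)

theorem od_le_od {X Y T : Subgroup G} (hs : Group.IsSolvable X) (hT : IsSyl 2 T X) (hTY : T ≤ Y)
    (hY : Y ≤ X) : od Y ≤ od X := by
  have h1 := (isSyl_br hT).pCoreOf_le Nat.prime_two
  have h2 : br X (od Y) ≤ 𝐂(pCoreOf 2 ⊤) := by
    refine le_cent_of_norm_of_coprime (le_top.trans (pCoreOf_normal 2 ⊤).2)
      (h1.trans (H1.bar_le_normalizer (hTY.trans (le_norm_od Y)))) ?_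
    exact (H1.coprime_card_of_isPGroup (H2.isPGroup_pCoreOf 2 ⊤)
      ((od_cop Y).coprime_dvd_left (H1.card_bar_dvd _))).symm
  have h3 := (le_inf le_top h2).trans (cent_pCoreOf_le Nat.prime_two inferInstance (od_br X))
  have h4 := H1.inf_eq_bot_of_coprime' (H1.coprime_card_of_isPGroup (H2.isPGroup_pCoreOf 2 ⊤)
      ((od_cop Y).coprime_dvd_left (H1.card_bar_dvd (Y := X) (N := od X) _)))
  rw [inf_eq_left.2 h3] at h4
  exact (H1.bar_eq_bot_iff ((od_le Y).trans hY)).1 h4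

theorem NM.le_norm {X Y T D : Subgroup G} (h : NM Y D) (hs : Group.IsSolvable X)
    (hT : IsSyl 2 T X) (hTY : T ≤ Y) (hY : Y ≤ X) : Y ≤ 𝐍(D ⊔ od X) := by
  rw [← sup_eq_right.2 (od_le_od hs hT hTY hY), ← sup_assoc]
  exact H1.le_normalizer_sup h (hY.trans (le_norm_od X))

/-- Thompson factorization modulo `O(X)`. -/
theorem tf {X T : Subgroup G} (hs : Group.IsSolvable X) (hno : H2.NoS3 X) (hT : IsSyl 2 T X) :
    X ≤ ((X ⊓ 𝐍(oz T)) ⊔ (X ⊓ 𝐍(jj T))) ⊔ od X := by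
  have h1 := (ch_br hs hno).tf (isSyl_br hT)
  have hJ : jj T ≤ T := H5.thompsonSubgroupOf_le T
  rw [jj_br hT.pgrp hT.le, norm_br (hT.pgrp.to_le hJ) (hJ.trans hT.le)] at h1
  rw [← H1.bar_le_bar_iff (od_le X) le_rfl (sup_le inf_le_left inf_le_left),
    H1.bar_sup inf_le_left inf_le_left]
  refine le_top.trans (h1.trans (sup_le_sup_right ((cent_anti (br_oz_le hT.le)).trans
    ((cent_br (hT.pgrp.to_le (oz_le T)) ((oz_le T).trans hT.le)).trans
      (H1.bar_mono (inf_le_inf_left _ (cent_le_norm _))))) _))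

end Cfsg.Agent.H7.SC
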