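import Cfsg.Agent.H7.SC3

/-! Groups whose proper subgroups are solvable and `S₃`-free: control of 2-fusion by the
normalizer of an elementary abelian subgroup. -/

set_option autoImplicit false
set_option linter.unusedSectionVars false

namespace Cfsg.Agent.H7.SC

open Subgroup Cfsg Cfsg.Agent Cfsg.Agent.FT
open scoped commutatorElement Pointwise

universe u

variable {G : Type u} [Group G] [Finite G]

/-- The local hypothesis. -/
structure Loc (G : Type u) [Group G] : Prop where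
  sol : ∀ X : Subgroup G, X ≠ ⊤ → Group.IsSolvable X
  no : H2.NoS3 (⊤ : Subgroup G)
  nrm : ∀ K : Subgroup G, IsPGroup 2 K → K ≠ ⊥ → 𝐍(K) ≠ ⊤

/-- A maximal reduced elementary abelian subgroup of `S`. -/
structure VV (S V : Subgroup G) : Prop where
  syl : IsSyl 2 S ⊤
  le : V ≤ S
  el : IsElementaryAbelian 2 V
  nrm : S ≤ 𝐍(V)
  ne : V ≠ ⊥
  red : Red 𝐍(V) V
  max : ∀ W L : Subgroup G, S ≤ L → L ≤ 𝐍(W) → IsElementaryAbelian 2 W → Red L W → V ≤ W → W = V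

theorem exists_VV {S : Subgroup G} (hS : IsSyl 2 S ⊤) (h : S ≠ ⊥) : ∃ V, VV S V := by
  obtain ⟨V, ⟨h1, h2, L, h3, h4, h5⟩, hmax⟩ := (wellFounded_gt (α := Subgroup G)).has_min
    {V | IsElementaryAbelian 2 V ∧ V ≠ ⊥ ∧ ∃ L, S ≤ L ∧ L ≤ 𝐍(V) ∧ Red L V}
    ⟨oz S, elemAb_oz S, oz_ne_bot hS.pgrp h, S, le_rfl,
      (le_norm_self S).trans (norm_le_norm_oz S), red_oz S⟩
  refine ⟨V, hS, hS.le_of_le_norm Nat.prime_two (elemAb_isPGroup h1) le_top (h3.trans h4), h1,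
    h3.trans h4, h2, h5.up (hS.of_le (h3.trans h4) le_top) h3 h4 le_rfl,
    fun W L a b c d e => ?_⟩
  by_contra hne
  exact hmax W ⟨c, ne_bot_of_le_ne_bot h2 e, L, a, b, d⟩ (lt_of_le_of_ne e (Ne.symm hne))

/-- `h` acts on `T` as an element of `N(V)`. -/
def Rel (V T : Subgroup G) (h : G) : Prop := ∃ m ∈ 𝐍(V), ∀ t ∈ T, h * t * h⁻¹ = m * t * m⁻¹

theorem Rel.mono {V T T' : Subgroup G} {h : G} (a : Rel V T h) (b : T' ≤ T) : Rel V T' h :=
  a.imp fun _ c => ⟨c.1, fun t ht => c.2 t (b ht)⟩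

theorem Rel.trans {V T : Subgroup G} {h k : G} (a : Rel V T h) (b : Rel V (T ^ᵍ h) k) :
    Rel V T (k * h) := by
  obtain ⟨m, hm, a⟩ := a
  obtain ⟨m', hm', b⟩ := b
  refine ⟨m' * m, mul_mem hm' hm, fun t ht => ?_⟩
  calc _ = k * (h * t * h⁻¹) * k⁻¹ := by group
    _ = m' * (h * t * h⁻¹) * m'⁻¹ := b _ (conj_mem_conj ht h)
    _ = _ := by rw [a t ht]; group

theorem Rel.inv {V T : Subgroup G} {h : G} (a : Rel V T h) : Rel V (T ^ᵍ h) h⁻¹ := by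
  obtain ⟨m, hm, a⟩ := a
  refine ⟨m⁻¹, inv_mem hm, fun t ht => ?_⟩
  obtain ⟨s, hs, rfl⟩ := mem_conj'.1 ht
  conv_rhs => rw [a s hs]
  group

theorem Rel.mul_cent {V T : Subgroup G} {h c : G} (a : Rel V T h) (hn : h ∈ 𝐍(T))
    (hc : c ∈ 𝐂(T)) : Rel V T (c * h) :=
  a.trans ⟨1, one_mem _, fun t ht => by
    rw [conj_eq_of_mem_norm hn] at ht
    rw [← hc t ht]; group⟩

theorem Rel.mem_iff {V T : Subgroup G} {h : G} (a : Rel V T h) {t : G} (ht : t ∈ T) :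
    h * t * h⁻¹ ∈ V ↔ t ∈ V := by
  obtain ⟨m, hm, a⟩ := a
  rw [a t ht]
  exact (mem_normalizer_iff.1 hm t).symm

theorem exists_ext {S : Subgroup G} (hS : IsSyl 2 S ⊤) {X T : Subgroup G} (hT : IsPGroup 2 T)
    (hTX : T ≤ X) : ∃ g : G, T ^ᵍ g ≤ S ∧ IsSyl 2 (S ⊓ X ^ᵍ g) (X ^ᵍ g) := by
  obtain ⟨P, h1, h2⟩ := exists_isSyl_ge Nat.prime_two hT hTX
  obtain ⟨g, -, h3⟩ := hS.exists_conj_le Nat.prime_two h1.pgrp le_top
  refine ⟨g, (conj_mono h2 g).trans h3, ?_⟩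
  rw [(h1.conj g).eq_of_le Nat.prime_two (le_inf h3 (conj_mono h1.le g)) inf_le_right
    (hS.pgrp.to_le inf_le_left)]
  exact h1.conj g

/-- Control of fusion for subgroups of order at least `n`. -/
def FA (S V : Subgroup G) (n : ℕ) : Prop :=
  ∀ T ≤ S, n ≤ 𝐨(T) → ∀ h : G, T ^ᵍ h ≤ S → Rel V T h

/-- Normality modulo `O(X)` for Sylow orders at least `n`. -/
def FB (S V : Subgroup G) (n : ℕ) : Prop :=
  ∀ X : Subgroup G, X ≠ ⊤ → IsSyl 2 (S ⊓ X) X → n ≤ 𝐨(S ⊓ X) → NM X (V ⊓ X)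

namespace VV

variable {S V : Subgroup G} (h : VV S V) (hG : Loc G)
include h

theorem pg : IsPGroup 2 V := elemAb_isPGroup h.el

include hG

theorem nf : H2.NF S V :=
  h.red.nf (hG.no.mono le_top) (hG.sol _ (hG.nrm V h.pg h.ne)) h.el le_rfl h.nrm h.syl.pgrp

theorem nm_of_red {X L : Subgroup G} (hX : X ≠ ⊤) (hL : L ≤ X) (hSL : S ≤ L) (hn : L ≤ 𝐍(V))
    (hr : Red L V) : NM X V := by
  have hSX := hSL.trans hL
  have hVX := h.le.trans hSX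
  have hS := isSyl_br (h.syl.of_le hSX le_top)
  obtain ⟨h1, h2, h3⟩ := (ch_br (hG.sol X hX) (hG.no.mono le_top)).mon hS (H1.bar_mono hSL)
    (elemAb_br hVX h.el) ((red_br_iff hL hVX h.pg hn).2 hr)
  have h4 := H2.le_normalizer_nclIn ⊤ (br X V)
  have h5 := H2.le_nclIn ⊤ (br X V)
  generalize H2.nclIn ⊤ (br X V) = U at h1 h2 h3 h4 h5
  have h6 : br X (S ⊓ H1.unbar X (od X) U) = U := by
    refine le_antisymm ((H1.bar_mono inf_le_right).trans (H1.bar_unbar U).le) fun u hu => ?_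
    obtain ⟨y, hy, rfl⟩ := H1.mem_bar.1 (h1.trans (hS.pCoreOf_le Nat.prime_two) hu)
    exact H1.qmk_mem_bar ⟨hy, H1.coe_mem_unbar.2 hu⟩
  have h7 : S ≤ 𝐍(S ⊓ H1.unbar X (od X) U) :=
    H1.le_normalizer_inf (le_norm_self S) (H1.le_normalizer_unbar hSX (le_top.trans h4))
  have h8 : V ≤ S ⊓ H1.unbar X (od X) U := le_inf h.le ((H1.bar_le_iff hVX).1 h5)
  have h9 : S ⊓ H1.unbar X (od X) U ≤ S := inf_le_left
  generalize S ⊓ H1.unbar X (od X) U = W at h6 h7 h8 h9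
  have hW := h.syl.pgrp.to_le h9
  have hWX := h9.trans hSX
  have h10 : IsElementaryAbelian 2 W := by
    rw [← map_subgroupOf_eq_of_le hWX, isElemAb_map_iff X.subtype_injective]
    exact H5.elemAb_of_map _ (ker_inf hW) le_rfl (by rw [← h6] at h2; exact h2)
  have h11 := h.max W (X ⊓ 𝐍(W)) (le_inf hSX h7) inf_le_right h10 (by
    rw [← red_br_iff inf_le_left hWX hW inf_le_right, ← norm_br hW hWX, h6, top_le_iff.1 h4]
    exact h3) h8
  rw [nm_iff hVX, ← h11, h6]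
  exact h4

theorem nm_jj : NM 𝐍(jj S) V := by
  have h1 : 𝐍(V) ⊓ 𝐂(V) ⊲ 𝐍(V) :=
    ⟨inf_le_left, H1.le_normalizer_inf (le_norm_self _) (H1.le_normalizer_centralizer le_rfl)⟩
  have h2 := (h.syl.of_le h.nrm le_top).inf_normal Nat.prime_two h1
  have hJ : jj S ≤ S := H5.thompsonSubgroupOf_le S
  refine h.nm_of_red hG (hG.nrm _ (h.syl.pgrp.to_le hJ) (H5.thompsonSubgroupOf_ne_bot h.syl.pgrp
    (ne_bot_of_le_ne_bot h.ne h.le))) (L := 𝐍(V) ⊓ 𝐍(S ⊓ (𝐍(V) ⊓ 𝐂(V)))) ?_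
    (le_inf h.nrm (H1.le_normalizer_inf (le_norm_self S) (h.nrm.trans h1.2))) inf_le_left
    (h.red.down inf_le_left le_rfl (h2.frattini Nat.prime_two h1).ge)
  rw [jj, ← H5.thompsonSubgroupOf_eq_of_le (inf_le_left : S ⊓ (𝐍(V) ⊓ 𝐂(V)) ≤ S)
    (le_inf hJ (le_inf (hJ.trans h.nrm) (jj_le_cent (h.nf hG) h.le h.el)))]
  exact inf_le_right.trans (H5.normalizer_le_normalizer_thompsonSubgroupOf _)

theorem top (X : Subgroup G) : X ≠ ⊤ → S ≤ X → NM X V := by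
  induction X using H1.subgroup_strong_induction with
  | h X ih =>
  intro hX hSX
  have hS := h.syl.of_le hSX le_top
  have hVX := h.le.trans hSX
  have hJ : jj S ≤ S := H5.thompsonSubgroupOf_le S
  have key : ∀ Y ≤ X, S ≤ Y → NM Y V → br X Y ≤ 𝐍(br X V) := fun Y h1 h2 h3 => by
    rw [br, br, ← H1.bar_sup_self (od_le X) hVX]
    exact H1.bar_le_normalizer (h3.le_norm (hG.sol X hX) hS h2 h1)
  refine (nm_iff hVX).2 ((ch_br (hG.sol X hX) (hG.no.mono le_top)).pu (isSyl_br hS)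
    (H1.bar_mono h.le) (elemAb_br hVX h.el) (H1.bar_le_normalizer h.nrm)
    (nf_br hS.pgrp hSX h.le (h.nf hG)) (fun Y h1 h2 => ?_) ?_)
  · have h3 := (H1.bar_le_iff hSX).1 h2
    have h4 : H1.unbar X (od X) Y < X := lt_of_le_of_ne (H1.unbar_le Y) fun e => h1 (by
      rw [← H1.bar_unbar Y, e, H1.bar_top])
    rw [← H1.bar_unbar Y]
    exact key _ h4.le h3 (ih _ h4 (ne_top_of_lt h4) h3)
  · have h1 : S ≤ 𝐍(jj S) :=
      (le_norm_self S).trans (H5.normalizer_le_normalizer_thompsonSubgroupOf S)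
    rw [jj_br hS.pgrp hSX, norm_br (hS.pgrp.to_le hJ) (hJ.trans hSX)]
    refine key _ inf_le_left (le_inf hSX h1) ?_
    have := (h.nm_jj hG).inf (h.le.trans h1) (inf_le_right : X ⊓ _ ≤ _) hS.pgrp h.le
      (h.syl.of_le (le_inf hSX h1) le_top) le_rfl
    rwa [inf_eq_left.2 h.le] at this

theorem norm_le : 𝐍(S) ≤ 𝐍(V) :=
  le_trans (le_inf le_rfl le_rfl) ((h.top hG _ (hG.nrm S h.syl.pgrp (ne_bot_of_le_ne_bot h.ne h.le))
    (le_norm_self S)).norm (h.le.trans (le_norm_self S)) h.syl.pgrp h.le)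

omit hG in
theorem card_lt {T : Subgroup G} (hT : T < S) : 𝐨(T) + 1 ≤ 𝐨(S ⊓ 𝐍(T)) :=
  H1.card_lt_of_lt (lt_inf_norm_of_isNilpotent (isNilpotent_of_isPGroup Nat.prime_two h.syl.pgrp) hT)

theorem fb_step {n : ℕ} (ha : FA S V (n + 1)) (hb : FB S V (n + 1)) : FB S V n := by
  intro X hX hT hn
  by_cases h0 : S ⊓ X = ⊥
  · rw [NM, le_bot_iff.1 ((inf_le_inf_right X h.le).trans h0.le), bot_sup_eq]
    exact le_norm_od X
  by_cases h1 : S ≤ X
  · rw [inf_eq_left.2 (h.le.trans h1)]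
    exact h.top hG X hX h1
  have h2 : S ⊓ X < S := lt_of_le_of_ne inf_le_left fun e => h1 (inf_eq_left.1 e)
  have h3 := (Nat.succ_le_succ hn).trans (h.card_lt h2)
  have hVX : V ⊓ (S ⊓ X) = V ⊓ X := by rw [← inf_assoc, inf_eq_left.2 h.le]
  have key : ∀ K ≤ S ⊓ X, K ≠ ⊥ → 𝐍(S ⊓ X) ≤ 𝐍(K) → X ⊓ 𝐍(K) ≤ 𝐍((V ⊓ X) ⊔ od X) := by
    intro K k1 k2 k3
    have k4 : S ⊓ X ≤ S ⊓ 𝐍(S ⊓ X) := le_inf inf_le_left (le_norm_self _)
    obtain ⟨g, g1, g2⟩ := exists_ext h.syl (h.syl.pgrp.to_le inf_le_left)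
      (inf_le_right.trans k3 : S ⊓ 𝐍(S ⊓ X) ≤ 𝐍(K))
    have g3 := ha _ inf_le_left h3 g g1
    have g4 : (S ⊓ 𝐍(S ⊓ X)) ^ᵍ g ≤ S ⊓ 𝐍(K) ^ᵍ g :=
      le_inf g1 (conj_mono (inf_le_right.trans k3) g)
    have g5 := (hb _ (fun e => hG.nrm K (hT.pgrp.to_le k1) k2 (conj_eq_top_iff.1 e)) g2
      (h3.trans ((card_conj _ g).ge.trans (card_le_of_le g4)))).conj g⁻¹
    rw [conj_conj_inv] at g5
    have k5 : S ⊓ X ≤ X ⊓ 𝐍(K) := le_inf inf_le_right ((le_norm_self _).trans k3)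
    have g6 := g5.inf (conj_le_iff.2 (by rw [inv_inv]; exact inf_le_right))
      (inf_le_right : X ⊓ _ ≤ _) (g2.conj g⁻¹).pgrp (conj_mono (inf_le_inf_right _ h.le) _)
      (hT.of_le k5 inf_le_left) (conj_le_iff.1 ((conj_mono k4 g).trans g4))
    have g7 : (V ⊓ 𝐍(K) ^ᵍ g) ^ᵍ g⁻¹ ⊓ (S ⊓ X) = V ⊓ X := by
      rw [← hVX]
      ext t
      rw [mem_inf, mem_inf, mem_conj, inv_inv, mem_inf]
      exact ⟨fun a => ⟨(g3.mem_iff (k4 a.2)).1 a.1.1, a.2⟩, fun a =>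
        ⟨⟨(g3.mem_iff (k4 a.2)).2 a.1, conj_mem_conj (k5 a.2).2 g⟩, a.2⟩⟩
    rw [g7] at g6
    exact g6.le_norm (hG.sol X hX) hT k5 inf_le_left
  exact (tf (hG.sol X hX) (hG.no.mono le_top) hT).trans (sup_le (sup_le
    (key _ (oz_le _) (oz_ne_bot hT.pgrp h0) (norm_le_norm_oz _))
    (key _ (H5.thompsonSubgroupOf_le _) (H5.thompsonSubgroupOf_ne_bot hT.pgrp h0)
      (H5.normalizer_le_normalizer_thompsonSubgroupOf _))) (le_sup_right.trans (le_norm_self _)))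

theorem rel_of_norm {n : ℕ} (ha : FA S V (n + 1)) (hb : FB S V (n + 1)) {T : Subgroup G}
    (hT : T < S) (h0 : T ≠ ⊥) (hn : n ≤ 𝐨(T)) (hs : IsSyl 2 (S ⊓ 𝐍(T)) 𝐍(T)) {x : G}
    (hx : x ∈ 𝐍(T)) : Rel V T x := by
  have hTp := h.syl.pgrp.to_le hT.le
  have h1 := (hb _ (hG.nrm T hTp h0) hs ((Nat.succ_le_succ hn).trans (h.card_lt hT))).frattini
    inf_le_right (h.pg.to_le inf_le_left) hx
  obtain ⟨o, ho, y, hy, rfl⟩ := (mem_sup_of_norm (inf_le_left.trans (le_norm_od _))).1 h1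
  refine Rel.mul_cent ?_ hy.1 (le_cent_of_norm_of_coprime (od_le _)
    ((le_norm_self T).trans (le_norm_od _)) (H1.coprime_card_of_isPGroup hTp (od_cop _)).symm ho)
  by_cases h2 : V ⊓ 𝐍(T) ≤ T
  · refine ⟨y, ?_, fun _ _ => rfl⟩
    have h3 : V ≤ T := by
      by_contra h3
      have h4 := lt_inf_norm_of_isNilpotent (isNilpotent_of_isPGroup Nat.prime_two
        (h.syl.pgrp.to_le (sup_le h.le hT.le))) (right_lt_sup.2 h3)
      rw [sup_inf_of_le_right (hT.le.trans h.nrm) (le_norm_self T), sup_eq_right.2 h2] at h4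
      exact h4.false
    have := hy.2
    rwa [inf_eq_left.2 (h3.trans (le_norm_self T))] at this
  · have h3 : (V ⊓ 𝐍(T)) ⊔ T ≤ S := sup_le (inf_le_left.trans h.le) hT.le
    refine (ha _ h3 ((Nat.succ_le_succ hn).trans (H1.card_lt_of_lt (right_lt_sup.2 h2))) y ?_).mono
      le_sup_right
    rwa [conj_sup, conj_eq_of_mem_norm hy.1, conj_eq_of_mem_norm hy.2]

theorem fa_step {n : ℕ} (ha : FA S V (n + 1)) (hb : FB S V (n + 1)) : FA S V n := by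
  intro T hT hn k hk
  by_cases h0 : T = ⊥
  · exact ⟨1, one_mem _, fun t ht => by rw [h0, mem_bot] at ht; simp [ht]⟩
  by_cases h1 : T = S
  · exact ⟨k, h.norm_le hG (mem_norm_of_conj_le (h1 ▸ hk)), fun _ _ => rfl⟩
  have key : ∀ g : G, T ^ᵍ g ≤ S → T ^ᵍ g < S := fun g hg => lt_of_le_of_ne hg fun e =>
    h1 (H1.eq_of_le_of_card_le hT (by rw [← e, card_conj]))
  have h2 := lt_of_le_of_ne hT h1
  obtain ⟨g, g1, g2⟩ := exists_ext h.syl (h.syl.pgrp.to_le inf_le_left)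
    (inf_le_right : S ⊓ 𝐍(T) ≤ _)
  have g3 := (ha _ inf_le_left ((Nat.succ_le_succ hn).trans (h.card_lt h2)) g g1).mono
    (le_inf hT (le_norm_self T))
  have g4 : T ^ᵍ g ≤ S := (conj_mono (le_inf hT (le_norm_self T)) g).trans g1
  rw [← norm_conj] at g2
  obtain ⟨x, x1, x2⟩ := g2.exists_conj_le Nat.prime_two
    (Q := (S ⊓ 𝐍(T ^ᵍ k)) ^ᵍ (g * k⁻¹)) ((h.syl.pgrp.to_le inf_le_left).map _) (by
      refine (conj_mono inf_le_right _).trans (le_of_eq ?_)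
      rw [← norm_conj, conj_conj, inv_mul_cancel_right])
  rw [conj_conj] at x2
  have x3 := ((ha _ inf_le_left ((Nat.succ_le_succ (hn.trans (card_conj T k).ge)).trans
    (h.card_lt (key k hk))) _ (x2.trans inf_le_left)).mono (le_inf hk (le_norm_self _))).inv
  have x4 := g3.trans (h.rel_of_norm hG ha hb (key g g4) (fun e => h0 (conj_eq_bot_iff.1 e))
    (hn.trans (card_conj T g).ge) g2 x1)
  rw [conj_conj, show x * (g * k⁻¹) * k = x * g by group] at x3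
  have := x4.trans x3
  rwa [show (x * (g * k⁻¹))⁻¹ * (x * g) = k by group] at this

theorem fab (n : ℕ) : FA S V n ∧ FB S V n := by
  have key : ∀ k, FA S V (𝐨(S) + 1 - k) ∧ FB S V (𝐨(S) + 1 - k) := fun k => by
    induction k with
    | zero =>
      exact ⟨fun T hT hn => absurd (hn.trans (card_le_of_le hT)) (by omega),
        fun X _ _ hn => absurd (hn.trans (card_le_of_le inf_le_left)) (by omega)⟩
    | succ k ih =>
      by_cases hk : 𝐨(S) + 1 - k = 0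
      · rwa [show 𝐨(S) + 1 - (k + 1) = 𝐨(S) + 1 - k by omega]
      · rw [show 𝐨(S) + 1 - k = 𝐨(S) + 1 - (k + 1) + 1 by omega] at ih
        exact ⟨h.fa_step hG ih.1 ih.2, h.fb_step hG ih.1 ih.2⟩
  have := key (𝐨(S) + 1)
  rw [Nat.sub_self] at this
  exact ⟨fun T hT _ => this.1 T hT (Nat.zero_le _), fun X a b _ => this.2 X a b (Nat.zero_le _)⟩

/-- `N(V)` controls fusion in `S`. -/
theorem rel {T : Subgroup G} (hT : T ≤ S) {g : G} (hg : T ^ᵍ g ≤ S) : Rel V T g :=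
  (h.fab hG 0).1 T hT (Nat.zero_le _) g hg

theorem nm {X : Subgroup G} (hX : X ≠ ⊤) (hs : IsSyl 2 (S ⊓ X) X) : NM X (V ⊓ X) :=
  (h.fab hG 0).2 X hX hs (Nat.zero_le _)

theorem rel1 {t g : G} (ht : t ∈ S) (hg : g * t * g⁻¹ ∈ S) :
    ∃ m ∈ 𝐍(V), g * t * g⁻¹ = m * t * m⁻¹ :=
  (h.rel hG (zpowers_le.2 ht) (by rw [← zpowers_conj]; exact zpowers_le.2 hg)).imp
    fun _ a => ⟨a.1, a.2 t (mem_zpowers t)⟩

end VV

end Cfsg.Agent.H7.SC
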