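import Cfsg.Agent.H7.SC4
import Cfsg.Agent.H2.ZC1
import Cfsg.Agent.P6.SE
import Cfsg.Agent.P1.C_1
import Cfsg.Agent.FT.Final

/-! From control of fusion to a strongly embedded subgroup. -/

set_option autoImplicit false
set_option linter.unusedSectionVars false

namespace Cfsg.Agent.H7.SC

open Subgroup Cfsg Cfsg.Agent Cfsg.Agent.FT MulAction
open Cfsg.Agent.H2.ZC (oc wc CSolv)
open Cfsg.Agent.P6 (SE)
open scoped commutatorElement Pointwise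

universe u

variable {G : Type u} [Group G] [Finite G]

theorem Loc.cent1_ne (hG : Loc G) {t : G} (ht : P6.Inv t) : 𝐂[t] ≠ ⊤ := fun e =>
  hG.nrm _ ht.isPGroup (zpowers_ne_bot.2 ht.ne)
    (top_le_iff.1 (e.ge.trans ((cent_zpowers t).ge.trans (cent_le_norm _))))

theorem Loc.cs (hG : Loc G) : CSolv G := fun t h1 h2 =>
  hG.sol _ (hG.cent1_ne ⟨h1, by rw [← pow_two, h2]⟩)

theorem card_le_sq {V : Subgroup G} (hV : IsElementaryAbelian 2 V) {t : G} (ht : t * t = 1)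
    (hn : t ∈ 𝐍(V)) : 𝐨(V) ≤ 𝐨(V ⊓ 𝐂[t]) ^ 2 := by
  obtain ⟨C, h1, h2⟩ := H2.exists_commKer (Y := V) (K := ⊥) (isMulComm_iff_comm_eq_bot.1 hV.1).le
    (le_top.trans norm_bot.ge) hn
  have h3 : C = V ⊓ 𝐂[t] := by
    ext y
    rw [h1, mem_inf, mem_bot, commutatorElement_eq_one_iff_mul_comm, mem_cent1, eq_comm]
  have hi : t⁻¹ = t := inv_eq_of_mul_eq_one_right ht
  have h4 := h2 (V ⊓ 𝐂[t]) inf_le_left fun y hy => by
    have a1 : t * y⁻¹ * t⁻¹ ∈ V := (mem_normalizer_iff.1 hn _).1 (inv_mem hy)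
    have a2 : y⁻¹ = y := by rw [inv_eq_iff_mul_eq_one, ← pow_two, hV.2 y hy]
    have a3 := isMulComm_iff_le_cent.1 hV.1 a1 y hy
    refine mem_inf.2 ⟨by simpa only [commutatorElement_def, mul_assoc] using mul_mem hy a1, ?_⟩
    rw [mem_cent1, commutatorElement_def]
    rw [a2, hi] at a3 ⊢
    calc t * (y * t * y * t) = t * (y * (t * y * t)) := by group
      _ = (t * t) * (y * t * y) := by rw [a3]; group
      _ = y * t * y * (t * t) := by rw [ht]; group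
      _ = _ := by group
  rw [relIndex_bot_left, h3] at h4
  rw [← H1.card_mul_relIndex (inf_le_left : V ⊓ 𝐂[t] ≤ V), pow_two]
  exact Nat.mul_le_mul_left _ h4

theorem exists_isElem {V : Subgroup G} (hV : IsElementaryAbelian 2 V) {k : ℕ}
    (h : 2 ^ k < 2 * 𝐨(V)) : ∃ B ≤ V, IsElem 2 k B := by
  obtain ⟨n, hn⟩ := elemAb_exists_isElem Nat.prime_two hV
  rw [hn.card, ← pow_succ'] at h
  exact hn.exists_le Nat.prime_two (Nat.lt_succ_iff.1 ((Nat.pow_lt_pow_iff_right one_lt_two).1 h))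

theorem smul_mk_eq_iff {M : Subgroup G} {a g : G} :
    a • (g : G ⧸ M) = g ↔ g⁻¹ * a * g ∈ M := by
  rw [eq_comm, mul_assoc]; exact QuotientGroup.eq

theorem stab_one (M : Subgroup G) : stabilizer G ((1 : G) : G ⧸ M) = M := by
  ext a; rw [mem_stabilizer_iff, smul_mk_eq_iff]; simp

theorem se_quot {S M : Subgroup G} (hS : IsSyl 2 S ⊤) (hSM : S ≤ M)
    (h : ∀ s ∈ S, P6.Inv s → ∀ g : G, g * s * g⁻¹ ∈ S → g ∈ M) : SE G (G ⧸ M) := by
  refine ⟨fun {c} hc x y hx hy => ?_, fun {c} hc => ?_⟩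
  · obtain ⟨x, rfl⟩ := QuotientGroup.mk_surjective x
    obtain ⟨y, rfl⟩ := QuotientGroup.mk_surjective y
    have key : ∀ z : G, c • (z : G ⧸ M) = z → ∃ m ∈ M, m * (z⁻¹ * c * z) * m⁻¹ ∈ S := fun z hz => by
      obtain ⟨m, hm, e⟩ := (hS.of_le hSM le_top).exists_conj_le Nat.prime_two
        (hc.conj' z).isPGroup (zpowers_le.2 (smul_mk_eq_iff.1 hz))
      exact ⟨m, hm, e (conj_mem_conj (mem_zpowers _) m)⟩
    obtain ⟨m, hm, e1⟩ := key x hx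
    obtain ⟨k, hk, e2⟩ := key y hy
    have := h _ e2 ((hc.conj' y).conj k) (m * (x⁻¹ * y) * k⁻¹) (by convert e1 using 1; group)
    exact QuotientGroup.eq.2 ((mul_mem_cancel_left hm).1 ((mul_mem_cancel_right (inv_mem hk)).1 this))
  · obtain ⟨g, -, e⟩ := hS.exists_le_conj Nat.prime_two hc.isPGroup le_top
    exact ⟨(g : G ⧸ M), smul_mk_eq_iff.2 (hSM (mem_conj.1 (e (mem_zpowers c))))⟩

namespace VV

variable {S V : Subgroup G} (h : VV S V) (hG : Loc G)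
include h hG

theorem exists_ext {t : G} (ht : P6.Inv t) (htS : t ∈ S) :
    ∃ m ∈ 𝐍(V), H2.ZC.Ext S (m * t * m⁻¹) := by
  obtain ⟨k, hk⟩ := H2.ZC.exists_ext h.syl (s := t) (by rw [pow_two, ht.sq])
  obtain ⟨m, hm, e⟩ := h.rel1 hG htS hk.1
  exact ⟨m, hm, e ▸ hk⟩

theorem cent_le (h8 : 5 ≤ 𝐨(V)) {t : G} (ht : P6.Inv t) (htS : t ∈ S) : 𝐂[t] ≤ 𝐍(wc V ⊔ V) := by
  have hNV : 𝐍(V) ≤ 𝐍(wc V ⊔ V) := fun g hg => conj_eq_self_iff.1 (by
    rw [conj_sup, ← H2.ZC.wc_conj, conj_eq_of_mem_norm hg])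
  have k1 : ∀ t : G, P6.Inv t → H2.ZC.Ext S t → 𝐍(V ⊓ 𝐂[t]) ≤ 𝐍(wc V ⊔ V) → 𝐂[t] ≤ 𝐍(wc V ⊔ V) := by
    intro t ht he hn
    refine ((h.nm hG (hG.cent1_ne ht) he.2).frattini inf_le_right (h.pg.to_le inf_le_left)).trans
      (sup_le ?_ (inf_le_right.trans hn))
    have a1 := card_le_sq h.el ht.sq (h.nrm he.1)
    obtain ⟨B, b1, b2⟩ := exists_isElem (k := 2) (elemAb_of_le (inf_le_left : V ⊓ 𝐂[t] ≤ V) h.el)
      (by nlinarith)
    have := hG.cs.oc_le_wc b2 ht.ne (by rw [pow_two, ht.sq])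
      (mem_cent_iff_cent1.2 (b1.trans inf_le_right))
    rw [← hG.cs.wc_eq h.el (b1.trans inf_le_left) b2] at this
    exact this.trans (le_sup_left.trans (le_norm_self _))
  have k2 : ∀ t m : G, m ∈ 𝐍(V) → 𝐂[m * t * m⁻¹] ≤ 𝐍(wc V ⊔ V) → 𝐂[t] ≤ 𝐍(wc V ⊔ V) := by
    intro t m hm e
    rwa [cent1_conj, conj_le_iff, conj_eq_of_mem (inv_mem (hNV hm))] at e
  have k3 : ∀ v ∈ V, v ≠ 1 → 𝐂[v] ≤ 𝐍(wc V ⊔ V) := fun v hv h1 => by
    have hi : P6.Inv v := ⟨h1, by rw [← pow_two, h.el.2 v hv]⟩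
    obtain ⟨m, hm, e⟩ := h.exists_ext hG hi (h.le hv)
    refine k2 v m hm (k1 _ (hi.conj m) e ?_)
    rw [inf_eq_left.2 ((isMulComm_iff_le_cent.1 h.el.1).trans
      (cent_le_cent1 ((mem_normalizer_iff.1 hm v).1 hv)))]
    exact hNV
  obtain ⟨m, hm, e⟩ := h.exists_ext hG ht htS
  refine k2 t m hm (k1 _ (ht.conj m) e fun x hx => ?_)
  have a1 := card_le_sq h.el (ht.conj m).sq (h.nrm e.1)
  obtain ⟨⟨v, hv⟩, h1⟩ := ne_bot_iff_exists_ne_one.1 (show V ⊓ 𝐂[m * t * m⁻¹] ≠ ⊥ from fun e => by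
    rw [e, card_bot] at a1; omega)
  obtain ⟨k, hk, e'⟩ := h.rel hG (inf_le_left.trans h.le) (g := x)
    ((conj_eq_of_mem_norm hx).le.trans (inf_le_left.trans h.le))
  have a2 : k⁻¹ * x ∈ 𝐂[v] := mem_cent1_iff_conj.2 (by
    calc _ = k⁻¹ * (x * v * x⁻¹) * k := by group
      _ = _ := by rw [e' v hv]; group)
  exact (mul_mem_cancel_left (inv_mem (hNV hk))).1
    (k3 v hv.1 (fun e => h1 (Subtype.ext e)) a2)

theorem exists_se (hs : IsSimpleGroup G) (h8 : 5 ≤ 𝐨(V)) :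
    ∃ M : Subgroup G, M ≠ ⊤ ∧ 𝐍(V) ≤ M ∧ SE G (G ⧸ M) := by
  have hNV : 𝐍(V) ≤ 𝐍(wc V ⊔ V) := fun g hg => conj_eq_self_iff.1 (by
    rw [conj_sup, ← H2.ZC.wc_conj, conj_eq_of_mem_norm hg])
  refine ⟨_, fun e => ?_, hNV, se_quot h.syl (h.nrm.trans hNV) fun s hs hi g hg => ?_⟩
  · obtain ⟨A, a1, a2⟩ := exists_isElem (k := 3) h.el (by omega)
    obtain ⟨B, b1, b2⟩ := a2.exists_le Nat.prime_two (k := 2) (by omega)
    have h1 := (hG.cs.e8 a2).1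
    rw [hG.cs.wc_eq a2.1 b1 b2, ← hG.cs.wc_eq h.el (b1.trans a1) b2] at h1
    have h2 : V ≤ 𝐍(wc V) := fun g hg => conj_eq_self_iff.1 (by
      rw [← H2.ZC.wc_conj, conj_eq_of_mem hg])
    rcases hs.eq_bot_or_eq_top_of_normal _ (normal_iff_top_le.2 e.ge) with h3 | h3
    · exact h.ne (le_bot_iff.1 (le_sup_right.trans h3.le))
    rcases hs.eq_bot_or_eq_top_of_normal (wc V)
      (normal_iff_top_le.2 (h3.ge.trans (sup_le (le_norm_self _) h2))) with h4 | h4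
    · rw [h4, bot_sup_eq] at h3
      exact hG.nrm V h.pg h.ne (by rw [h3, norm_top])
    · have := H1.inf_eq_bot_of_coprime' (H1.coprime_card_of_isPGroup h.pg h1)
      rw [h4, top_inf_eq] at this
      exact h.ne this
  · obtain ⟨m, hm, e⟩ := h.rel1 hG hs hg
    have a2 : m⁻¹ * g ∈ 𝐂[s] := mem_cent1_iff_conj.2 (by
      calc _ = m⁻¹ * (g * s * g⁻¹) * m := by group
        _ = _ := by rw [e]; group)
    exact (mul_mem_cancel_left (inv_mem (hNV hm))).1 (h.cent_le hG h8 hi hs a2)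

theorem exists_move (hs : IsSimpleGroup G) :
    ∃ z ∈ V, z ≠ 1 ∧ S ≤ 𝐂[z] ∧ ¬ 𝐍(V) ≤ 𝐂[z] := by
  obtain ⟨⟨z, hz⟩, h1⟩ := ne_bot_iff_exists_ne_one.1 (inf_center_ne_bot
    (isNilpotent_of_isPGroup Nat.prime_two h.syl.pgrp) ⟨h.le, h.nrm⟩ h.ne)
  have h1' : z ≠ 1 := fun e => h1 (Subtype.ext e)
  have hi : P6.Inv z := ⟨h1', by rw [← pow_two, h.el.2 z hz.1]⟩
  refine ⟨z, hz.1, h1', mem_cent_iff_cent1.1 hz.2, fun hc => hG.cent1_ne hi (top_le_iff.1 ?_)⟩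
  obtain ⟨P, hP⟩ := h.syl.exists_sylow_top Nat.prime_two
  have h2 := P1.zstar_sylow P hi.orderOf_eq (hP.ge (h.le hz.1)) fun g hg => by
    obtain ⟨m, hm, e⟩ := h.rel1 hG (h.le hz.1) (hP.le hg)
    rw [e]
    exact mem_cent1_iff_conj.1 (hc hm)
  rcases hs.eq_bot_or_eq_top_of_normal (pPrimeCore 2 G) inferInstance with h3 | h3
  · intro g _
    have := h2 g
    rw [h3, mem_bot, commutatorElement_eq_one_iff_mul_comm] at this
    exact mem_cent1.2 this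
  · have := H1.inf_eq_bot_of_coprime' (H1.coprime_card_of_isPGroup h.pg
      (L.coprime_card_pPrimeCore (G := G) 2))
    rw [h3, top_inf_eq] at this
    exact absurd this h.ne

end VV

end Cfsg.Agent.H7.SC
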