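import Cfsg.Agent.H2.Sig3A
import Cfsg.Agent.S3815
import Cfsg.Agent.FT.BG01
import Cfsg.Agent.FT.BG03a
import Cfsg.Agent.FT.B.helper1_Core
import Cfsg.Agent.L.SimpleRed

/-! Minimal simple groups without generating pairs: local structure. -/

set_option autoImplicit false
set_option linter.unusedSectionVars false

namespace Cfsg.Agent.H7.TG

open Subgroup Cfsg Cfsg.Agent Cfsg.Agent.FT
open scoped commutatorElement Pointwise

universe u

variable {G : Type u} [Group G] [Finite G]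

/-- A minimal simple group that is not generated by two elements. -/
structure Min (G : Type u) [Group G] : Prop where
  simple : IsSimpleGroup G
  ns : ¬ Group.IsSolvable G
  sol : ∀ H : Subgroup G, H ≠ ⊤ → Group.IsSolvable H
  two : ∀ x y : G, zpowers x ⊔ zpowers y ≠ ⊤

theorem solv_top (h : Group.IsSolvable (⊤ : Subgroup G)) : Group.IsSolvable G :=
  solvable_of_surjective (f := (⊤ : Subgroup G).subtype) fun x => ⟨⟨x, mem_top x⟩, rfl⟩

theorem sup_zpowers_coprime {p : ℕ} (hp : p.Prime) {O : Subgroup G} {g : G} (hO : 𝐨(O).Coprime p)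
    (hg : (orderOf g).Coprime p) (hn : g ∈ 𝐍(O)) : 𝐨(O ⊔ zpowers g).Coprime p := by
  rw [← isPi_compl_singleton_iff hp, sup_comm]
  refine isPi_sup ((isPi_compl_singleton_iff hp).2 (by rwa [Nat.card_zpowers]))
    ((isPi_compl_singleton_iff hp).2 hO) (zpowers_le.2 hn)

theorem cop_core {p : ℕ} (hp : p.Prime) (H : Subgroup G) : 𝐨(H2.pPrimeCoreOf p H).Coprime p :=
  ((Nat.Prime.coprime_iff_not_dvd hp).2 (not_dvd_card_pPrimeCoreOf hp H)).symm

theorem cop_pgrp {p n : ℕ} (hp : p.Prime) {P : Subgroup G} (hP : IsPGroup p P)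
    (h : n.Coprime p) : n.Coprime 𝐨(P) :=
  haveI := Fact.mk hp
  H1.coprime_card_of_isPGroup hP h

theorem zl_ne {p : ℕ} (hp : p.Prime) {P : Subgroup G} (hP : IsPGroup p P) (h : P ≠ ⊥) :
    H2.zl P ≠ ⊥ :=
  haveI := isNilpotent_of_isPGroup hp hP
  H2.zl_ne_bot h

namespace Min

variable (h : Min G)
include h

theorem norm_ne_top {U : Subgroup G} (hU : Group.IsSolvable U) (h1 : U ≠ ⊥) : 𝐍(U) ≠ ⊤ := by
  intro e
  have := h.simple
  have : U.Normal := normal_iff_top_le.2 e.ge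
  exact h1 (Agent.L.eq_bot_of_normal_of_isSolvable h.ns U hU)

theorem norm_ne_top_p {p : ℕ} (hp : p.Prime) {U : Subgroup G} (hU : IsPGroup p U) (h1 : U ≠ ⊥) :
    𝐍(U) ≠ ⊤ :=
  h.norm_ne_top (isSolvable_of_isNilpotent (isNilpotent_of_isPGroup hp hU)) h1

theorem cent1_ne_top {x : G} (hx : x ≠ 1) : 𝐂[x] ≠ ⊤ := by
  intro e
  refine h.norm_ne_top (U := zpowers x) (isSolvable_of_isNilpotent (isNilpotent_of_isMulComm
    (isMulComm_of_isCyclic inferInstance))) (by simpa using hx) (eq_top_iff.2 ?_)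
  rw [← e, ← cent_zpowers]
  exact cent_le_norm _

theorem core_cent1 {p : ℕ} (hp : p.Prime) {x : G} (hx : orderOf x = p) :
    H2.pPrimeCoreOf p 𝐂[x] = ⊥ := by
  have := Fact.mk hp
  have := h.simple
  have hG : pPrimeCore p G = ⊥ := by
    rcases (inferInstance : (pPrimeCore p G).Normal).eq_bot_or_eq_top with e | e
    · exact e
    · exfalso
      refine Agent.L.not_dvd_card_pPrimeCore (G := G) hp ?_
      rw [e, card_top, ← hx]
      exact orderOf_dvd_natCard x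
  rw [eq_bot_iff, ← hG]
  intro d hd
  have hdo : (orderOf d).Coprime p :=
    (cop_core hp _).coprime_dvd_left (orderOf_dvd_card_of_mem hd)
  have hdx : d ∈ 𝐂[x] := (pPrimeCoreOf_normal p _).1 hd
  refine S3815.result d hdo fun g hg => ?_
  have hc : Commute x d := mem_cent1_iff_commute.1 hdx
  have hxp : IsPiElt {p} x := fun r hr hd => by
    rw [hx] at hd
    exact (Nat.prime_dvd_prime_iff_eq hr hp).1 hd
  have hdp : IsPiElt {p}ᶜ d := fun r hr hd' e => by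
    rw [Set.mem_singleton_iff] at e
    exact hr.one_lt.ne' (Nat.eq_one_of_dvd_coprimes hdo hd' (e ▸ dvd_rfl))
  set H := zpowers (x * d) ⊔ zpowers g with hH
  have hxH : x ∈ H := by
    rw [← piPt_mul_eq hxp hdp hc]
    exact piPt_mem (mem_sup_left (mem_zpowers _)) _
  have hdH : d ∈ H := by
    rw [← piPt_compl_mul_eq hxp hdp hc]
    exact piPt_mem (mem_sup_left (mem_zpowers _)) _
  have hs := h.sol H (h.two _ _)
  have h1 : d ∈ H2.pPrimeCoreOf p (H ⊓ 𝐂(zpowers x)) := by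
    rw [cent_zpowers, pPrimeCoreOf_eq hp]
    refine piCoreOf_inf_le _ (inf_le_right : H ⊓ 𝐂[x] ≤ 𝐂[x]) (mem_inf.2 ⟨?_, hdH, hdx⟩)
    rwa [← pPrimeCoreOf_eq hp]
  have h2 := pPrimeCore_cent_pgroup hp hs (zpowers_le.2 hxH)
    (isPGroup_of_card_prime (by rw [Nat.card_zpowers, hx])) h1
  have h3 := sup_zpowers_coprime hp (cop_core hp H) hg
    ((pPrimeCoreOf_normal p H).2 (mem_sup_right (mem_zpowers g)))
  exact h3.coprime_dvd_left (orderOf_dvd_card_of_mem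
    (mul_mem (mem_sup_left h2) (mem_sup_right (mem_zpowers g))))

theorem core_norm {p : ℕ} (hp : p.Prime) {U : Subgroup G} (hU : IsPGroup p U) (h1 : U ≠ ⊥) :
    H2.pPrimeCoreOf p 𝐍(U) = ⊥ := by
  obtain ⟨x, hx, hxo⟩ := exists_mem_orderOf_eq_prime hp (prime_dvd_card_of_isPGroup hp
    (hU.to_le (inf_le_left : 𝐙(U) ≤ U)) (center_ne_bot (isNilpotent_of_isPGroup hp hU) h1))
  have hx1 : x ≠ 1 := by
    rintro rfl
    rw [orderOf_one] at hxo
    exact hp.one_lt.ne hxo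
  have hD := pPrimeCoreOf_normal p 𝐍(U)
  have hDU : H2.pPrimeCoreOf p 𝐍(U) ≤ 𝐂(U) :=
    le_cent_of_norm_of_coprime hD.1 ((le_norm_self U).trans hD.2)
      (cop_pgrp hp hU (cop_core hp _)).symm
  have hUx : U ≤ 𝐂[x] := mem_cent_iff_cent1.1 hx.2
  have h2 := pPrimeCore_cent_pgroup hp (h.sol _ (h.cent1_ne_top hx1)) hUx hU
  rw [h.core_cent1 hp hxo] at h2
  refine eq_bot_iff.2 (le_trans (le_pPrimeCoreOf ⟨le_inf (hDU.trans (cent_le_cent1 hx.1)) hDU,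
    inf_le_right.trans ((cent_le_norm U).trans hD.2)⟩ (cop_core hp _)) h2)

end Min

theorem norm_le_norm_zl (S : Subgroup G) : 𝐍(S) ≤ 𝐍(H2.zl S) := H2.normalizer_le_normalizer_zl S

theorem fac {p : ℕ} (hp : p.Prime) (h5 : 5 ≤ p) {H T : Subgroup G} (hs : Group.IsSolvable H)
    (hT : IsSyl p T H) {g : G} (hg : g ∈ H) :
    ∃ o ∈ H2.pPrimeCoreOf p H, ∃ n ∈ H ⊓ 𝐍(H2.zl T), g = o * n := by
  have := Fact.mk hp
  exact H2.exists_mul_normalizer_zl' h5 hs hT.le hT.pgrp hT.ndvd g hg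

namespace Min

variable (h : Min G) {p : ℕ} (hp : p.Prime) (h5 : 5 ≤ p) {S : Subgroup G} (hS : IsSyl p S ⊤)
include h hp h5 hS

theorem le_zl (H : Subgroup G) (hH : H ≠ ⊤) (h0 : H2.pPrimeCoreOf p H = ⊥) (h1 : H ⊓ S ≠ ⊥) :
    H ≤ 𝐍(H2.zl S) := by
  induction hn : 𝐨(S) - 𝐨(H ⊓ S) using Nat.strong_induction_on generalizing H with
  | _ n ih =>
  have key : ∀ T, IsSyl p T H → H ≤ 𝐍(H2.zl T) := fun T hT g hg => by
    obtain ⟨o, ho, m, hm, rfl⟩ := fac hp h5 (h.sol H hH) hT hg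
    rw [h0, mem_bot] at ho
    rw [ho, one_mul]
    exact hm.2
  have ih' : ∀ K : Subgroup G, K ≠ ⊤ → H2.pPrimeCoreOf p K = ⊥ → 𝐨(H ⊓ S) < 𝐨(K ⊓ S) →
      K ≤ 𝐍(H2.zl S) := fun K k1 k2 k3 => by
    have k4 : 𝐨(K ⊓ S) ≤ 𝐨(S) := card_le_of_le inf_le_right
    refine ih _ (by omega) K k1 k2 (fun e => ?_) rfl
    rw [e, card_bot] at k3
    have := Nat.card_pos (α := ↥(H ⊓ S))
    omega
  have hTp : IsPGroup p ↥(H ⊓ S) := hS.pgrp.to_le inf_le_right
  by_cases hT : H ⊓ S = S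
  · exact key S (hS.of_le (hT ▸ inf_le_left) le_top)
  have hlt := lt_inf_norm_of_isNilpotent (isNilpotent_of_isPGroup hp hS.pgrp)
    (lt_of_le_of_ne inf_le_right hT)
  have big : ∀ U : Subgroup G, IsPGroup p U → U ≠ ⊥ → 𝐍(H ⊓ S) ≤ 𝐍(U) → 𝐍(U) ≤ 𝐍(H2.zl S) :=
    fun U u1 u2 u3 => ih' _ (h.norm_ne_top_p hp u1 u2) (h.core_norm hp u1 u2)
      (H1.card_lt_of_lt (hlt.trans_le (le_inf (inf_le_right.trans u3) inf_le_left)))
  by_cases hsyl : IsSyl p (H ⊓ S) H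
  · exact (key _ hsyl).trans (big _ (hTp.to_le (H2.zl_le _))
      (zl_ne hp hTp h1)
      (norm_le_norm_zl _))
  obtain ⟨T, hT1, hT2⟩ := exists_isSyl_ge hp hTp (le_inf inf_le_left (le_norm_self (H ⊓ S)))
  have hlt2 : H ⊓ S < T := lt_of_le_of_ne hT2 fun e => hsyl (IsSyl.of_norm hp (e ▸ hT1))
  have hTM : T ≤ 𝐍(H2.zl S) := hT1.le.trans (inf_le_right.trans (big _ hTp h1 le_rfl))
  have hSM : IsSyl p S 𝐍(H2.zl S) := hS.of_le ((le_norm_self S).trans (norm_le_norm_zl S)) le_top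
  obtain ⟨m, hm, hm2⟩ := hSM.exists_conj_le hp hT1.pgrp hTM
  have := ih' (H ^ᵍ m) (by rwa [Ne, conj_eq_top_iff]) (by
    rw [pPrimeCoreOf_conj m H hp, h0, conj_bot]) ((H1.card_lt_of_lt hlt2).trans_le (by
      rw [← card_conj T m]
      exact card_le_of_le (le_inf (conj_mono (hT1.le.trans inf_le_left) m) hm2)))
  rw [conj_le_iff, conj_eq_of_mem (inv_mem hm)] at this
  exact this

theorem norm_le {U : Subgroup G} (hU : IsPGroup p U) (h1 : U ≠ ⊥) (hM : U ≤ 𝐍(H2.zl S)) :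
    𝐍(U) ≤ 𝐍(H2.zl S) := by
  have hSM : IsSyl p S 𝐍(H2.zl S) := hS.of_le ((le_norm_self S).trans (norm_le_norm_zl S)) le_top
  obtain ⟨m, hm, hm2⟩ := hSM.exists_conj_le hp hU hM
  have hU' : IsPGroup p ↥(U ^ᵍ m) := hS.pgrp.to_le hm2
  have h1' : U ^ᵍ m ≠ ⊥ := by rwa [Ne, conj_eq_bot_iff]
  have := h.le_zl hp h5 hS _ (h.norm_ne_top_p hp hU' h1') (h.core_norm hp hU' h1')
    fun e => h1' (eq_bot_iff.2 (e ▸ le_inf (le_norm_self _) hm2))
  rwa [norm_conj, conj_le_iff, conj_eq_of_mem (inv_mem hm)] at this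

theorem pgrp_le {X : Subgroup G} (hX : IsPGroup p X) (h1 : X ⊓ 𝐍(H2.zl S) ≠ ⊥) :
    X ≤ 𝐍(H2.zl S) := by
  by_contra hc
  have hlt := lt_inf_norm_of_isNilpotent (isNilpotent_of_isPGroup hp hX)
    (lt_of_le_of_ne (inf_le_left : X ⊓ 𝐍(H2.zl S) ≤ X) fun e => hc (e ▸ inf_le_right))
  exact hlt.not_ge (inf_le_inf_left _ (h.norm_le hp h5 hS (hX.to_le inf_le_left) h1 inf_le_right))

theorem le_of_not_cyclic {H E : Subgroup G} (hH : H ≠ ⊤) (hE : IsPGroup p E) (hEH : E ≤ H)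
    (hEc : ¬ IsCyclic E) (h1 : E ⊓ 𝐍(H2.zl S) ≠ ⊥) : H ≤ 𝐍(H2.zl S) := by
  obtain ⟨T, hT, hET⟩ := exists_isSyl_ge hp hE hEH
  have hTM := h.pgrp_le hp h5 hS hT.pgrp fun e => h1 (eq_bot_iff.2 (e ▸ inf_le_inf_right _ hET))
  have hTc : ¬ IsCyclic T := fun c => hEc (isCyclic_of_le hET c)
  have hT1 : T ≠ ⊥ := fun e => hTc (e ▸ inferInstance)
  obtain ⟨F, hF, hF2⟩ := exists_normal_isElem_two hp (by omega) hT.pgrp hTc
  have hO : H2.pPrimeCoreOf p H ≤ 𝐍(H2.zl S) := by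
    refine H1.le_of_forall_centralizer_le hF2.comm (hF2.not_isCyclic hp le_rfl)
      ((hF.1.trans hT.le).trans (pPrimeCoreOf_normal p H).2)
      (cop_pgrp hp hF2.pgrp (cop_core hp _)).symm fun a ha ha1 => ?_
    refine inf_le_right.trans (le_trans ?_ (h.norm_le hp h5 hS (U := zpowers a)
      (hF2.pgrp.to_le (zpowers_le.2 ha)) (by simpa using ha1) (zpowers_le.2 (hTM (hF.1 ha)))))
    rw [← cent_zpowers]
    exact cent_le_norm _
  intro g hg
  obtain ⟨o, ho, m, hm, rfl⟩ := fac hp h5 (h.sol H hH) hT hg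
  exact mul_mem (hO ho) (h.norm_le hp h5 hS (hT.pgrp.to_le (H2.zl_le _))
    (zl_ne hp hT.pgrp hT1)
    ((H2.zl_le _).trans hTM) hm.2)

end Min

end Cfsg.Agent.H7.TG
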