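import Cfsg.Agent.H7.TG1
import Cfsg.Agent.H5.ThompsonJ
import Cfsg.Agent.H6.Burnside

/-! Thompson's theorem: a finite group in which every two elements generate a solvable subgroup
is solvable. -/

set_option autoImplicit false
set_option linter.unusedSectionVars false

namespace Cfsg.Agent.H7.TG

open Subgroup Cfsg Cfsg.Agent Cfsg.Agent.FT
open scoped commutatorElement Pointwise

universe u

variable {G : Type u} [Group G] [Finite G]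

theorem le_of_cyclic {p : ℕ} (hp : p.Prime) {T P Z : Subgroup G} (hT : IsCyclic T)
    (hTp : IsPGroup p T) (hP : 𝐨(P) = p) (hPT : P ≤ T) (hZ : Z ≤ T) (h1 : Z ≠ ⊥) : P ≤ Z := by
  have := inf_ne_bot_of_isCyclic hp hT hTp hPT hZ (ne_bot_of_card_prime (hP ▸ hp)) h1
  exact (inf_eq_bot_or_le_of_card_prime (hP ▸ hp) Z).resolve_left this

/-- a `p'`-subgroup of `O P` lies in `O` -/
theorem le_of_le_sup {p : ℕ} (hp : p.Prime) {O P K : Subgroup G} (hO : 𝐨(O).Coprime p)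
    (hP : IsPGroup p P) (hn : P ≤ 𝐍(O)) (hK : 𝐨(K).Coprime p) (h : K ≤ O ⊔ P) : K ≤ O :=
  le_of_hall_normal (π := {p}ᶜ) (hall_of_sup (π := {p}) hn ((isPi_singleton_iff hp).2 hP)
    ((isPi_compl_singleton_iff hp).2 hO)).2 (sup_le (le_norm_self O) hn) h
    ((isPi_compl_singleton_iff hp).2 hK)

theorem norm_sup_of_fac {O P H : Subgroup G} (hO : O ⊲ H) (hP : P ≤ H)
    (hf : ∀ g ∈ H, ∃ o ∈ O, ∃ n ∈ H ⊓ 𝐍(P), g = o * n) : H ≤ 𝐍(O ⊔ P) := by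
  intro g hg
  obtain ⟨o, ho, n, hn, rfl⟩ := hf g hg
  refine mul_mem (le_norm_self _ (mem_sup_left ho)) ?_
  exact zpowers_le.1 (H1.le_normalizer_sup (zpowers_le.2 (hO.2 hn.1)) (zpowers_le.2 hn.2))

/-- `⟨P, P^o⟩ = ⟨P, P^a⟩` with `a` inside. -/
theorem exists_mem_conj {p : ℕ} (hp : p.Prime) {O P : Subgroup G} (hO : 𝐨(O).Coprime p)
    (hP : IsPGroup p P) (hn : P ≤ 𝐍(O)) {o : G} (ho : o ∈ O) :
    ∃ a ∈ P ⊔ P ^ᵍ o, P ^ᵍ a = P ^ᵍ o := by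
  have h1 : IsSyl p P (O ⊔ P) := (isSyl_iff_hall hp).2 (hall_of_sup (π := {p}) hn
    ((isPi_singleton_iff hp).2 hP) ((isPi_compl_singleton_iff hp).2 hO)).1
  have h2 : IsSyl p (P ^ᵍ o) (O ⊔ P) := h1.conj_of_mem_norm (le_norm_self _ (mem_sup_left ho))
  have h3 : P ⊔ P ^ᵍ o ≤ O ⊔ P := sup_le le_sup_right h2.le
  exact (h2.of_le le_sup_right h3).exists_conj_eq hp (h1.of_le le_sup_left h3)

namespace Min

variable (h : Min G) {p : ℕ} (hp : p.Prime)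
include h hp

theorem sup_ne_top {P : Subgroup G} (hP : 𝐨(P) = p) (g : G) : P ⊔ zpowers g ≠ ⊤ := by
  obtain ⟨x, rfl⟩ := isCyclic_iff_zpowers.1 (isCyclic_of_card_prime (hP ▸ hp))
  exact h.two x g

theorem exists_three {P : Subgroup G} (hP : 𝐨(P) = p) {a c : G} (ha : a ∈ P ⊔ P ^ᵍ a)
    (hc : c ∈ 𝐍(P)) : ∃ H : Subgroup G, H ≠ ⊤ ∧ P ≤ H ∧ a ∈ H ∧ c ∈ H := by
  have h1 : P ⊔ P ^ᵍ a ≤ P ⊔ zpowers (a * c) := by
    refine sup_le le_sup_left ?_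
    rw [← conj_eq_of_mem_norm hc, conj_conj, conj_eq_of_mem_norm hc]
    exact conj_le_of_mem le_sup_left (mem_sup_right (mem_zpowers _))
  refine ⟨_, h.sup_ne_top hp hP (a * c), le_sup_left, h1 ha, ?_⟩
  exact (mul_mem_cancel_left (h1 ha)).1 (mem_sup_right (mem_zpowers _))

variable (h5 : 5 ≤ p)
include h5

theorem fac_of_cyclic {H T P : Subgroup G} (hH : H ≠ ⊤) (hT : IsSyl p T H) (hc : IsCyclic T)
    (hP : 𝐨(P) = p) (hPT : P ≤ T) :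
    ∀ g ∈ H, ∃ o ∈ H2.pPrimeCoreOf p H, ∃ n ∈ H ⊓ 𝐍(P), g = o * n := by
  intro g hg
  obtain ⟨o, ho, n, hn, rfl⟩ := fac hp h5 (h.sol H hH) hT hg
  have h1 : T ≠ ⊥ := fun e => ne_bot_of_card_prime (hP ▸ hp) (eq_bot_iff.2 (e ▸ hPT))
  exact ⟨o, ho, n, ⟨hn.1, norm_le_norm_of_le_cyclic (isCyclic_of_le (H2.zl_le T) hc)
    (le_of_cyclic hp hc hT.pgrp hP hPT (H2.zl_le T) (zl_ne hp hT.pgrp h1)) hn.2⟩, rfl⟩

theorem syl_cyclic {S : Subgroup G} (hS : IsSyl p S ⊤) : IsCyclic S := by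
  by_contra hc
  have hS1 : S ≠ ⊥ := fun e => hc (e ▸ inferInstance)
  obtain ⟨P, hPZ, hP⟩ := exists_le_card_eq_prime hp (prime_dvd_card_of_isPGroup hp
    (hS.pgrp.to_le (inf_le_left : 𝐙(S) ≤ S)) (center_ne_bot (isNilpotent_of_isPGroup hp hS.pgrp) hS1))
  have hP1 : P ≠ ⊥ := ne_bot_of_card_prime (hP ▸ hp)
  have hPp : IsPGroup p P := isPGroup_of_card_prime hP
  have hSM : S ≤ 𝐍(H2.zl S) := (le_norm_self S).trans (norm_le_norm_zl S)
  have hPM : P ≤ 𝐍(H2.zl S) := (hPZ.trans inf_le_left).trans hSM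
  have hNM : 𝐍(P) ≤ 𝐍(H2.zl S) := h.norm_le hp h5 hS hPp hP1 hPM
  have hM := h.norm_ne_top_p hp (hS.pgrp.to_le (H2.zl_le S)) (zl_ne hp hS.pgrp hS1)
  obtain ⟨g, hg⟩ := SetLike.exists_not_mem_of_ne_top _ hM
  have hH := h.sup_ne_top hp hP g
  obtain ⟨T, hT, hPT⟩ := exists_isSyl_ge hp hPp (le_sup_left : P ≤ P ⊔ zpowers g)
  have hTc : IsCyclic T := by
    by_contra c
    exact hg (h.le_of_not_cyclic hp h5 hS hH hT.pgrp hT.le c
      (fun e => hP1 (eq_bot_iff.2 (e ▸ le_inf hPT hPM))) (mem_sup_right (mem_zpowers g)))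
  obtain ⟨o, ho, n, hn, e⟩ := h.fac_of_cyclic hp h5 hH hT hTc hP hPT g
    (mem_sup_right (mem_zpowers g))
  have hoM : o ∉ 𝐍(H2.zl S) := fun c => hg (e ▸ mul_mem c (hNM hn.2))
  obtain ⟨a, ha, e2⟩ := exists_mem_conj hp (cop_core hp _) hPp
    (le_sup_left.trans (pPrimeCoreOf_normal p _).2) ho
  have haM : a ∉ 𝐍(H2.zl S) := fun c => by
    have : a⁻¹ * o ∈ 𝐍(P) := by rw [← conj_eq_self_iff, ← conj_conj, ← e2, conj_conj_inv]
    exact hoM ((mul_mem_cancel_left (inv_mem c)).1 (hNM this))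
  obtain ⟨E, hE, hE2⟩ := exists_normal_isElem_two hp (by omega) hS.pgrp hc
  have hEP : ¬ E ≤ P := fun c => hE2.not_isCyclic hp le_rfl
    (isCyclic_of_le c (isCyclic_of_card_prime (hP ▸ hp)))
  obtain ⟨c, hcE, hcP⟩ := SetLike.not_le_iff_exists.1 hEP
  have hcC : c ∈ 𝐂(P) := cent_comm.1 (hPZ.trans inf_le_right) (hE.1 hcE)
  obtain ⟨H, hH', hPH, haH, hcH⟩ := h.exists_three hp hP (e2 ▸ ha) (cent_le_norm _ hcC)
  have hFS : P ⊔ zpowers c ≤ S := sup_le (hPZ.trans inf_le_left) (zpowers_le.2 (hE.1 hcE))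
  refine haM (h.le_of_not_cyclic hp h5 hS hH' (hS.pgrp.to_le hFS)
    (sup_le hPH (zpowers_le.2 hcH)) (fun cyc => hcP ?_)
    (fun e => hP1 (eq_bot_iff.2 (e ▸ le_inf le_sup_left hPM))) haH)
  have hc1 : c ≠ 1 := fun e => hcP (e ▸ one_mem P)
  have := eq_of_card_prime_of_isCyclic hp cyc le_sup_left le_sup_right hP
    (by rw [Nat.card_zpowers, elemAb_orderOf hp hE2.elemAb hcE hc1])
  exact this ▸ mem_zpowers c

theorem cyclic_of_pgrp {T : Subgroup G} (hT : IsPGroup p T) : IsCyclic T := by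
  obtain ⟨S, hS, hTS⟩ := exists_isSyl_ge hp hT le_top
  exact isCyclic_of_le hTS (h.syl_cyclic hp h5 hS)

variable {P : Subgroup G} (hP : 𝐨(P) = p)
include hP

theorem fpf {K : Subgroup G} (hK : 𝐨(K).Coprime p) : K ⊓ 𝐂(P) = ⊥ := by
  have := Fact.mk hp
  obtain ⟨x, hx⟩ := isCyclic_iff_zpowers.1 (isCyclic_of_card_prime (hP ▸ hp))
  have hxo : orderOf x = p := by rw [← Nat.card_zpowers, hx, hP]
  have hx1 : x ≠ 1 := by
    rintro rfl
    rw [orderOf_one] at hxo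
    omega
  have hC : 𝐂(P) = 𝐂[x] := by rw [← hx, cent_zpowers]
  have h1 := cent_pCoreOf_le hp (h.sol _ (h.cent1_ne_top hx1)) (h.core_cent1 hp hxo)
  have hR := pCoreOf_normal p 𝐂[x]
  have hRp : IsPGroup p (pCoreOf p 𝐂[x]) := (isPi_singleton_iff hp).1 (by
    rw [pCoreOf_eq hp]; exact isPi_piCoreOf _ _)
  have hD : 𝐨(K ⊓ 𝐂(P)).Coprime p := hK.coprime_dvd_left (FT.card_dvd_of_le inf_le_left)
  have hPR : P ≤ pCoreOf p 𝐂[x] := le_pCoreOf ⟨hx ▸ zpowers_le.2 (self_mem_cent1 x),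
    hC ▸ cent_le_norm P⟩ (isPGroup_of_card_prime hP)
  have h2 : K ⊓ 𝐂(P) ≤ 𝐂(pCoreOf p 𝐂[x]) := by
    refine H1.le_centralizer_of_centralizes_omega (by omega) hRp
      (inf_le_right.trans (hC ▸ hR.2)) hD fun y hy hyp => ?_
    have := eq_omegaOne_of_isCyclic hp (h.cyclic_of_pgrp hp h5 hRp) hPR hP
    exact cent_comm.1 inf_le_right (this ▸ mem_omegaOne hy hyp)
  have h3 : K ⊓ 𝐂(P) ≤ pCoreOf p 𝐂[x] := le_trans (le_inf (inf_le_right.trans hC.le) h2) h1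
  exact eq_bot_iff.2 ((le_inf le_rfl h3).trans (H1.inf_eq_bot_of_coprime' (cop_pgrp hp hRp hD)).le)

theorem fpf' {K : Subgroup G} (hK : 𝐨(K).Coprime p) (hn : P ≤ 𝐍(K)) : K ⊓ 𝐍(P) = ⊥ := by
  rw [H1.inf_normalizer_eq_inf_centralizer hn (H1.inf_eq_bot_of_coprime' (hP ▸ hK.symm))]
  exact h.fpf hp h5 hP hK

theorem fac' {H : Subgroup G} (hH : H ≠ ⊤) (hPH : P ≤ H) :
    ∀ g ∈ H, ∃ o ∈ H2.pPrimeCoreOf p H, ∃ n ∈ H ⊓ 𝐍(P), g = o * n := by
  obtain ⟨T, hT, hPT⟩ := exists_isSyl_ge hp (isPGroup_of_card_prime hP) hPH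
  exact h.fac_of_cyclic hp h5 hH hT (h.cyclic_of_pgrp hp h5 hT.pgrp) hP hPT

theorem inv_le {H K : Subgroup G} (hH : H ≠ ⊤) (hPH : P ≤ H) (hKH : K ≤ H) (hK : 𝐨(K).Coprime p)
    (hn : P ≤ 𝐍(K)) : K ≤ H2.pPrimeCoreOf p H := by
  have hO := pPrimeCoreOf_normal p H
  have h1 := norm_sup_of_fac hO hPH (h.fac' hp h5 hP hH hPH)
  have h2 : ⁅K, P⁆ = K := (semiReg_of_card_prime (hP ▸ hp) (h.fpf hp h5 hP hK)).comm_eq le_rfl
    (ne_bot_of_card_prime (hP ▸ hp)) hn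
  refine le_of_le_sup hp (cop_core hp H) (isPGroup_of_card_prime hP) (hPH.trans hO.2) hK ?_
  rw [← h2]
  exact (commutator_mono le_rfl le_sup_right).trans (comm_le_right_iff.2 (hKH.trans h1))

theorem nilp {K : Subgroup G} (hK : 𝐨(K).Coprime p) (hn : P ≤ 𝐍(K)) : Group.IsNilpotent K :=
  nilpotent_of_prime_reg hn (hP ▸ hp) (h.fpf hp h5 hP hK)

theorem le_der : P ≤ ⁅𝐍(P), 𝐍(P)⁆ := by
  have hPp : IsPGroup p P := isPGroup_of_card_prime hP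
  obtain ⟨S, hS, hPS⟩ := exists_isSyl_ge hp hPp le_top
  have hSc := h.syl_cyclic hp h5 hS
  have h1 : ¬ 𝐍(P) ≤ 𝐂(P) := by
    intro c
    have hNP : 𝐍(S) ≤ 𝐍(P) := norm_le_norm_of_le_cyclic hSc hPS
    have h2 : (⊤ : Subgroup G) ⊓ 𝐍(S) ≤ 𝐂(S) := by
      refine inf_le_right.trans (le_of_forall_isSyl_le fun r hr R hR => ?_)
      by_cases e : r = p
      · subst e
        exact (hS.le_of_norm hp hR.pgrp le_top hR.le).trans
          (isMulComm_iff_le_cent.1 (isMulComm_of_isCyclic hSc))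
      · have := h.fpf hp h5 hP (K := R) (hP ▸ coprime_card_of_isPGroup hr hp e hR.pgrp hPp)
        rw [inf_eq_left.2 (hR.le.trans (hNP.trans c))] at this
        rw [this]
        exact bot_le
    have h3 := (burnside_npc hp hS h2).sdProd hp hS
    have := h.simple
    have hn : (H2.pPrimeCoreOf p (⊤ : Subgroup G)).Normal :=
      normal_iff_top_le.2 (pPrimeCoreOf_normal p ⊤).2
    rcases hn.eq_bot_or_eq_top with e | e
    · have h4 := h3.sup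
      rw [e, bot_sup_eq] at h4
      exact h.ns (solv_top (h4 ▸ isSolvable_of_isNilpotent (isNilpotent_of_isPGroup hp hS.pgrp)))
    · refine not_dvd_card_pPrimeCoreOf hp (⊤ : Subgroup G) ?_
      rw [e, ← hP]
      exact FT.card_dvd_of_le le_top
  have h2 : ⁅𝐍(P), P⁆ ≠ ⊥ := fun e => h1 (comm_eq_bot_iff.1 e)
  have h3 := (eq_bot_or_eq_of_card_prime (hP ▸ hp) (comm_le_right_iff.2 le_rfl)).resolve_left h2
  rw [← h3]
  conv_rhs => rw [h3]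
  exact commutator_mono le_rfl (le_norm_self P)

end Min

end Cfsg.Agent.H7.TG
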