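import Cfsg.Agent.H7.TG2

/-! Thompson's theorem: a finite group in which every two elements generate a solvable subgroup
is solvable. -/

set_option autoImplicit false
set_option linter.unusedSectionVars false

namespace Cfsg.Agent.H7.TG

open Subgroup Cfsg Cfsg.Agent Cfsg.Agent.FT
open scoped commutatorElement Pointwise

universe u

variable {G : Type u} [Group G] [Finite G]

/-- maximal subgroups containing `P` and not normalizing it -/
structure Ln (P H : Subgroup G) : Prop where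
  max : IsCoatom H
  le : P ≤ H
  nn : ¬ H ≤ 𝐍(P)

theorem eq_of_coatom {H K : Subgroup G} (hH : IsCoatom H) (h : H ≤ K) (hK : K ≠ ⊤) : K = H := by
  by_contra c
  exact hK (hH.2 K (lt_of_le_of_ne h (Ne.symm c)))

theorem exists_coatom {K : Subgroup G} (hK : K ≠ ⊤) : ∃ H, IsCoatom H ∧ K ≤ H :=
  (eq_top_or_exists_le_coatom K).resolve_left hK

namespace Min

variable (h : Min G) {p : ℕ} (hp : p.Prime) (h5 : 5 ≤ p) {P : Subgroup G} (hP : 𝐨(P) = p)
include h hp h5 hP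

theorem ln_of {H K : Subgroup G} (hH : IsCoatom H) (hPH : P ≤ H) (hKH : K ≤ H)
    (hK : 𝐨(K).Coprime p) (hn : P ≤ 𝐍(K)) (h1 : K ≠ ⊥) : Ln P H :=
  ⟨hH, hPH, fun c => h1 (by rw [← h.fpf' hp h5 hP hK hn, inf_eq_left.2 (hKH.trans c)])⟩

theorem core_ne_bot {H : Subgroup G} (hH : Ln P H) : H2.pPrimeCoreOf p H ≠ ⊥ := by
  intro e
  refine hH.nn fun g hg => ?_
  obtain ⟨o, ho, n, hn, rfl⟩ := h.fac' hp h5 hP hH.max.1 hH.le g hg
  rw [e, mem_bot] at ho
  rw [ho, one_mul]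
  exact hn.2

theorem nilp_core {H : Subgroup G} (hH : Ln P H) : Group.IsNilpotent (H2.pPrimeCoreOf p H) :=
  h.nilp hp h5 hP (cop_core hp H) (hH.le.trans (pPrimeCoreOf_normal p H).2)

theorem norm_core {H : Subgroup G} (hH : Ln P H) : 𝐍(H2.pPrimeCoreOf p H) = H :=
  eq_of_coatom hH.max (pPrimeCoreOf_normal p H).2 (h.norm_ne_top
    (isSolvable_of_isNilpotent (h.nilp_core hp h5 hP hH)) (h.core_ne_bot hp h5 hP hH))

theorem ti (H H' : Subgroup G) (hH : Ln P H) (hH' : Ln P H')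
    (h1 : H2.pPrimeCoreOf p H ⊓ H2.pPrimeCoreOf p H' ≠ ⊥) : H = H' := by
  induction hn : Nat.card G - 𝐨(H2.pPrimeCoreOf p H ⊓ H2.pPrimeCoreOf p H')
    using Nat.strong_induction_on generalizing H H' with
  | _ n ih =>
  have key : ∀ A B : Subgroup G, Ln P A → Ln P B →
      H2.pPrimeCoreOf p A ≤ H2.pPrimeCoreOf p B → A = B := fun A B hA hB hle => by
    rcases hle.eq_or_lt with e | e
    · rw [← h.norm_core hp h5 hP hA, e, h.norm_core hp h5 hP hB]
    · exfalso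
      have h2 := lt_inf_norm_of_isNilpotent (h.nilp_core hp h5 hP hB) e
      rw [h.norm_core hp h5 hP hA] at h2
      exact h2.not_ge (h.inv_le hp h5 hP hA.max.1 hA.le inf_le_right
        ((cop_core hp B).coprime_dvd_left (FT.card_dvd_of_le inf_le_left))
        (H1.le_normalizer_inf (hB.le.trans (pPrimeCoreOf_normal p B).2)
          (hA.le.trans (le_norm_self A))))
  set D := H2.pPrimeCoreOf p H ⊓ H2.pPrimeCoreOf p H' with hD
  have hPD : P ≤ 𝐍(D) := H1.le_normalizer_inf (hH.le.trans (pPrimeCoreOf_normal p H).2)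
    (hH'.le.trans (pPrimeCoreOf_normal p H').2)
  obtain ⟨M, hM, hDM⟩ := exists_coatom (h.norm_ne_top (isSolvable_of_isNilpotent
    (isNilpotent_of_le inf_le_left (h.nilp_core hp h5 hP hH))) h1)
  have hLM : Ln P M := h.ln_of hp h5 hP hM (hPD.trans hDM) ((le_norm_self D).trans hDM)
    ((cop_core hp H).coprime_dvd_left (FT.card_dvd_of_le inf_le_left)) hPD h1
  have step : ∀ A : Subgroup G, Ln P A → D < H2.pPrimeCoreOf p A → A = M := fun A hA hlt => by
    have h2 := lt_inf_norm_of_isNilpotent (h.nilp_core hp h5 hP hA) hlt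
    have h3 : H2.pPrimeCoreOf p A ⊓ 𝐍(D) ≤ H2.pPrimeCoreOf p M :=
      h.inv_le hp h5 hP hM.1 hLM.le (inf_le_right.trans hDM)
        ((cop_core hp A).coprime_dvd_left (FT.card_dvd_of_le inf_le_left))
        (H1.le_normalizer_inf (hA.le.trans (pPrimeCoreOf_normal p A).2)
          (hPD.trans (le_norm_self _)))
    have h4 := h2.trans_le (le_inf inf_le_left h3)
    have h5' := H1.card_lt_of_lt h4
    have h6 : 𝐨(H2.pPrimeCoreOf p A ⊓ H2.pPrimeCoreOf p M) ≤ Nat.card G := card_le_card_group _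
    exact ih _ (by omega) A M hA hLM (fun e => not_lt_bot (e ▸ h4)) rfl
  rcases (inf_le_left : D ≤ _).eq_or_lt with e | e
  · exact key H H' hH hH' (e ▸ inf_le_right)
  rcases (inf_le_right : D ≤ _).eq_or_lt with e' | e'
  · exact (key H' H hH' hH (e' ▸ inf_le_left)).symm
  rw [step H hH e, step H' hH' e']

theorem norm_le_ln {H : Subgroup G} (hH : Ln P H) : 𝐍(P) ≤ H := by
  intro c hc
  have hO := pPrimeCoreOf_normal p H
  have hn := hH.le.trans hO.2
  obtain ⟨⟨o, ho⟩, ho1⟩ := ne_bot_iff_exists_ne_one.1 (h.core_ne_bot hp h5 hP hH)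
  obtain ⟨a, ha, e⟩ := exists_mem_conj hp (cop_core hp H) (isPGroup_of_card_prime hP) hn ho
  obtain ⟨K, hK, hPK, haK, hcK⟩ := h.exists_three hp hP (e ▸ ha) hc
  obtain ⟨M, hM, hKM⟩ := exists_coatom hK
  have hD1 : H2.pPrimeCoreOf p H ⊓ M ≠ ⊥ := by
    intro e2
    have h2 : o ∈ H2.pPrimeCoreOf p H ⊓ 𝐂(P) := by
      refine mem_inf.2 ⟨ho, mem_cent.2 fun y hy => ?_⟩
      have h3 : ⁅o, y⁆ ∈ H2.pPrimeCoreOf p H ⊓ M := by
        refine mem_inf.2 ⟨?_, ?_⟩
        · exact comm_le_left_iff.2 hn (commutator_mem_commutator ho hy)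
        · have h4 : o * y * o⁻¹ ∈ P ^ᵍ a := e ▸ conj_mem_conj hy o
          exact mul_mem (conj_le_of_mem (hPK.trans hKM) (hKM haK) h4) (inv_mem (hKM (hPK hy)))
      rw [e2, mem_bot, commutatorElement_eq_one_iff_mul_comm] at h3
      exact h3.symm
    rw [h.fpf hp h5 hP (cop_core hp H), mem_bot] at h2
    exact ho1 (Subtype.ext h2)
  have hc1 := (cop_core hp H).coprime_dvd_left
    (FT.card_dvd_of_le (inf_le_left : H2.pPrimeCoreOf p H ⊓ M ≤ _))
  have hn1 : P ≤ 𝐍(H2.pPrimeCoreOf p H ⊓ M) :=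
    H1.le_normalizer_inf hn ((hPK.trans hKM).trans (le_norm_self M))
  have hLM := h.ln_of hp h5 hP hM (hPK.trans hKM) inf_le_right hc1 hn1 hD1
  have h3 := h.inv_le hp h5 hP hM.1 hLM.le inf_le_right hc1 hn1
  rw [h.ti hp h5 hP H M hH hLM fun e3 => hD1 (eq_bot_iff.2 (e3 ▸ le_inf inf_le_left h3))]
  exact hKM hcK

theorem exists_prime {H : Subgroup G} (hH : Ln P H) :
    ∃ q : ℕ, (q = 2 ∨ q = 3) ∧ IsPGroup q (H2.pPrimeCoreOf p H) := by
  have hO := pPrimeCoreOf_normal p H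
  have hnil := h.nilp_core hp h5 hP hH
  obtain ⟨q, hq, hd⟩ := exists_prime_dvd_card (h.core_ne_bot hp h5 hP hH)
  have hQ := isSyl_pCoreOf_of_isNilpotent hq hnil
  have h1 : H ≤ 𝐍(pCoreOf q (H2.pPrimeCoreOf p H)) := hO.2.trans (hQ.norm_le_of_isNilpotent hq hnil)
  have h2 := eq_of_coatom hH.max h1 (h.norm_ne_top_p hq hQ.pgrp (hQ.ne_bot hq hd))
  have h3 := h.core_norm hq hQ.pgrp (hQ.ne_bot hq hd)
  rw [h2] at h3
  have h4 : H2.pPrimeCoreOf q (H2.pPrimeCoreOf p H) = ⊥ := by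
    rw [pPrimeCoreOf_eq hq] at h3 ⊢
    exact eq_bot_iff.2 (h3 ▸ piCoreOf_le_of_normal _ hO)
  have h6 := (dProd_pCoreOf_of_isNilpotent hq hnil).sup
  rw [h4, sup_bot_eq] at h6
  have h7 : IsPGroup q (H2.pPrimeCoreOf p H) := h6 ▸ hQ.pgrp
  refine ⟨q, ?_, h7⟩
  by_contra c
  have hq5 : 5 ≤ q := by
    have := hq.two_le
    have h4 : q ≠ 4 := by rintro rfl; exact absurd hq (by norm_num)
    omega
  have h8 := (h.le_der hp h5 hP).trans (der_le_cent_of_cyclic (h.cyclic_of_pgrp hq hq5 h7)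
    ((h.norm_le_ln hp h5 hP hH).trans hO.2))
  exact h.core_ne_bot hp h5 hP hH (by
    rw [← h.fpf hp h5 hP (cop_core hp H), inf_eq_left.2 (cent_comm.1 h8)])

theorem small {q : ℕ} (hq : q = 2 ∨ q = 3) {Z : Subgroup G} (hZ : IsPGroup q Z) (h1 : Z ≠ ⊥)
    (hn : P ≤ 𝐍(Z)) : q ^ 2 < 𝐨(Z) := by
  have hqp : q.Prime := by rcases hq with rfl | rfl <;> norm_num
  have hc : 𝐨(Z).Coprime p := hP ▸ coprime_card_of_isPGroup hqp hp (by omega) hZ
    (isPGroup_of_card_prime hP)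
  have h2 := (semiReg_of_card_prime (hP ▸ hp) (h.fpf hp h5 hP hc)).card_dvd hn
  obtain ⟨n, e⟩ := exists_card_eq_pow hqp hZ
  rw [hP, e] at h2
  rw [e]
  by_contra c
  have h3 : n ≤ 2 := (Nat.pow_le_pow_iff_right hqp.one_lt).1 (not_lt.1 c)
  have h4 : n ≠ 0 := by
    rintro rfl
    exact h1 (card_eq_one.1 e)
  have h8 : ¬ p ∣ 8 := fun c => by
    have := (Nat.prime_dvd_prime_iff_eq hp Nat.prime_two).1 (hp.dvd_of_dvd_pow (n := 3) c)
    omega
  have : n = 1 ∨ n = 2 := by omega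
  rcases hq with rfl | rfl <;> rcases this with rfl | rfl
  · have := Nat.le_of_dvd (by norm_num) h2; omega
  · have := Nat.le_of_dvd (by norm_num) h2; omega
  · have := Nat.le_of_dvd (by norm_num) h2; omega
  · exact h8 h2

theorem thompson_le {H K : Subgroup G} (hH : Ln P H) {q : ℕ} (hq : q = 2 ∨ q = 3)
    (hO : IsPGroup q (H2.pPrimeCoreOf p H)) (hK : IsSyl q K 𝐍(P)) :
    thompsonSubgroupOf q (H2.pPrimeCoreOf p H ⊔ K) ≤ H2.pPrimeCoreOf p H := by
  have hqp : q.Prime := by rcases hq with rfl | rfl <;> norm_num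
  have hPp : IsPGroup p P := isPGroup_of_card_prime hP
  have hcop : ∀ X : Subgroup G, IsPGroup q X → 𝐨(X).Coprime p := fun X hX =>
    hP ▸ coprime_card_of_isPGroup hqp hp (by omega) hX hPp
  set O := H2.pPrimeCoreOf p H with hOdef
  have hOn : O ⊲ H := pPrimeCoreOf_normal p H
  have hKO : K ≤ 𝐍(O) := (hK.le.trans (h.norm_le_ln hp h5 hP hH)).trans hOn.2
  have hPO : P ≤ 𝐍(O) := hH.le.trans hOn.2
  have hKc : IsCyclic K := by
    have := (cycMod_cent_of_cyclic_pgroup hp (by omega) (isCyclic_of_card_prime (hP ▸ hp)) hPp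
      hK.le).1
    rwa [h.fpf hp h5 hP (hcop K hK.pgrp), cycMod_bot_iff] at this
  have hOK : O ⊓ K = ⊥ := eq_bot_iff.2 ((inf_le_inf_left O hK.le).trans
    (h.fpf' hp h5 hP (cop_core hp H) hPO).le)
  rw [H5.thompsonSubgroupOf_eq_sSup, sSup_le_iff]
  intro A hA
  by_contra hc
  obtain ⟨a, ha, haO⟩ := SetLike.not_le_iff_exists.1 hc
  have hdec : ∀ b ∈ A, ∃ o ∈ O, ∃ k ∈ K, k ^ q = 1 ∧ o * k = b := fun b hb => by
    obtain ⟨o, ho, k, hk, rfl⟩ := (mem_sup_of_norm hKO).1 (hA.1 hb)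
    refine ⟨o, ho, k, hk, mem_bot.1 (hOK ▸ mem_inf.2 ⟨?_, pow_mem hk q⟩), rfl⟩
    have : (O.subgroupOf (O ⊔ K)).Normal :=
      H1.normal_subgroupOf_of_le (sup_le (le_norm_self O) hKO)
    have e1 : H1.qmk (O ⊔ K) O ⟨o, mem_sup_left ho⟩ = 1 := H1.qmk_eq_one_iff.2 ho
    have e2 : (⟨o, mem_sup_left ho⟩ * ⟨k, mem_sup_right hk⟩ : ↥(O ⊔ K)) ^ q = 1 :=
      Subtype.ext (hA.2.1.2 _ hb)
    have e3 := congrArg (H1.qmk (O ⊔ K) O) e2
    rw [map_pow, map_mul, e1, one_mul, map_one, ← map_pow] at e3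
    exact H1.qmk_eq_one_iff.1 e3
  obtain ⟨o, ho, k, hk, hkq, rfl⟩ := hdec a ha
  have hk1 : k ≠ 1 := fun e => haO (by rwa [e, mul_one])
  have hΩ : 𝐨(omegaOne q K) = q := card_omegaOne_of_isCyclic hqp hKc
    (prime_dvd_card_of_isPGroup hqp hK.pgrp fun e => hk1 (mem_bot.1 (e ▸ hk)))
  have hAle : A ≤ O ⊔ omegaOne q K := fun b hb => by
    obtain ⟨o', ho', k', hk', hkq', rfl⟩ := hdec b hb
    exact mul_mem (mem_sup_left ho') (mem_sup_right (mem_omegaOne hk' hkq'))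
  have i1 : O.relIndex A ≤ q := by
    have e1 := relIndex_sup_of_norm ((omegaOne_le q K).trans hKO)
    have e2 : O.relIndex (omegaOne q K) ≤ q := (Nat.le_of_dvd Nat.card_pos
      (relIndex_dvd_card' _ _)).trans hΩ.le
    exact (relIndex_le_of_le_right hAle FiniteIndex.index_ne_zero).trans (e1 ▸ e2)
  have i2 := H1.card_inf_mul_relIndex O A
  set Z := omegaOne q 𝐙(O) with hZdef
  have hZO : Z ≤ 𝐙(O) := omegaOne_le _ _
  have hZe : IsElementaryAbelian q Z := elemAb_omegaOne (isMulComm_center O)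
  have hZc : Z ≤ 𝐂(O ⊓ A) := (hZO.trans inf_le_right).trans (cent_anti inf_le_left)
  have i3 : 𝐨(O ⊓ A ⊔ Z) ≤ 𝐨(A) := hA.2.2 _ (sup_le (inf_le_left.trans le_sup_left)
    ((hZO.trans inf_le_left).trans le_sup_left))
    (elemAb_sup (elemAb_of_le inf_le_right hA.2.1) hZe hZc)
  have i4 := card_sup_mul_card_inf (hZc.trans (cent_le_norm _))
  have hPZ : P ≤ 𝐍(Z) := hPO.trans ((norm_le_norm_center O).trans (norm_le_norm_omegaOne _ q))
  have hZ1 : Z ≠ ⊥ := omegaOne_ne_bot hqp (prime_dvd_card_of_isPGroup hqp (hO.to_le inf_le_left)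
    (center_ne_bot (h.nilp_core hp h5 hP hH) (h.core_ne_bot hp h5 hP hH)))
  have i5 := h.small hp h5 hP hq (elemAb_isPGroup hZe) hZ1 hPZ
  obtain ⟨x, hx, hxk⟩ : ∃ x ∈ P, ⁅x, k⁆ ≠ 1 := by
    by_contra c
    push Not at c
    have : k ∈ K ⊓ 𝐂(P) := mem_inf.2 ⟨hk, mem_cent.2 fun y hy =>
      commutatorElement_eq_one_iff_mul_comm.1 (c y hy)⟩
    rw [h.fpf hp h5 hP (hcop K hK.pgrp), mem_bot] at this
    exact hk1 this
  have hxkP : ⁅x, k⁆ ∈ P :=
    comm_le_left_iff.2 hK.le (commutator_mem_commutator hx hk)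
  have hW : O ⊓ A ⊓ Z ≤ 𝐂[k] := fun z hz => by
    have e1 : o * z = z * o := mem_cent.1 (hZO hz.2).2 o ho
    have e2 : o * k * z = z * (o * k) := isMulComm_iff_le_cent.1 hA.2.1.1 hz.1.2 _ ha
    rw [mem_cent1]
    rw [← mul_assoc z, ← e1, mul_assoc, mul_assoc] at e2
    exact mul_left_cancel e2
  have hd : (O ⊓ A ⊓ Z) ⊓ (O ⊓ A ⊓ Z) ^ᵍ x = ⊥ := by
    refine eq_bot_iff.2 (le_trans (le_inf (inf_le_left.trans inf_le_right) ?_)
      (h.fpf hp h5 hP (hcop Z (elemAb_isPGroup hZe))).le)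
    rw [← cent1_eq_of_card_prime (hP ▸ hp) hxkP hxk]
    intro z hz
    have e1 := mem_cent1_comm.1 (hW hz.1)
    have e2 := conj_mono hW x hz.2
    rw [← cent1_conj] at e2
    exact mem_cent1_comm.1 (mul_mem (mem_cent1_comm.1 e2) (inv_mem e1))
  have hWZ : (O ⊓ A ⊓ Z) ^ᵍ x ≤ Z := conj_le_of_mem_norm inf_le_right (hPZ hx)
  have i6 := card_sup_mul_card_inf (A := O ⊓ A ⊓ Z) (B := (O ⊓ A ⊓ Z) ^ᵍ x)
    (hWZ.trans (((isMulComm_iff_le_cent.1 hZe.1).trans (cent_anti inf_le_right)).trans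
      (cent_le_norm _)))
  rw [hd, card_bot, mul_one, card_conj] at i6
  have i7 : 𝐨(O ⊓ A ⊓ Z ⊔ (O ⊓ A ⊓ Z) ^ᵍ x) ≤ 𝐨(Z) := card_le_of_le (sup_le inf_le_right hWZ)
  have p1 : 0 < 𝐨(O ⊓ A) := Nat.card_pos
  have p2 : 0 < 𝐨(O ⊓ A ⊓ Z) := Nat.card_pos
  generalize 𝐨(O ⊓ A ⊓ Z ⊔ (O ⊓ A ⊓ Z) ^ᵍ x) = u at *
  generalize 𝐨(O ⊓ A ⊓ Z) = w at *
  generalize 𝐨(O ⊓ A ⊔ Z) = s at *
  generalize 𝐨(O ⊓ A) = b at *
  generalize 𝐨(Z) = z at *
  generalize O.relIndex A = r at *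
  have j1 : b * z ≤ b * (q * w) := by
    calc b * z = s * w := i4.symm
      _ ≤ b * r * w := Nat.mul_le_mul_right _ (i2 ▸ i3)
      _ ≤ b * q * w := by gcongr
      _ = _ := by ring
  have j2 : z ≤ q * w := Nat.le_of_mul_le_mul_left j1 p1
  have j3 : w ≤ q := Nat.le_of_mul_le_mul_right (by omega : w * w ≤ q * w) p2
  nlinarith

theorem struct {H : Subgroup G} (hH : Ln P H) {q : ℕ} (hq : q = 2 ∨ q = 3)
    (hO : IsPGroup q (H2.pPrimeCoreOf p H)) :
    ∃ T, IsSyl q T ⊤ ∧ 𝐍(thompsonSubgroupOf q T) = H := by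
  have hqp : q.Prime := by rcases hq with rfl | rfl <;> norm_num
  have := Fact.mk hqp
  obtain ⟨K, hK⟩ := exists_isSyl hqp 𝐍(P)
  have h1 := h.thompson_le hp h5 hP hH hq hO hK
  set O := H2.pPrimeCoreOf p H with hOdef
  have hOn : O ⊲ H := pPrimeCoreOf_normal p H
  have hNH := h.norm_le_ln hp h5 hP hH
  have hKO : K ≤ 𝐍(O) := (hK.le.trans hNH).trans hOn.2
  have hT : IsPGroup q ↥(O ⊔ K) := sup_comm K O ▸ isPGroup_sup hK.pgrp hO hKO
  have h2 := H5.thompsonSubgroupOf_eq_of_le le_sup_left h1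
  have h3 : 𝐍(thompsonSubgroupOf q (O ⊔ K)) = H := by
    refine eq_of_coatom hH.max ?_ (h.norm_ne_top_p hqp (hT.to_le (H5.thompsonSubgroupOf_le _))
      (H5.thompsonSubgroupOf_ne_bot hT fun e => h.core_ne_bot hp h5 hP hH
        (eq_bot_iff.2 (e ▸ le_sup_left))))
    rw [← h2]
    exact hOn.2.trans (H5.normalizer_le_normalizer_thompsonSubgroupOf O)
  have h4 : IsSyl q (O ⊔ K) H := by
    refine isSyl_of_maximal hqp (sup_le hOn.1 (hK.le.trans hNH)) hT fun Q q1 q2 q3 => ?_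
    have q4 : Q ⊓ 𝐍(P) = K := hK.eq_of_le hqp (le_inf (le_sup_right.trans q1) hK.le) inf_le_right
      (q3.to_le inf_le_left)
    refine le_antisymm (fun g hg => ?_) q1
    obtain ⟨o, ho, n, hn, rfl⟩ := h.fac' hp h5 hP hH.max.1 hH.le g (q2 hg)
    exact mul_mem (mem_sup_left ho) (mem_sup_right (q4 ▸ mem_inf.2
      ⟨(mul_mem_cancel_left (q1 (mem_sup_left ho))).1 hg, hn.2⟩))
  refine ⟨O ⊔ K, IsSyl.of_norm hqp (h4.of_le (le_inf le_top (le_norm_self _)) ?_), h3⟩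
  exact inf_le_right.trans (h3 ▸ H5.normalizer_le_normalizer_thompsonSubgroupOf _)

theorem uniq {H H' : Subgroup G} (hH : Ln P H) (hH' : Ln P H') {q : ℕ} (hq : q = 2 ∨ q = 3)
    (hO : IsPGroup q (H2.pPrimeCoreOf p H)) (hO' : IsPGroup q (H2.pPrimeCoreOf p H')) :
    H = H' := by
  have hqp : q.Prime := by rcases hq with rfl | rfl <;> norm_num
  obtain ⟨T, hT, e⟩ := h.struct hp h5 hP hH hq hO
  obtain ⟨T', hT', e'⟩ := h.struct hp h5 hP hH' hq hO'
  obtain ⟨g, -, rfl⟩ := hT'.exists_conj_eq hqp hT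
  rw [H5.thompsonSubgroupOf_map_of_injective _ (conj_injective g), norm_conj, e] at e'
  subst e'
  obtain ⟨S, hS, hPS⟩ := exists_isSyl_ge hp (isPGroup_of_card_prime hP) hH'.le
  obtain ⟨m, hm, hm2⟩ := hS.exists_conj_le hp (Q := P ^ᵍ g)
    (isPGroup_of_card_prime (by rw [card_conj, hP])) (conj_mono hH.le g)
  have h1 := eq_of_card_prime_of_isCyclic hp (h.cyclic_of_pgrp hp h5 hS.pgrp) hm2 hPS
    (by rw [card_conj, card_conj, hP]) hP
  rw [conj_conj, conj_eq_self_iff] at h1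
  rw [← conj_eq_of_mem hm, conj_conj, conj_eq_of_mem (h.norm_le_ln hp h5 hP hH h1)]

theorem false' : False := by
  have hN := h.norm_ne_top_p hp (isPGroup_of_card_prime hP) (ne_bot_of_card_prime (hP ▸ hp))
  have key : ∀ g, g ∉ 𝐍(P) → ∃ H, Ln P H ∧ g ∈ H := fun g hg => by
    obtain ⟨H, hH, h1⟩ := exists_coatom (h.sup_ne_top hp hP g)
    have := h1 (mem_sup_right (mem_zpowers g))
    exact ⟨H, ⟨hH, le_sup_left.trans h1, fun c => hg (c this)⟩, this⟩
  obtain ⟨g0, hg0⟩ := SetLike.exists_not_mem_of_ne_top _ hN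
  obtain ⟨H0, hH0, -⟩ := key g0 hg0
  obtain ⟨g1, hg1⟩ := SetLike.exists_not_mem_of_ne_top _ hH0.max.1
  obtain ⟨H1, hH1, hg1'⟩ := key g1 fun c => hg1 (h.norm_le_ln hp h5 hP hH0 c)
  obtain ⟨q0, hq0, hO0⟩ := h.exists_prime hp h5 hP hH0
  obtain ⟨q1, hq1, hO1⟩ := h.exists_prime hp h5 hP hH1
  have hne : q0 ≠ q1 := by
    rintro rfl
    exact hg1 (h.uniq hp h5 hP hH0 hH1 hq0 hO0 hO1 ▸ hg1')
  have := H2.le_or_le_of_forall_mem (B := ⊤) (H := H0) (K := H1) fun g _ => by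
    by_cases hg : g ∈ 𝐍(P)
    · exact Or.inl (h.norm_le_ln hp h5 hP hH0 hg)
    obtain ⟨H, hH, hgH⟩ := key g hg
    obtain ⟨q, hq, hO⟩ := h.exists_prime hp h5 hP hH
    by_cases e : q = q0
    · subst e
      exact Or.inl (h.uniq hp h5 hP hH hH0 hq hO hO0 ▸ hgH)
    · have : q = q1 := by omega
      subst this
      exact Or.inr (h.uniq hp h5 hP hH hH1 hq hO hO1 ▸ hgH)
  rcases this with e | e
  · exact hH0.max.1 (eq_top_iff.2 e)
  · exact hH1.max.1 (eq_top_iff.2 e)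

end Min

theorem Min.false (h : Min G) : False := by
  by_contra hc
  refine h.ns (H6.isSolvable_of_primes_two 2 3 fun r hr hd => ?_)
  by_contra c
  have h5 : 5 ≤ r := by
    have := hr.two_le
    have h4 : r ≠ 4 := by rintro rfl; exact absurd hr (by norm_num)
    omega
  obtain ⟨P, -, hP⟩ := exists_le_card_eq_prime hr (H := (⊤ : Subgroup G)) (by rwa [card_top])
  exact h.false' hr h5 hP

theorem solv_map {H : Type*} [Group H] (f : G →* H) {x y : G}
    (h : Group.IsSolvable (closure ({x, y} : Set G))) :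
    Group.IsSolvable (closure ({f x, f y} : Set H)) := by
  have := H1.isSolvable_map f h
  rwa [MonoidHom.map_closure, Set.image_pair] at this

theorem solv_of_map {H : Type*} [Group H] (f : G →* H) (hf : Group.IsSolvable f.ker) {x y : G}
    (h : Group.IsSolvable (closure ({f x, f y} : Set H))) :
    Group.IsSolvable (closure ({x, y} : Set G)) := by
  rw [← Set.image_pair, ← MonoidHom.map_closure] at h
  set K := closure ({x, y} : Set G)
  have h1 : Group.IsSolvable (f.ker.subgroupOf K) := by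
    have := H1.isSolvable_of_le (inf_le_left : f.ker ⊓ K ≤ f.ker) hf
    rw [← subgroupOf_map_subtype, isSolvable_map_iff K.subtype_injective] at this
    exact this
  refine solvable_of_ker_le_range (f.ker.subgroupOf K).subtype (f.subgroupMap K) fun k hk => ?_
  rw [range_subtype, mem_subgroupOf]
  exact congrArg Subtype.val hk

/-- reduction to a minimal simple group -/
theorem solvable_of_min {P : ∀ (G : Type u) [Group G] [Finite G], Prop}
    (hsub : ∀ (G : Type u) [Group G] [Finite G] (H : Subgroup G), P G → P H)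
    (hquo : ∀ (G : Type u) [Group G] [Finite G] (N : Subgroup G) [N.Normal],
      Group.IsSolvable N → P G → P (G ⧸ N))
    (hmin : ∀ (G : Type u) [Group G] [Finite G] [IsSimpleGroup G], P G →
      (∀ H : Subgroup G, H ≠ ⊤ → Group.IsSolvable H) → Group.IsSolvable G)
    (G : Type u) [Group G] [Finite G] (h : P G) : Group.IsSolvable G := by
  induction hn : Nat.card G using Nat.strong_induction_on generalizing G with
  | _ n ih =>
  have hs : ∀ H : Subgroup G, H ≠ ⊤ → Group.IsSolvable H := fun H hH =>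
    ih _ (hn ▸ card_top (G := G) ▸ H1.card_lt_of_lt (lt_top_iff_ne_top.2 hH)) H (hsub G H h) rfl
  rcases subsingleton_or_nontrivial G with h0 | h0
  · infer_instance
  by_cases hc : ∀ N : Subgroup G, N.Normal → N = ⊥ ∨ N = ⊤
  · have : IsSimpleGroup G := ⟨hc⟩
    exact hmin G h hs
  push Not at hc
  obtain ⟨N, hN, h1, h2⟩ := hc
  exact Agent.L.isSolvable_of_normal_of_quotient N (hs N h2)
    (ih _ (hn ▸ Agent.L.card_quotient_lt N h1) _ (hquo G N (hs N h2) h) rfl)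

/-- **Thompson**: if every two elements generate a solvable subgroup, the group is solvable. -/
theorem isSolvable_of_two_gen (G : Type u) [Group G] [Finite G]
    (h : ∀ x y : G, Group.IsSolvable (closure ({x, y} : Set G))) : Group.IsSolvable G := by
  refine solvable_of_min (P := fun G _ _ => ∀ x y : G, Group.IsSolvable (closure ({x, y} : Set G)))
    (fun G _ _ H h x y => ?_) (fun G _ _ N _ _ h x y => ?_) (fun G _ _ _ h hs => ?_) G h
  · refine solv_of_map H.subtype ?_ (h x y)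
    rw [ker_subtype]
    infer_instance
  · obtain ⟨x, rfl⟩ := QuotientGroup.mk'_surjective N x
    obtain ⟨y, rfl⟩ := QuotientGroup.mk'_surjective N y
    exact solv_map _ (h x y)
  · by_contra hc
    refine Min.false ⟨inferInstance, hc, hs, fun x y e => hc (solv_top ?_)⟩
    have := h x y
    rwa [← Set.singleton_union, Subgroup.closure_union, ← zpowers_eq_closure, ← zpowers_eq_closure, e] at this

end Cfsg.Agent.H7.TG
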