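/-
The principal block for an abelian Sylow subgroup with automizer of order two.
-/
import Cfsg.Agent.H7.PClB

set_option autoImplicit false

namespace Cfsg.Agent.H7.Two

open Subgroup Cfsg Cfsg.Agent Cfsg.Agent.FT Cfsg.Agent.P1
open scoped ComplexConjugate

universe u

variable {G : Type u} [Group G] [Finite G] {p : ℕ}

theorem sum_coset_eq {M A : Subgroup G} (hM : M ⊲ A) {χ : G → ℂ} (hχ : χ ∈ Irr ⊤) {u : G}
    (hu : u ∈ A) :
    ∑ y ∈ fs (M : Set G), χ (y * u) = 𝐨(M) * ∑ φ ∈ irrKer A M, ip A χ φ * φ u := by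
  classical
  have h2 : ∀ y ∈ (M : Set G), χ (y * u) = ∑ φ ∈ Irr A, ip A χ φ * φ (y * u) := by
    intro y hy
    have := apply_eq_sum_irr (res_mem_CF le_top (irr_mem_CF hχ) : res A χ ∈ _) (y * u)
    rw [res_of_mem _ (mul_mem (hM.1 hy) hu)] at this
    simpa only [ip_res_left] using this
  rw [sum_fs_congr h2, Finset.sum_comm]
  simp only [← Finset.mul_sum]
  rw [Finset.sum_congr rfl fun φ hφ => by rw [sum_coset hM hφ u], irrKer, Finset.sum_filter,
    Finset.mul_sum]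
  refine Finset.sum_congr rfl fun φ _ => ?_
  split_ifs <;> ring

theorem sum_coset_eq_zero {M A : Subgroup G} (hM : M ⊲ A) {χ : G → ℂ} (hχ : χ ∈ Irr ⊤)
    (h0 : ∑ y ∈ fs (M : Set G), χ y = 0) {u : G} (hu : u ∈ A) :
    ∑ y ∈ fs (M : Set G), χ (y * u) = 0 := by
  have h1 := sum_coset_eq hM hχ (one_mem A)
  simp only [mul_one] at h1
  rw [h0, eq_comm, mul_eq_zero, or_iff_right (card_ne_zero_C M), Finset.sum_congr rfl
    (g := fun φ => ((PCl.mult A χ φ * dg φ : ℕ) : ℂ)) fun φ hφ => by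
      rw [PCl.ip_eq_mult hχ (irrKer_subset _ _ hφ), irr_one_eq (irrKer_subset _ _ hφ)]
      push_cast; rfl, ← Nat.cast_sum, Nat.cast_eq_zero, Finset.sum_eq_zero_iff] at h1
  rw [sum_coset_eq hM hχ hu, Finset.sum_eq_zero, mul_zero]
  intro φ hφ
  rw [PCl.ip_eq_mult hχ (irrKer_subset _ _ hφ), (mul_eq_zero.mp (h1 φ hφ)).resolve_right
    (irr_dg_pos (irrKer_subset _ _ hφ)).ne', Nat.cast_zero, zero_mul]

theorem sum_coset_B0 (hp : p.Prime) {u : G} {j : ℕ} (hu : u ^ p ^ j = 1) {M : Subgroup G} {k : ℕ}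
    (hM : M ⊲ 𝐂[u]) (hc : (𝐨(M)).Coprime p) (hk : M.relIndex 𝐂[u] = p ^ k) {χ : G → ℂ}
    (hχ : χ ∈ Irr ⊤) [Decidable (χ ∈ B0 p ⊤)] :
    ∑ y ∈ fs (M : Set G), χ (y * u) = if χ ∈ B0 p ⊤ then 𝐨(M) * χ u else 0 := by
  classical
  have h1 := B0_second hp (K := ⊤) (u := u) (y := 1) (mem_top u) hu (one_mem_regSet _ _) hχ
  rw [top_inf_eq, mul_one, B0_eq_irrKer hp hM hc hk] at h1
  rw [sum_coset_eq hM hχ (mem_centralizer_singleton_iff.mpr rfl), h1]
  split_ifs <;> simp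

/-- An abelian TI Sylow subgroup `P` with `C(u) = C(P) = P × M`. -/
structure AbTI (p k : ℕ) (P M : Subgroup G) : Prop where
  prime : p.Prime
  card : 𝐨(P) = p ^ k
  comm : IsMulCommutative P
  cent : ∀ u ∈ P, u ≠ 1 → 𝐂[u] = 𝐂(P)
  ti : ∀ u ∈ P, ∀ v ∈ P, u ≠ 1 → ∀ g, g * v * g⁻¹ = u → g ∈ 𝐍(P)
  normal : M ⊲ 𝐂(P)
  cop : (𝐨(M)).Coprime p
  index : M.relIndex 𝐂(P) = p ^ k

namespace AbTI

variable {k : ℕ} {P M : Subgroup G}

omit [Finite G] in
theorem pow_eq (h : AbTI p k P M) {u : G} (hu : u ∈ P) : u ^ p ^ k = 1 :=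
  orderOf_dvd_iff_pow_eq_one.mp (h.card ▸ orderOf_dvd_natCard P hu)

theorem sum_B0_mul_conj (h : AbTI p k P M) {u v : G} (hu : u ∈ P) (hv : v ∈ P)
    (h1 : u ≠ 1) (h1' : v ≠ 1) [Decidable (∃ g, g * v * g⁻¹ = u)] :
    ∑ χ ∈ B0 p ⊤, χ u * conj (χ v) = if ∃ g, g * v * g⁻¹ = u then (𝐨(P) : ℂ) else 0 := by
  classical
  have hCu := h.cent u hu h1
  have hCv := h.cent v hv h1'
  have e1 : (𝐨(M) : ℂ) * ∑ χ ∈ B0 p ⊤, χ u * conj (χ v) =
      ∑ χ ∈ Irr ⊤, (∑ y ∈ fs (M : Set G), χ (y * u)) * conj (χ v) := by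
    have e0 : ∀ χ ∈ Irr (⊤ : Subgroup G), ∑ y ∈ fs (M : Set G), χ (y * u) =
        if χ ∈ B0 p ⊤ then 𝐨(M) * χ u else 0 := fun χ hχ =>
      sum_coset_B0 h.prime (h.pow_eq hu) (hCu ▸ h.normal) h.cop (by rw [hCu, h.index]) hχ
    rw [← Finset.sum_subset (B0_subset p ⊤) fun χ hχ h => by rw [e0 χ hχ, if_neg h, zero_mul],
      Finset.mul_sum]
    exact Finset.sum_congr rfl fun χ hχ => by
      rw [e0 χ (B0_subset _ _ hχ), if_pos hχ, mul_assoc]
  simp only [Finset.sum_mul] at e1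
  rw [Finset.sum_comm, Finset.sum_eq_single (1 : G), one_mul,
    sum_irr_mul_conj (mem_top _) (mem_top _),
    top_inf_eq, hCv, ← H1.card_mul_relIndex h.normal.1, h.index, ← h.card] at e1
  · refine mul_left_cancel₀ (card_ne_zero_C M) ?_
    rw [e1]
    simp only [mem_top, true_and]
    split_ifs <;> simp
  · intro y hy hy1
    rw [sum_irr_mul_conj (mem_top _) (mem_top _), if_neg]
    rintro ⟨g, -, hg⟩
    have hyM : y ∈ M := mem_fs.mp hy
    have hcomm : Commute y u := (mem_centralizer_iff.mp (h.normal.1 hyM) u hu).symm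
    have h2 : (y * u) ^ p ^ k = 1 := by rw [← hg, conj_pow, h.pow_eq hv]; simp
    rw [hcomm.mul_pow, h.pow_eq hu, mul_one] at h2
    exact hy1 (orderOf_eq_one_iff.mp (Nat.eq_one_of_dvd_coprimes (h.cop.pow_right k)
      (orderOf_dvd_natCard M hyM) (orderOf_dvd_of_pow_eq_one h2)))
  · exact fun h => (h (mem_fs.mpr (one_mem M))).elim

open Classical in
theorem count_conj (h : AbTI p k P M) {u v : G} (hu : u ∈ P) (hv : v ∈ P) (h1 : u ≠ 1) :
    ∑ g ∈ fs (𝐍(P) : Set G), (if g * v * g⁻¹ = u then (1 : ℂ) else 0) =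
      if ∃ g, g * v * g⁻¹ = u then (𝐨(𝐂(P)) : ℂ) else 0 := by
  split_ifs with h0
  · obtain ⟨g, hg⟩ := h0
    have hv1 : v ≠ 1 := fun e => h1 (by rw [← hg, e]; simp)
    rw [← sum_fs_mul_left (h.ti u hu v hv h1 g hg),
      ← sum_fs_subset (A := (𝐂(P) : Set G)) (centralizer_le_normalizer _),
      sum_fs_congr (g := fun _ => 1), sum_fs_const, nsmul_eq_mul, mul_one]
    · intro x hx
      rw [if_pos]
      rw [← hg, mul_assoc g x v, ← mem_centralizer_iff.mp hx v hv]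
      group
    · intro x _ hx
      rw [if_neg]
      intro e
      apply hx
      rw [← h.cent v hv hv1]
      refine mem_centralizer_singleton_iff.mpr ?_
      rw [← hg] at e
      calc x * v = g⁻¹ * (g * x * v * (g * x)⁻¹) * (g * x) := by group
        _ = v * x := by rw [e]; group
  · exact Finset.sum_eq_zero fun g _ => if_neg fun e => h0 ⟨g, e⟩

/-- The Gram matrix of the principal block. -/
theorem gram_B0 (h : AbTI p k P M) {α β : G → ℂ} (hα : α 1 = 0) (hβ : β 1 = 0) :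
    (𝐨(𝐂(P)) : ℂ) * ∑ χ ∈ B0 p ⊤, ip P χ α * ip P β χ =
      ∑ g ∈ fs (𝐍(P) : Set G), ip P (cfConj g β) α := by
  classical
  have hp0 := card_ne_zero_C P
  have key : ∀ u ∈ (P : Set G), ∀ v ∈ (P : Set G),
      (𝐨(𝐂(P)) : ℂ) * ∑ χ ∈ B0 p ⊤, χ u * conj (α u) * (β v * conj (χ v)) =
        𝐨(P) * ∑ g ∈ fs (𝐍(P) : Set G), if g * v * g⁻¹ = u then β v * conj (α u) else 0 := by
    intro u hu v hv
    by_cases h1 : u = 1
    · simp [h1, hα]
    by_cases h1' : v = 1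
    · simp [h1', hβ]
    have e1 : ∑ χ ∈ B0 p ⊤, χ u * conj (α u) * (β v * conj (χ v)) =
        β v * conj (α u) * ∑ χ ∈ B0 p ⊤, χ u * conj (χ v) := by
      rw [Finset.mul_sum]
      exact Finset.sum_congr rfl fun _ _ => by ring
    have e2 : ∑ g ∈ fs (𝐍(P) : Set G), (if g * v * g⁻¹ = u then β v * conj (α u) else 0) =
        β v * conj (α u) *
          ∑ g ∈ fs (𝐍(P) : Set G), (if g * v * g⁻¹ = u then (1 : ℂ) else 0) := by
      rw [Finset.mul_sum]
      exact Finset.sum_congr rfl fun _ _ => by split_ifs <;> simp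
    rw [e1, e2, h.sum_B0_mul_conj hu hv h1 h1', h.count_conj hu hv h1]
    split_ifs <;> ring
  have e3 : ∑ χ ∈ B0 p ⊤, ip P χ α * ip P β χ = (𝐨(P) : ℂ)⁻¹ * (𝐨(P) : ℂ)⁻¹ *
      ∑ u ∈ fs (P : Set G), ∑ v ∈ fs (P : Set G),
        ∑ χ ∈ B0 p ⊤, χ u * conj (α u) * (β v * conj (χ v)) := by
    simp only [ip_def]
    rw [Finset.sum_congr rfl fun χ _ => mul_mul_mul_comm _ _ _ _, ← Finset.mul_sum]
    congr 1
    simp only [Finset.sum_mul_sum]
    rw [Finset.sum_comm]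
    exact Finset.sum_congr rfl fun _ _ => Finset.sum_comm
  rw [e3, mul_left_comm, Finset.mul_sum, sum_fs_congr fun u hu => by
    rw [Finset.mul_sum, sum_fs_congr (key u hu), ← Finset.mul_sum, Finset.sum_comm],
    ← Finset.mul_sum, Finset.sum_comm, ← mul_assoc, mul_assoc _ _ (𝐨(P) : ℂ), inv_mul_cancel₀ hp0,
    mul_one, Finset.mul_sum]
  refine sum_fs_congr fun g hg => ?_
  rw [ip_def]
  congr 1
  refine sum_fs_congr fun u hu => ?_
  rw [Finset.sum_eq_single (g⁻¹ * u * g), if_pos (by group), cfConj_apply]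
  · intro v _ hv
    exact if_neg fun e => hv (by rw [← e]; group)
  · intro h
    refine (h (mem_fs.mpr ?_)).elim
    have := (mem_normalizer_iff.mp (inv_mem hg) u).mp hu
    rwa [inv_inv] at this

end AbTI

theorem exists_pair {B : Type*} [DecidableEq B] {s : Finset B} {x : B → ℤ} {d : B → ℕ} {e : B}
    (he : e ∈ s) (hx : x e = 1) (hd1 : d e = 1) (hd : ∀ b ∈ s, b ≠ e → 2 ≤ d b)
    (h3 : ∑ b ∈ s, x b * x b = 3) (h0 : ∑ b ∈ s, x b * d b = 0) :
    ∃ i ∈ s, ∃ j ∈ s, i ≠ e ∧ j ≠ e ∧ i ≠ j ∧ x i = 1 ∧ x j = -1 ∧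
      ∀ b ∈ s, b ≠ e → b ≠ i → b ≠ j → x b = 0 := by
  have hsub : ∀ t ⊆ s, ∑ b ∈ t, x b * x b ≤ 3 := fun t ht => h3 ▸
    Finset.sum_le_sum_of_subset_of_nonneg ht fun b _ _ => mul_self_nonneg _
  have hj : ∃ j ∈ s, x j < 0 := by
    by_contra hj
    push Not at hj
    have := Finset.single_le_sum (f := fun b => x b * d b)
      (fun b hb => mul_nonneg (hj b hb) (Nat.cast_nonneg _)) he
    simp only [h0, hx, hd1] at this
    omega
  obtain ⟨j, hj, hxj⟩ := hj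
  have hje : j ≠ e := fun h => by rw [h, hx] at hxj; omega
  have h2 := hsub {e, j} (by simp [Finset.insert_subset_iff, he, hj])
  rw [Finset.sum_pair hje.symm, hx] at h2
  have hxj : x j = -1 := by nlinarith
  have hi : ∃ i ∈ s, i ≠ e ∧ 0 < x i := by
    by_contra hi
    push Not at hi
    rw [← Finset.add_sum_erase _ _ he, ← Finset.add_sum_erase _ _
      (Finset.mem_erase.mpr ⟨hje, hj⟩), hx, hd1, hxj] at h0
    have h4 : ∑ b ∈ (s.erase e).erase j, x b * d b ≤ 0 := Finset.sum_nonpos fun b hb =>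
      have hb' := Finset.mem_erase.mp (Finset.mem_of_mem_erase hb)
      mul_nonpos_of_nonpos_of_nonneg (hi b hb'.2 hb'.1) (Nat.cast_nonneg _)
    have := hd j hj hje
    omega
  obtain ⟨i, hi, hie, hxi⟩ := hi
  have hij : i ≠ j := fun h => by rw [h, hxj] at hxi; omega
  have h4 := hsub {e, i, j} (by simp [Finset.insert_subset_iff, he, hi, hj])
  rw [Finset.sum_insert (by simp [hie.symm, hje.symm]), Finset.sum_pair hij, hx, hxj] at h4
  have hxi : x i = 1 := by nlinarith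
  refine ⟨i, hi, j, hj, hie, hje, hij, hxi, hxj, fun b hb h1 h2 h3 => ?_⟩
  have h5 := hsub {b, e, i, j} (by simp [Finset.insert_subset_iff, he, hi, hj, hb])
  rw [Finset.sum_insert (by simp [h1, h2, h3]), Finset.sum_insert (by simp [hie.symm, hje.symm]),
    Finset.sum_pair hij, hx, hxi, hxj] at h5
  nlinarith

theorem sum_three {B M : Type*} [DecidableEq B] [AddCommMonoid M] {s : Finset B} {f : B → M}
    {e i j : B} (he : e ∈ s) (hi : i ∈ s) (hj : j ∈ s) (hie : i ≠ e) (hje : j ≠ e) (hij : i ≠ j)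
    (h : ∀ b ∈ s, b ≠ e → b ≠ i → b ≠ j → f b = 0) : ∑ b ∈ s, f b = f e + (f i + f j) := by
  rw [← Finset.sum_subset (s₁ := {e, i, j}) (by simp [Finset.insert_subset_iff, he, hi, hj])
    fun b hb hb' => by
      simp only [Finset.mem_insert, Finset.mem_singleton, not_or] at hb'
      exact h b hb hb'.1 hb'.2.1 hb'.2.2,
    Finset.sum_insert (by simp [hie.symm, hje.symm]), Finset.sum_pair hij]

theorem AbTI.exc {k : ℕ} {P M : Subgroup G} (h : AbTI p k P M) (hp2 : p ≠ 2) (hP : P ≠ ⊥)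
    (hN : 𝐨(𝐍(P)) = 2 * 𝐨(𝐂(P)))
    (hinv : ∀ g ∈ 𝐍(P), g ∉ 𝐂(P) → ∀ x ∈ P, g⁻¹ * x * g = x⁻¹)
    (hd : ∀ χ ∈ Irr (⊤ : Subgroup G), χ ≠ cf1 ⊤ → 2 ≤ dg χ) :
    ∃ χ ∈ Irr (⊤ : Subgroup G), ∃ Θ ∈ Irr (⊤ : Subgroup G), ∃ δ : ℤ, (δ = 1 ∨ δ = -1) ∧
      χ ≠ cf1 ⊤ ∧ Θ ≠ cf1 ⊤ ∧ (∀ u ∈ P, u ≠ 1 → ∀ z ∈ M, χ (u * z) = δ) ∧
      ∀ y, (orderOf y).Coprime p → Θ y = χ y + δ := by
  classical
  have hp := h.prime
  let Λ := (Irr P).erase (cf1 P)
  have hΛ : ∀ l ∈ Λ, l ∈ Irr P := fun l hl => Finset.mem_of_mem_erase hl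
  have hlin : ∀ l ∈ Irr P, IsLin P l := fun l hl => isLin_of_comm h.comm hl
  have hone : ∀ l ∈ Irr P, l 1 = 1 := fun l hl => (hlin l hl).2.1
  have hst : ∀ l ∈ Λ, star l ∈ Λ ∧ star l ≠ l := fun l hl => by
    have h1 := (Finset.mem_erase.mp hl).1
    have hl := hΛ l hl
    refine ⟨Finset.mem_erase.mpr ⟨fun e => h1 ?_, star_mem_Irr hl⟩, fun e => h1 ?_⟩
    · refine (irr_eq_cf1_iff hl).mpr fun x hx => (hlin l hl).mem_cfKer_iff.mpr ?_
      have := congrFun e x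
      rw [star_apply', cf1_of_mem hx] at this
      simpa using congrArg conj this
    · refine (irr_eq_cf1_iff hl).mpr fun x hx => H8.mem_of_pow_mem_of_coprime (n := 2)
        (Nat.Coprime.coprime_dvd_left (orderOf_dvd_of_pow_eq_one (h.pow_eq hx))
          (((Nat.coprime_primes hp Nat.prime_two).mpr hp2).pow_left k))
        ((hlin l hl).mem_cfKer_iff.mpr ?_)
      rw [(hlin l hl).pow_apply hx, sq, ← (hlin l hl).mul_conj hx, ← star_apply', e]
  let x : (G → ℂ) → (G → ℂ) → ℤ := fun l χ => (PCl.mult P χ (cf1 P) : ℤ) - PCl.mult P χ l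
  have hx : ∀ χ ∈ B0 p ⊤, ∀ l ∈ Λ, ip P χ (cf1 P - l) = x l χ := fun χ hχ l hl => by
    rw [ip_sub_right, PCl.ip_eq_mult (B0_subset _ _ hχ) (hΛ l hl),
      PCl.ip_eq_mult (B0_subset _ _ hχ) (cf1_mem_Irr P)]
    simp only [x]; push_cast; rfl
  have h01 : ∀ l ∈ Λ, (cf1 P - l) 1 = 0 := fun l hl => by
    rw [Pi.sub_apply, hone l (hΛ l hl), cf1_of_mem (one_mem P), sub_self]
  have hip : ∀ a ∈ Λ, ∀ b ∈ Λ, ip P (cf1 P - a) (cf1 P - b) = 1 + if a = b then 1 else 0 :=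
    fun a ha b hb => by
      rw [ip_sub_left, ip_sub_right, ip_sub_right, ip_irr (hΛ a ha) (hΛ b hb),
        ip_irr_of_ne (hΛ a ha) (cf1_mem_Irr P) (Finset.mem_erase.mp ha).1,
        ip_irr_of_ne (cf1_mem_Irr P) (hΛ b hb) (Finset.mem_erase.mp hb).1.symm,
        ip_irr_self (cf1_mem_Irr P)]
      ring
  have hgram : ∀ l ∈ Λ, ∀ l' ∈ Λ, ∑ χ ∈ B0 p ⊤, x l χ * x l' χ =
      2 + (if l' = l then 1 else 0) + if star l' = l then 1 else 0 := fun l hl l' hl' => by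
    have h1 := h.gram_B0 (h01 l hl) (h01 l' hl')
    have hCN : (𝐂(P) : Set G) ⊆ 𝐍(P) := centralizer_le_normalizer _
    have h2 : (fs ((𝐍(P) : Set G) \ 𝐂(P))).card = 𝐨(𝐂(P)) := by
      have := sum_fs_diff hCN fun _ => 1
      rw [sum_fs_const, sum_fs_const, Finset.sum_const, hN] at this
      simp only [smul_eq_mul, mul_one] at this
      omega
    rw [Finset.sum_congr rfl fun χ hχ => by rw [hx χ hχ l hl, ip_comm_of_int (hx χ hχ l' hl')],
      sum_fs_diff hCN, sum_fs_congr (g := fun _ => ip P (cf1 P - l') (cf1 P - l)) fun g hg => by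
        rw [map_sub, cfConj_cf1_of_norm (hCN hg),
          mem_inertia.mp (cent_le_inertia (mem_Irr.mp (hΛ l' hl')).1 hg)],
      sum_fs_congr (A := _ \ _) (g := fun _ => ip P (cf1 P - star l') (cf1 P - l)) fun g hg => by
        rw [map_sub, cfConj_cf1_of_norm hg.1]
        exact ip_congr (fun y hy => by
          rw [Pi.sub_apply, Pi.sub_apply, cfConj_apply, hinv g hg.1 hg.2 y hy, star_apply',
            (irr_isChar (hΛ l' hl')).apply_inv]) fun _ _ => rfl,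
      sum_fs_const, Finset.sum_const, h2, hip l' hl' l hl, hip _ (hst l' hl').1 l hl,
      ← smul_add, nsmul_eq_mul, mul_right_inj' (card_ne_zero_C _)] at h1
    refine Int.cast_injective (α := ℂ) ?_
    push_cast
    rw [h1]
    ring
  have hvan : ∀ l ∈ Λ, ∀ y : G, (orderOf y).Coprime p → ∑ χ ∈ B0 p ⊤, x l χ * χ y = 0 :=
    fun l hl y hy => by
      rw [Finset.sum_congr rfl (g := fun χ => ip P (cf1 P - l) χ * χ y) fun χ hχ => by
        rw [ip_comm_of_int (hx χ hχ l hl)]]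
      simp only [ip_def, mul_assoc, ← Finset.mul_sum, Finset.sum_mul]
      rw [Finset.sum_comm, Finset.sum_eq_zero, mul_zero]
      intro u hu
      by_cases h1 : u = 1
      · simp [h1, h01 l hl]
      · obtain ⟨j, -, hj⟩ := (Nat.dvd_prime_pow hp).mp
          (orderOf_dvd_of_pow_eq_one (h.pow_eq (mem_fs.mp hu)))
        rw [← Finset.mul_sum, Finset.sum_congr rfl fun χ _ => mul_comm _ _,
          sum_B0_reg_sing hp ⊤ hy (hj ▸ dvd_pow_self p fun e => h1 (by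
            rwa [e, pow_zero, orderOf_eq_one_iff] at hj)), mul_zero]
  have hx1 : ∀ l ∈ Λ, x l (cf1 ⊤) = 1 := fun l hl => Int.cast_injective (α := ℂ) (by
    rw [← hx _ (cf1_mem_B0 _ _) l hl, ← ip_res_left, res_cf1 le_top, ip_sub_right,
      ip_irr_self (cf1_mem_Irr P),
      ip_irr_of_ne (cf1_mem_Irr P) (hΛ l hl) (Finset.mem_erase.mp hl).1.symm]
    simp)
  have hpair := fun l hl => exists_pair (x := x l) (d := dg) (cf1_mem_B0 p ⊤) (hx1 l hl)
    (isLin_cf1 ⊤).dg (fun χ hχ => hd χ (B0_subset _ _ hχ))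
    (by rw [hgram l hl l hl, if_pos rfl, if_neg (hst l hl).2]; rfl) (Int.cast_injective (α := ℂ) (by
      have := hvan l hl 1 (by simp)
      rw [Finset.sum_congr rfl fun χ hχ => by rw [irr_one_eq (B0_subset _ _ hχ)]] at this
      push_cast
      exact this))
  choose! i hi j hj hie hje hij hxi hxj hx0 using hpair
  have hor : ∀ l ∈ Λ, ∀ l' ∈ Λ, i l = i l' ∨ j l = j l' := fun l hl l' hl' => by
    by_contra hc
    push Not at hc
    have h1 := hgram l hl l' hl'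
    rw [sum_three (cf1_mem_B0 p ⊤) (hi l hl) (hj l hl) (hie l hl) (hje l hl) (hij l hl)
      fun b hb a1 a2 a3 => by rw [hx0 l hl b hb a1 a2 a3, zero_mul], hx1 l hl, hx1 l' hl',
      hxi l hl, hxj l hl] at h1
    have h2 : x l' (i l) ≤ 0 := by
      by_cases e : i l = j l'
      · rw [e, hxj l' hl']; omega
      · exact (hx0 l' hl' _ (hi l hl) (hie l hl) hc.1 e).le
    have h3 : 0 ≤ x l' (j l) := by
      by_cases e : j l = i l'
      · rw [e, hxi l' hl']; omega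
      · exact (hx0 l' hl' _ (hj l hl) (hje l hl) e hc.2).ge
    split_ifs at h1 <;> omega
  have hval : ∀ χ ∈ B0 p ⊤, ∀ δ : ℤ, (∀ l ∈ Λ, x l χ = δ) →
      ∀ u ∈ P, u ≠ 1 → ∀ z ∈ M, χ (u * z) = δ := by
    intro χ hχ δ hδ u hu u1 z hz
    have hχ' := B0_subset _ _ hχ
    have h1 := B0_apply_mul hp (K := ⊤) (N := M) (y := 1) (mem_top u) (h.pow_eq hu)
      (one_mem_regSet _ _) (by rw [top_inf_eq, h.cent u hu u1]; exact h.normal) h.cop hz hχ
    rw [mul_one] at h1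
    have h2 := apply_eq_sum_irr (res_mem_CF le_top (irr_mem_CF hχ') : res P χ ∈ _) u
    have h3 := sum_irr_one_mul P u
    rw [if_neg u1, Finset.sum_congr rfl fun l hl => by rw [hone l hl, one_mul],
      ← Finset.add_sum_erase _ _ (cf1_mem_Irr P), cf1_of_mem hu] at h3
    rw [res_of_mem _ hu, ← Finset.add_sum_erase _ _ (cf1_mem_Irr P), cf1_of_mem hu, mul_one,
      ip_res_left, Finset.sum_congr rfl (g := fun l => (ip P χ (cf1 P) - δ) * l u) fun l hl => by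
        rw [ip_res_left, ← hδ l hl, ← hx χ hχ l hl, ip_sub_right, sub_sub_cancel],
      ← Finset.mul_sum] at h2
    rw [h1, h2]
    linear_combination (ip P χ (cf1 P) - δ) * h3
  obtain ⟨l, hl⟩ : Λ.Nonempty := by
    rw [← Finset.card_pos, Finset.card_erase_of_mem (cf1_mem_Irr P), card_Irr_of_comm h.comm]
    have := (one_lt_card_iff_ne_bot P).mpr hP
    omega
  have hy := fun y hy => (sum_three (f := fun χ => x l χ * χ y) (cf1_mem_B0 p ⊤) (hi l hl)
    (hj l hl) (hie l hl) (hje l hl) (hij l hl) fun b hb a1 a2 a3 => by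
      simp only [hx0 l hl b hb a1 a2 a3, Int.cast_zero, zero_mul]).symm.trans (hvan l hl y hy)
  simp only [hx1 l hl, hxi l hl, hxj l hl, cf1_of_mem (mem_top _)] at hy
  by_cases hall : ∀ l' ∈ Λ, i l' = i l
  · exact ⟨i l, B0_subset _ _ (hi l hl), j l, B0_subset _ _ (hj l hl), 1, Or.inl rfl, hie l hl,
      hje l hl, hval _ (hi l hl) 1 fun l' hl' => hall l' hl' ▸ hxi l' hl', fun y h1 => by
        have := hy y h1
        push_cast at this ⊢
        linear_combination -this⟩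
  · push Not at hall
    obtain ⟨l₁, hl₁, e₁⟩ := hall
    have e₂ := (hor l₁ hl₁ l hl).resolve_left e₁
    refine ⟨j l, B0_subset _ _ (hj l hl), i l, B0_subset _ _ (hi l hl), -1, Or.inr rfl, hje l hl,
      hie l hl, hval _ (hj l hl) (-1) fun l' hl' => ?_, fun y h1 => by
        have := hy y h1
        push_cast at this ⊢
        linear_combination this⟩
    rw [← hxj l' hl']
    rcases hor l' hl' l hl with e | e
    · rw [← e₂, (hor l' hl' l₁ hl₁).resolve_left fun e' => e₁ (e'.symm.trans e)]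
    · rw [e]

end Cfsg.Agent.H7.Two
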